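import Cfsg.Agent.Lib.Lie.TwistMult.Pairing
import Cfsg.Agent.Lib.Small.SchurLifts

/-!
Additive lifts of short root groups moved by the norm one torus, and pairings of lifts.
-/

set_option autoImplicit false
set_option linter.unusedSectionVars false

namespace Cfsg.Agent.Lie.TwistMult

open scoped commutatorElement
open Cfsg.Agent.Small.SchurLifts

variable {Γ G : Type*} [Group Γ] [Group G] (C : Central Γ G)

/-- Elements with commuting images and coprime orders modulo the kernel commute. -/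
theorem commute_coprime {a b : Γ} (hab : Commute (C.π a) (C.π b)) {m n : ℕ} (hm : C.π a ^ m = 1)
    (hn : C.π b ^ n = 1) (hmn : m.Coprime n) : Commute a b := by
  have hc : ⁅a, b⁆ ∈ Subgroup.center Γ := C.comm_central hab
  have hcomm : ∀ g : Γ, Commute ⁅a, b⁆ g := fun g => (Subgroup.mem_center_iff.1 hc g).symm
  have e : a * b = ⁅a, b⁆ * (b * a) := by rw [commutatorElement_def]; group
  have key : ∀ k : ℕ, a ^ k * b = ⁅a, b⁆ ^ k * (b * a ^ k) ∧ a * b ^ k = ⁅a, b⁆ ^ k * (b ^ k * a) := by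
    intro k
    induction k with
    | zero => simp
    | succ k ih =>
      refine ⟨?_, ?_⟩
      · rw [pow_succ, mul_assoc, e, ← mul_assoc (a ^ k), ← (hcomm (a ^ k)).eq, mul_assoc, ← mul_assoc (a ^ k),
          ih.1, pow_succ' ⁅a, b⁆]
        simp only [mul_assoc]
      · rw [pow_succ b, ← mul_assoc, ih.2, mul_assoc, mul_assoc (b ^ k) a b, e, ← mul_assoc (b ^ k) ⁅a, b⁆,
          ← (hcomm (b ^ k)).eq, pow_succ ⁅a, b⁆]
        simp only [mul_assoc]
  have hz : ∀ z : Γ, C.π z = 1 → ∀ g, z * g = g * z := fun z hz g =>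
    (Subgroup.mem_center_iff.1 (C.central hz) g).symm
  have h1 := (key m).1
  rw [hz (a ^ m) (by rw [map_pow, hm]) b] at h1
  have h2 := (key n).2
  rw [← hz (b ^ n) (by rw [map_pow, hn]) a] at h2
  have h1' : ⁅a, b⁆ ^ m = 1 := right_eq_mul.1 h1
  have h2' : ⁅a, b⁆ ^ n = 1 := right_eq_mul.1 h2
  refine commutatorElement_eq_one_iff_mul_comm.1 (orderOf_eq_one_iff.1 ?_)
  exact Nat.eq_one_of_dvd_coprimes hmn (orderOf_dvd_of_pow_eq_one h1') (orderOf_dvd_of_pow_eq_one h2')

variable {K : Type*} [Field K] [Fintype K] {q : ℕ} (hq : 2 ≤ q) (hK : Nat.card K = q ^ 3) {μ : Subgroup Kˣ}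
  (hμ : Nat.card μ = q ^ 2 + q + 1)

include hq hK hμ

theorem exists_moved : ∃ x ∈ μ, (x : K) ≠ 1 := by
  by_contra h
  simp only [not_exists, not_and, not_not] at h
  have : μ = ⊥ := (Subgroup.eq_bot_iff_forall _).2 fun x hx => Units.ext (h x hx)
  rw [this, Subgroup.card_bot] at hμ
  omega

variable (f : K → G) (hf : ∀ a b, f a * f b = f (a + b)) (tor : Kˣ → G)
  (htor : ∀ x ∈ μ, ∀ y ∈ μ, tor x * tor y = tor y * tor x)
  (hact : ∀ x ∈ μ, ∀ t, tor x * f t * (tor x)⁻¹ = f ((x : K) * t))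

include hf hact

/-- An element centralised by the torus and the root group lifts to one centralising the lifted root group. -/
theorem fixed_commute {a b : Γ} {u : K} (hb : C.π b = f u) (ha : ∀ t, Commute (C.π a) (f t))
    (hfix : ∀ x ∈ μ, tor x * C.π a * (tor x)⁻¹ = C.π a) : Commute a b := by
  obtain ⟨x, hx, hne⟩ := exists_moved hq hK hμ
  have h := C.pair_eq_one (f := fun _ => C.π a) (g := f) (fun _ t => ha t) hf (tor x) (x : K) hne
    (fun _ => hfix x hx) (hact x hx) (0 : K) u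
  refine C.commute_indep (a' := C.L (C.π a)) (b' := C.L (f u)) (by rw [C.π_L]) (by rw [C.π_L, hb]) ?_
  exact commutatorElement_eq_one_iff_mul_comm.1 h

theorem self_commute {a b : Γ} {t u : K} (ha : C.π a = f t) (hb : C.π b = f u) : Commute a b := by
  have hfg : ∀ t u, Commute (f t) (f u) := fun t u => by
    show f t * f u = f u * f t
    rw [hf, hf, add_comm]
  have hl : ∀ a b u, C.pair f f (a + b) u = C.pair f f a u * C.pair f f b u := fun a b u => by
    rw [C.pair_add_left hfg hf, Subgroup.mem_center_iff.1 (C.pair_central hfg a u)]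
  have := pair_trivial hq hK hμ (C.pair f f) hl (C.pair_add_right hfg hf)
    (fun x hx t u => C.pair_invariant hfg (hact x hx t) (hact x hx u)) t u
  refine C.commute_indep (a' := C.L (f t)) (b' := C.L (f u)) (by rw [C.π_L, ha]) (by rw [C.π_L, hb]) ?_
  exact commutatorElement_eq_one_iff_mul_comm.1 this

include htor in
/-- The canonical lift. -/
theorem exists_lift : ∃ l : K → Γ, (∀ a b, l a * l b = l (a + b)) ∧ (∀ t, C.π (l t) = f t) ∧
    ∀ g : Γ, ∀ x ∈ μ, C.π g = tor x → ∀ t, g * l t * g⁻¹ = l ((x : K) * t) := by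
  obtain ⟨x0, hx0, hne⟩ := exists_moved hq hK hμ
  have hd : (x0 : K) - 1 ≠ 0 := sub_ne_zero.2 hne
  have h0 : f 0 = 1 := by
    have := hf 0 0; rwa [add_zero, mul_eq_left] at this
  have hinv : ∀ v, (f v)⁻¹ = f (-v) := fun v => inv_eq_of_mul_eq_one_right (by rw [hf, add_neg_cancel, h0])
  have hproj : ∀ t, C.π ⁅C.L (tor x0), C.L (f (t / ((x0 : K) - 1)))⁆ = f t := fun t => by
    rw [map_commutatorElement, C.π_L, C.π_L, commutatorElement_def, hact x0 hx0, hinv, hf]
    congr 1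
    field_simp
    ring
  refine ⟨fun t => ⁅C.L (tor x0), C.L (f (t / ((x0 : K) - 1)))⁆, fun a b => ?_, hproj, fun g x hx hg t => ?_⟩
  · refine (Eq.trans (congrArg (fun v => ⁅C.L (tor x0), C.L (f v)⁆) (add_div a b _))
      (C.add_right f hf _ _ ?_)).symm
    exact self_commute C hq hK hμ f hf tor hact (C.π_L _) (hproj b)
  · refine C.conj_comm ?_ ?_
    · rw [map_mul, map_mul, map_inv, C.π_L, hg, htor x hx x0 hx0, mul_inv_cancel_right]
    · rw [map_mul, map_mul, map_inv, C.π_L, C.π_L, hg, hact x hx, mul_div_assoc]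

end Cfsg.Agent.Lie.TwistMult

namespace Cfsg.Agent.Lie.TwistMult

/-- The Jacobi identity makes a pairing invariant under the Frobenius of the cubic extension. -/
theorem frob_invariant {K : Type*} [Field K] {q : ℕ} (hq3 : ∀ x : K, ((x ^ q) ^ q) ^ q = x)
    (hqa : ∀ x y : K, (x + y) ^ q = x ^ q + y ^ q) {w0 : K} (hw0 : w0 ^ q ≠ w0) {Γ : Type*} [Group Γ]
    (lu lr ld φ : K → Γ) (ε : K) (hε : ε = 1 ∨ ε = -1) (ω : K → K → Γ)
    (hlu : ∀ a b, lu a * lu b = lu (a + b)) (hld : ∀ a b, ld a * ld b = ld (a + b))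
    (hφ : ∀ a b, φ a * φ b = φ (a + b))
    (hκ : ∀ u r, lu u * lr r * (lu u)⁻¹ =
      ld (ε * (r ^ q * (u ^ q) ^ q + (r ^ q) ^ q * u ^ q)) * ω u r * lr r)
    (hωu : ∀ u r v, Commute (lu v) (ω u r)) (hωd : ∀ u r v, Commute (ld v) (ω u r))
    (hωω : ∀ u r u' r', Commute (ω u r) (ω u' r'))
    (hpair : ∀ u t, lu u * ld t * (lu u)⁻¹ = φ (u * t) * ld t) (v : K) : φ (v ^ q) = φ v := by
  have h0 : φ 0 = 1 := by
    have := hφ 0 0; rwa [add_zero, mul_eq_left] at this
  obtain ⟨δ, hδ⟩ : ∃ δ : K → K → K, δ = fun u r => ε * (r ^ q * (u ^ q) ^ q + (r ^ q) ^ q * u ^ q) := ⟨_, rfl⟩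
  have hκ' : ∀ u r, lu u * lr r * (lu u)⁻¹ = ld (δ u r) * ω u r * lr r := fun u r => by rw [hδ]; exact hκ u r
  have two : ∀ u w r, lu u * (lu w * lr r * (lu w)⁻¹) * (lu u)⁻¹ =
      φ (u * δ w r) * (ld (δ w r + δ u r) * (ω w r * ω u r) * lr r) := by
    intro u w r
    rw [hκ', show lu u * (ld (δ w r) * ω w r * lr r) * (lu u)⁻¹ =
        lu u * ld (δ w r) * (lu u)⁻¹ * (lu u * ω w r * (lu u)⁻¹) * (lu u * lr r * (lu u)⁻¹) by group,
      hpair, (hωu w r u).eq, mul_inv_cancel_right, hκ', ← hld]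
    simp only [mul_assoc]
    rw [← mul_assoc (ω w r) (ld (δ u r)), ← (hωd w r (δ u r)).eq, mul_assoc]
  have sym : ∀ u w r, φ (u * δ w r) = φ (w * δ u r) := by
    intro u w r
    have h1 : lu u * (lu w * lr r * (lu w)⁻¹) * (lu u)⁻¹ = lu w * (lu u * lr r * (lu u)⁻¹) * (lu w)⁻¹ := by
      rw [show lu u * (lu w * lr r * (lu w)⁻¹) * (lu u)⁻¹ = (lu u * lu w) * lr r * (lu u * lu w)⁻¹ by group,
        hlu, add_comm, ← hlu]
      group
    rw [two, two, add_comm (δ u r), (hωω u r w r).eq] at h1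
    exact mul_right_cancel h1
  obtain ⟨A, hA⟩ : ∃ A : K, A = (w0 ^ q) ^ q - w0 := ⟨_, rfl⟩
  have hA0 : A ≠ 0 := by
    rw [hA, sub_ne_zero]
    intro h
    exact hw0 (by
      have := congrArg (fun x : K => x ^ q) h
      rw [hq3] at this
      exact this.symm)
  have hAq : A ^ q = w0 - w0 ^ q := by
    have := hqa ((w0 ^ q) ^ q - w0) (w0)
    rw [sub_add_cancel, hq3] at this
    rw [hA]
    exact eq_sub_of_add_eq this.symm
  have key : ∀ x, φ (x ^ q) = φ x := by
    intro x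
    obtain ⟨r, hr⟩ : ∃ r : K, r ^ q = x / A := ⟨((x / A) ^ q) ^ q, by rw [hq3]⟩
    have h := sym 1 w0 r
    have e : (1 : K) * δ w0 r = w0 * δ 1 r + ε * (x - x ^ q) := by
      simp only [hδ, one_pow, one_mul]
      rw [show r ^ q = x / A from hr, div_pow]
      field_simp [hA0, pow_ne_zero q hA0]
      rw [hAq, hA]
      ring
    rw [e, ← hφ, mul_eq_left] at h
    rcases hε with rfl | rfl
    · rw [one_mul] at h
      have h2 := hφ (x - x ^ q) (x ^ q)
      rwa [sub_add_cancel, h, one_mul] at h2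
    · rw [neg_one_mul, neg_sub] at h
      have h2 := hφ (x ^ q - x) x
      rw [sub_add_cancel, h, one_mul] at h2
      exact h2.symm
  exact key v

end Cfsg.Agent.Lie.TwistMult
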