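import Cfsg.Agent.Lib.Small.D4Degree.Fix
import Cfsg.Agent.Lib.Small.TwoGen.TwistedD4

/-!
Coordinates on the unipotent subgroup of ³D₄(q) inside the group itself.
-/

set_option autoImplicit false
set_option maxRecDepth 4000
set_option linter.unusedSectionVars false

namespace Cfsg.Agent.Lie.TwistMult.D4

open Cfsg.Lie Cfsg.Agent.Lie
open Cfsg.Agent.Lie.D4 (Setup)
open Cfsg.Agent.Small.D4Degree
open Cfsg.Agent.Small.D4Torus (tt nrm torChar_fin tt_mul tt_one)
open scoped MatrixGroups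

variable {K : Type*} [Field K] [Fintype K] {q : ℕ} (S : Setup K q)

/-- The group. -/
abbrev GT (K : Type*) [Field K] (q : ℕ) : Type _ := ↥(twistedD4 K q)

/-- The short root group b. -/
noncomputable def xB (u : K) : GT K q := ⟨A q u, A_mem S u⟩

include S in
theorem fix0 : (0 : K) ^ q = 0 := qzero S

/-- A fixed element of the radical. -/
noncomputable def qEl (b c d e f : K) (hb : b ^ q = b) (he : e ^ q = e) (hf : f ^ q = f) : GT K q :=
  ⟨Q q b c d e f, Q_fixed S hb he hf⟩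

/-- The short root group a + b. -/
noncomputable def xC (r : K) : GT K q := qEl S 0 r 0 0 0 (fix0 S) (fix0 S) (fix0 S)

/-- The short root group a + 2b. -/
noncomputable def xD (t : K) : GT K q := qEl S 0 0 t 0 0 (fix0 S) (fix0 S) (fix0 S)

theorem coe_xB (u : K) : (xB S u : GL chevD4.Idx K) = A q u := rfl

theorem coe_qEl {b c d e f : K} (hb : b ^ q = b) (he : e ^ q = e) (hf : f ^ q = f) :
    (qEl S b c d e f hb he hf : GL chevD4.Idx K) = Q q b c d e f := rfl

theorem A_eq (u : K) : A q u = (factsD4.sys K).prodOver [18, 13, 12] (Setup.cB q u) := by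
  simp [A, CommSys.prodOver, Facts.sys_x, Setup.cB, mul_assoc]

theorem xB_add (u v : K) : xB S u * xB S v = xB S (u + v) := by
  refine Subtype.ext ?_
  show A q u * A q v = A q (u + v)
  rw [A_eq, A_eq, A_eq, Cfsg.Agent.Small.TwoGen.D4.prodB_add S (Or.inl rfl)]

theorem xC_add (r r' : K) : xC S r * xC S r' = xC S (r + r') := by
  refine Subtype.ext ?_
  show Q q 0 r 0 0 0 * Q q 0 r' 0 0 0 = Q q 0 (r + r') 0 0 0
  rw [Q_mul S]
  simp [tr, qzero S]

theorem xD_add (t t' : K) : xD S t * xD S t' = xD S (t + t') := by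
  refine Subtype.ext ?_
  show Q q 0 0 t 0 0 * Q q 0 0 t' 0 0 = Q q 0 0 (t + t') 0 0
  rw [Q_mul S]
  simp [tr, qzero S]

/-- The bilinear term in the commutator of b and a + b. -/
def dlt (q : ℕ) (u r : K) : K := r ^ q * (u ^ q) ^ q + (r ^ q) ^ q * u ^ q

include S in
theorem dlt_pow (u r : K) : dlt q u r ^ q = (r ^ q) ^ q * u + r * (u ^ q) ^ q := by
  simp only [dlt, qadd S, mul_pow, S.pow_cube]

/-- The part in a + 3b of a conjugate. -/
def eps (q : ℕ) (u c : K) : K :=
  c * u ^ q * (u ^ q) ^ q + c ^ q * u * (u ^ q) ^ q + (c ^ q) ^ q * u * u ^ q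

/-- The part in 2a + 3b of a conjugate. -/
def zet (q : ℕ) (u c : K) : K :=
  -(c * c ^ q * (u ^ q) ^ q + c * (c ^ q) ^ q * u ^ q + c ^ q * (c ^ q) ^ q * u)

include S in
/-- Conjugation by the root group b. -/
theorem conjA_Q (u c d e f : K) : MulAut.conj (A q u) (Q q 0 c d e f) =
    Q q 0 c (d - dlt q u c) (e - tr q (u * d) + eps q u c) (f + zet q u c) := by
  rw [A, map_mul, map_mul, MulAut.mul_apply, MulAut.mul_apply, Q, conj12, conj13, conj18, Q]
  have h1 : -(d - dlt q u c) ^ q = -d ^ q + dlt q u c ^ q := by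
    rw [sub_eq_add_neg d, qadd S, qneg S]; ring
  have h2 : -((d - dlt q u c) ^ q) ^ q = -(d ^ q) ^ q + (dlt q u c ^ q) ^ q := by
    rw [sub_eq_add_neg d, qadd S, qneg S, qadd S, qneg S]; ring
  rw [h1, h2, dlt_pow S, qadd S, mul_pow, mul_pow, S.pow_cube]
  simp only [tr, mul_pow, dlt, eps, zet]
  have hu : u ^ q ^ 3 = u := by
    rw [← S.hK, Nat.card_eq_fintype_card]; exact FiniteField.pow_card u
  congr 1 <;> ring_nf <;> simp only [hu] <;> ring

/-- The central part. -/
def InW (g : GT K q) : Prop := ∃ e f, e ^ q = e ∧ f ^ q = f ∧ (g : GL chevD4.Idx K) = Q q 0 0 0 e f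

include S in
theorem tr_fix (x : K) : tr q x ^ q = tr q x := by
  simp only [tr, qadd S, S.pow_cube x]; ring

include S in
theorem tr_add (x y : K) : tr q (x + y) = tr q x + tr q y := by
  simp only [tr, qadd S]; ring

theorem xB_Q {u c d e f : K} (he : e ^ q = e) (hf : f ^ q = f) :
    ∃ (he' : (e - tr q (u * d) + eps q u c) ^ q = e - tr q (u * d) + eps q u c)
      (hf' : (f + zet q u c) ^ q = f + zet q u c),
    xB S u * qEl S 0 c d e f (fix0 S) he hf * (xB S u)⁻¹ =
      qEl S 0 c (d - dlt q u c) (e - tr q (u * d) + eps q u c) (f + zet q u c) (fix0 S) he' hf' := by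
  have h : A q u * Q q 0 c d e f * (A q u)⁻¹ =
      Q q 0 c (d - dlt q u c) (e - tr q (u * d) + eps q u c) (f + zet q u c) := conjA_Q S u c d e f
  have hm := (xB S u * qEl S 0 c d e f (fix0 S) he hf * (xB S u)⁻¹).2
  change A q u * Q q 0 c d e f * (A q u)⁻¹ ∈ twistedD4 K q at hm
  rw [h, Q] at hm
  obtain ⟨-, h2, h3, -⟩ := W_fix S hm
  exact ⟨h2, h3, Subtype.ext h⟩

theorem qEl_mul {b c d e f b' c' d' e' f' : K} (hb : b ^ q = b) (he : e ^ q = e) (hf : f ^ q = f)
    (hb' : b' ^ q = b') (he' : e' ^ q = e') (hf' : f' ^ q = f') :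
    ((qEl S b c d e f hb he hf * qEl S b' c' d' e' f' hb' he' hf' : GT K q) : GL chevD4.Idx K) =
      Q q (b + b') (c + c') (d + d') (e + e') (f + f' - e * b' + tr q (d * c')) := Q_mul S ..

include S in
theorem A_QW {u : K} (h : A q u ∈ QW K) : u = 0 := by
  obtain ⟨b, c1, c2, c3, d1, d2, d3, e, f, hW⟩ := h
  by_contra hu
  obtain ⟨c, hc⟩ := tr_surj S hu (one_pow q)
  have h1 : MulAut.conj (A q u) (Q q 0 0 c 0 0) = Q q 0 0 c (-1) 0 := by
    rw [conjA_Q S, hc]
    simp [dlt, eps, zet, qzero S]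
  rw [hW, MulAut.conj_apply, mul_inv_eq_iff_eq_mul] at h1
  simp only [Q, qzero S, neg_zero, mulW] at h1
  have := (W_inj h1).2.2.2.2.2.2.2.1
  rw [add_zero] at this
  first
    | exact one_ne_zero (neg_eq_zero.1 (add_eq_right.1 this.symm))
    | exact one_ne_zero (neg_eq_zero.1 (add_eq_left.1 this.symm))

end Cfsg.Agent.Lie.TwistMult.D4
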