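import Cfsg.Agent.Lib.Lie.TwistMult.D4Coord
import Cfsg.Agent.Lib.Lie.TwistMult.CanonLift

/-!
In a central extension of ³D₄(q) the commutators of the preimage of the unipotent subgroup miss the kernel.
-/

set_option autoImplicit false
set_option maxRecDepth 4000
set_option linter.unusedSectionVars false

namespace Cfsg.Agent.Lie.TwistMult.D4

open Cfsg.Lie Cfsg.Agent.Lie
open Cfsg.Agent.Lie.D4 (Setup)
open Cfsg.Agent.Small.D4Degree
open Cfsg.Agent.Small.D4Torus (tt nrm torChar_fin tt_mul tt_one crd_one)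
open Cfsg.Agent.Small.SchurLifts
open scoped MatrixGroups commutatorElement

variable {K : Type*} [Field K] [Fintype K] {q : ℕ} (S : Setup K q)

/-- The elements of norm one. -/
def mu (K : Type*) [Field K] (q : ℕ) : Subgroup Kˣ := (powMonoidHom (q ^ 2 + q + 1) : Kˣ →* Kˣ).ker

include S in
theorem card_mu : Nat.card (mu K q) = q ^ 2 + q + 1 := by
  have hq := S.hq
  rw [mu, IsCyclic.card_powMonoidHom_ker, Nat.card_units, S.hK]
  refine Nat.gcd_eq_right ⟨q - 1, ?_⟩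
  obtain ⟨n, rfl⟩ : ∃ n, q = n + 1 := ⟨q - 1, by omega⟩
  rw [Nat.add_sub_cancel, show (n + 1) ^ 3 = ((n + 1) ^ 2 + (n + 1) + 1) * n + 1 by ring, Nat.add_sub_cancel]

theorem mu_nrm {s : Kˣ} (hs : s ∈ mu K q) : s * s ^ q * (s ^ q) ^ q = 1 := by
  have h : s ^ (q ^ 2 + q + 1) = 1 := hs
  rw [pow_succ, pow_add, pow_two q, pow_mul] at h
  rw [← h]; ac_rfl

/-- The torus acting by squares. -/
noncomputable def tor2 : Kˣ →* GT K q where
  toFun x := ⟨tt S (x ^ ((q ^ 2 + q + 2) / 2)) 1, S.torus_mem (one_pow q)⟩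
  map_one' := Subtype.ext (by rw [one_pow]; exact tt_one S)
  map_mul' x y := Subtype.ext (by
    show tt S _ 1 = tt S _ 1 * tt S _ 1
    rw [tt_mul, one_mul, mul_pow])

theorem half_mem {x : Kˣ} (hx : x ∈ mu K q) :
    x ^ ((q ^ 2 + q + 2) / 2) ∈ mu K q ∧ (x ^ ((q ^ 2 + q + 2) / 2)) ^ 2 = x := by
  refine ⟨pow_mem hx _, ?_⟩
  have h : x ^ (q ^ 2 + q + 1) = 1 := hx
  obtain ⟨c, hc⟩ := Nat.even_mul_succ_self q
  have e : q ^ 2 + q = c + c := by rw [← hc]; ring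
  rw [← pow_mul, show (q ^ 2 + q + 2) / 2 * 2 = q ^ 2 + q + 1 + 1 by omega, pow_succ, h, one_mul]

theorem cartB : [18, 13, 12, 19, 17].map (fun r => (List.range 4).map fun i => chevD4.cartan i r) =
    [[2, -1, 0, 0], [0, -1, 2, 0], [0, -1, 0, 2], [1, 1, -1, -1], [-1, 0, 1, 1]] := by decide +kernel

theorem char_mu {s : Kˣ} (hs : s ∈ mu K q) :
    torChar chevD4 (S.crd s 1) 14 = 1 ∧ torChar chevD4 (S.crd s 1) 22 = 1 ∧
    torChar chevD4 (S.crd s 1) 23 = 1 ∧ torChar chevD4 (S.crd s 1) 18 = s ^ 2 ∧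
    torChar chevD4 (S.crd s 1) 13 = (s ^ 2) ^ q ∧ torChar chevD4 (S.crd s 1) 12 = ((s ^ 2) ^ q) ^ q ∧
    torChar chevD4 (S.crd s 1) 19 = s ^ 2 ∧ torChar chevD4 (S.crd s 1) 17 = (s ^ 2)⁻¹ := by
  have hn := mu_nrm hs
  obtain ⟨t14, t19, t22, t23⟩ := torChar_tab S s 1
  have h := cartB
  simp only [List.map_cons, List.map_nil, List.range_succ, List.range_zero, List.nil_append, List.cons_append,
    List.cons.injEq, and_true] at h
  obtain ⟨⟨a0, a1, a2, a3⟩, ⟨b0, b1, b2, b3⟩, ⟨c0, c1, c2, c3⟩, -, ⟨e0, e1, e2, e3⟩⟩ := h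
  have hinv : (s ^ q)⁻¹ * ((s ^ q) ^ q)⁻¹ = s := by
    rw [← _root_.mul_inv]
    exact inv_eq_of_mul_eq_one_left (by rw [← mul_assoc]; exact hn)
  refine ⟨?_, ?_, t23, ?_, ?_, ?_, ?_, ?_⟩
  · rw [t14, one_pow, mul_one, mul_assoc, hinv, inv_mul_cancel]
  · rw [t22, inv_one, mul_one, hn]
  · rw [torChar_fin, a0, a1, a2, a3]
    simp [Setup.crd, zpow_ofNat]
  · rw [torChar_fin, b0, b1, b2, b3]
    simp [Setup.crd, zpow_ofNat, ← pow_mul, mul_comm]
  · rw [torChar_fin, c0, c1, c2, c3]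
    simp [Setup.crd, zpow_ofNat, ← pow_mul, mul_comm, mul_left_comm, mul_assoc]
  · rw [t19, mul_one, mul_assoc, hinv, pow_two]
  · rw [torChar_fin, e0, e1, e2, e3]
    simp only [_root_.zpow_neg_one, _root_.zpow_zero, _root_.zpow_one, mul_one]
    show s⁻¹ * s ^ q * (s ^ q) ^ q = _
    rw [mul_assoc, show s ^ q * (s ^ q) ^ q = s⁻¹ from
      eq_inv_of_mul_eq_one_right (by rw [← mul_assoc]; exact hn), pow_two, _root_.mul_inv]

theorem tor2_B {x : Kˣ} (hx : x ∈ mu K q) (u : K) :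
    tor2 S x * xB S u * (tor2 S x)⁻¹ = xB S ((x : K) * u) := by
  obtain ⟨hs, hs2⟩ := half_mem hx
  obtain ⟨-, -, -, h18, h13, h12, -, -⟩ := char_mu S hs
  refine Subtype.ext ?_
  show MulAut.conj (tt S (x ^ ((q ^ 2 + q + 2) / 2)) 1) (A q u) = A q ((x : K) * u)
  simp only [A, map_mul, MulAut.conj_apply, tt, X]
  rw [factsD4.torus_conj _ (by decide +kernel), factsD4.torus_conj _ (by decide +kernel),
    factsD4.torus_conj _ (by decide +kernel), h18, h13, h12, hs2]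
  simp [mul_pow]

theorem tor2_Q {x : Kˣ} (hx : x ∈ mu K q) {b c d e f : K} (hb : b ^ q = b) (he : e ^ q = e) (hf : f ^ q = f) :
    tor2 S x * qEl S b c d e f hb he hf * (tor2 S x)⁻¹ =
      qEl S b ((x : K) * c) (((x⁻¹ : Kˣ) : K) * d) e f hb he hf := by
  obtain ⟨hs, hs2⟩ := half_mem hx
  obtain ⟨h14, h22, h23, -, -, -, h19, h17⟩ := char_mu S hs
  obtain ⟨C2, C3, D2, D3, hW⟩ := tt_conj S (x ^ ((q ^ 2 + q + 2) / 2)) 1 b c (-c ^ q) (-(c ^ q) ^ q)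
    d (-d ^ q) (-(d ^ q) ^ q) e f
  rw [h14, h22, h23, h19, h17, hs2] at hW
  simp only [Units.val_one, one_mul] at hW
  have hm := (tor2 S x * qEl S b c d e f hb he hf * (tor2 S x)⁻¹).2
  change MulAut.conj (tt S (x ^ ((q ^ 2 + q + 2) / 2)) 1) (Q q b c d e f) ∈ twistedD4 K q at hm
  rw [Q, hW] at hm
  refine Subtype.ext (Eq.trans ?_ (W_fix S hm).2.2.2)
  exact hW

include S in
theorem fixed_ex : ∃ w : K, w ^ q ≠ w := by
  by_contra h
  simp only [not_exists, not_not] at h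
  have e := card_pow_eq_self (q := q) (F := K) S.hq S.hK
  rw [Nat.card_congr (Equiv.subtypeUnivEquiv h), S.hK] at e
  have := S.hq
  nlinarith [Nat.pow_le_pow_left S.hq 2]

include S in
theorem exists_tr {e : K} (he : e ^ q = e) : ∃ v : K, -tr q v = e := by
  obtain ⟨v, hv⟩ := tr_surj S one_ne_zero (f := -e) (by rw [qneg S, he])
  exact ⟨v, by rw [← one_mul v, hv, neg_neg]⟩

include S in
/-- Additive Hilbert 90. -/
theorem tr_zero {M : Type*} [Group M] (φ : K → M) (hadd : ∀ a b, φ a * φ b = φ (a + b))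
    (hinv : ∀ v, φ (v ^ q) = φ v) {v : K} (hv : tr q v = 0) : φ v = 1 := by
  obtain ⟨θ, hθ⟩ := tr_surj S one_ne_zero (one_pow q : (1 : K) ^ q = 1)
  rw [one_mul, tr] at hθ
  obtain ⟨w, hw⟩ : ∃ w, w = v * θ ^ q + (v + v ^ q) * (θ ^ q) ^ q := ⟨_, rfl⟩
  have e : v + w ^ q = w := by
    have hv' : v ^ q + (v ^ q) ^ q = -v := by
      rw [tr] at hv; linear_combination hv
    rw [hw, qadd S, mul_pow, mul_pow, qadd S, hv', S.pow_cube]
    linear_combination (-v) * hθ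
  have h := hadd v (w ^ q)
  rw [e, hinv, mul_eq_right] at h
  exact h

section Part

variable {Γ G : Type*} [Group Γ] [Group G] (C : Central Γ G) (P : Subgroup Γ)

open scoped _root_.Classical in
/-- The central part relative to a subgroup meeting the kernel trivially. -/
noncomputable def part (g : Γ) : Γ :=
  if h : ∃ k ∈ P, C.π g = C.π k then g * h.choose⁻¹ else 1

variable {P} (hP : ∀ k ∈ P, C.π k = 1 → k = 1)

include hP in
theorem part_eq {g k : Γ} (hk : k ∈ P) (he : C.π g = C.π k) : part C P g = g * k⁻¹ := by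
  have h : ∃ k ∈ P, C.π g = C.π k := ⟨k, hk, he⟩
  rw [part, dif_pos h]
  have := hP _ (mul_mem (inv_mem h.choose_spec.1) hk)
    (by rw [map_mul, map_inv, ← h.choose_spec.2, ← he, inv_mul_cancel])
  rw [inv_mul_eq_one] at this
  rw [this]

include hP in
theorem part_spec {g : Γ} (hg : C.π g ∈ P.map C.π) :
    part C P g ∈ Subgroup.center Γ ∧ (part C P g = 1 → g ∈ P) := by
  obtain ⟨k, hk, he⟩ := hg
  rw [part_eq C hP hk he.symm]
  exact ⟨C.central (by rw [MonoidHom.mem_ker, map_mul, map_inv, he, mul_inv_cancel]),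
    fun h => mul_inv_eq_one.1 h ▸ hk⟩

include hP in
theorem part_conj {a g : Γ} (ha : ∀ k ∈ P, a * k * a⁻¹ ∈ P) (hg : C.π g ∈ P.map C.π) :
    part C P (a * g * a⁻¹) = part C P g := by
  obtain ⟨k, hk, he⟩ := hg
  rw [part_eq C hP hk he.symm, part_eq C hP (ha k hk) (by simp [he])]
  rw [show a * g * a⁻¹ * (a * k * a⁻¹)⁻¹ = a * (g * k⁻¹) * a⁻¹ by group,
    Subgroup.mem_center_iff.1 (C.central
      (by rw [MonoidHom.mem_ker, map_mul, map_inv, he, mul_inv_cancel] : g * k⁻¹ ∈ C.π.ker)) a,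
    mul_inv_cancel_right]

include hP in
theorem part_mul {g g' : Γ} (hg : C.π g ∈ P.map C.π) (hg' : C.π g' ∈ P.map C.π) :
    part C P (g * g') = part C P g * part C P g' := by
  obtain ⟨k, hk, he⟩ := hg
  obtain ⟨k', hk', he'⟩ := hg'
  rw [part_eq C hP hk he.symm, part_eq C hP hk' he'.symm, part_eq C hP (mul_mem hk hk') (by simp [he, he'])]
  have hz := Subgroup.mem_center_iff.1 (C.central
      (by rw [MonoidHom.mem_ker, map_mul, map_inv, he', mul_inv_cancel] : g' * k'⁻¹ ∈ C.π.ker))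
  rw [show g * g' * (k * k')⁻¹ = g * (g' * k'⁻¹) * k⁻¹ by group, mul_assoc g (g' * k'⁻¹) k⁻¹, ← hz k⁻¹,
    mul_assoc g k⁻¹]

include hP in
theorem part_comm {g g' : Γ} (hg' : C.π g' ∈ P.map C.π) :
    part C P g * part C P g' = part C P g' * part C P g :=
  Subgroup.mem_center_iff.1 (part_spec C hP hg').1 _

end Part

section Ext

variable {Γ : Type*} [Group Γ] (C : Central Γ (GT K q))

/-- An element of the top layer. -/
noncomputable def wEl (e f : K) (he : e ^ q = e) (hf : f ^ q = f) : GT K q :=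
  qEl S 0 0 0 e f (fix0 S) he hf

/-- Lifts of the short root groups. -/
structure Lifts where
  lx : K → Γ
  lc : K → Γ
  ld : K → Γ
  lx_add : ∀ a b, lx a * lx b = lx (a + b)
  lc_add : ∀ a b, lc a * lc b = lc (a + b)
  ld_add : ∀ a b, ld a * ld b = ld (a + b)
  πx : ∀ t, C.π (lx t) = xB S t
  πc : ∀ t, C.π (lc t) = xC S t
  πd : ∀ t, C.π (ld t) = xD S t
  torx : ∀ g : Γ, ∀ x ∈ mu K q, C.π g = tor2 S x → ∀ t, g * lx t * g⁻¹ = lx ((x : K) * t)
  torc : ∀ g : Γ, ∀ x ∈ mu K q, C.π g = tor2 S x → ∀ t, g * lc t * g⁻¹ = lc ((x : K) * t)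
  tord : ∀ g : Γ, ∀ x ∈ mu K q, C.π g = tor2 S x → ∀ t, g * ld t * g⁻¹ = ld (((x⁻¹ : Kˣ) : K) * t)

theorem tor2_comm (x y : Kˣ) : tor2 S x * tor2 S y = tor2 S y * tor2 S x := by
  rw [← map_mul, ← map_mul, mul_comm]

theorem tor2_xC {x : Kˣ} (hx : x ∈ mu K q) (t : K) : tor2 S x * xC S t * (tor2 S x)⁻¹ = xC S ((x : K) * t) := by
  rw [xC, tor2_Q S hx]
  simp only [mul_zero]
  rfl

theorem tor2_xD {x : Kˣ} (hx : x ∈ mu K q) (t : K) :
    tor2 S x⁻¹ * xD S t * (tor2 S x⁻¹)⁻¹ = xD S ((x : K) * t) := by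
  rw [xD, tor2_Q S (inv_mem hx), inv_inv]
  simp only [mul_zero]
  rfl

theorem nonempty_lifts : Nonempty (Lifts S C) := by
  have hq := S.hq
  obtain ⟨lx, ax, px, tx⟩ := exists_lift C hq S.hK (card_mu S) (xB S) (xB_add S) (tor2 S)
    (fun x _ y _ => tor2_comm S x y) (fun x hx t => tor2_B S hx t)
  obtain ⟨lc, ac, pc, tc⟩ := exists_lift C hq S.hK (card_mu S) (xC S) (xC_add S) (tor2 S)
    (fun x _ y _ => tor2_comm S x y) (fun x hx t => tor2_xC S hx t)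
  obtain ⟨ld, ad, pd, td⟩ := exists_lift C hq S.hK (card_mu S) (xD S) (xD_add S) (fun x => tor2 S x⁻¹)
    (fun x _ y _ => tor2_comm S _ _) (fun x hx t => tor2_xD S hx t)
  exact ⟨⟨lx, lc, ld, ax, ac, ad, px, pc, pd, tx, tc,
    fun g x hx hg t => td g x⁻¹ (inv_mem hx) (by rw [inv_inv]; exact hg) t⟩⟩

variable {C} (l : Lifts S C)

theorem wEl_comm {w : Γ} {e f : K} {he : e ^ q = e} {hf : f ^ q = f} (hw : C.π w = wEl S e f he hf) :
    (∀ t, Commute w (l.lx t)) ∧ (∀ t, Commute w (l.lc t)) ∧ ∀ t, Commute w (l.ld t) := by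
  have hfix : ∀ x ∈ mu K q, tor2 S x * C.π w * (tor2 S x)⁻¹ = C.π w := fun x hx => by
    rw [hw, wEl, tor2_Q S hx]; simp only [mul_zero]
  have h0 := qzero S
  refine ⟨fun t => ?_, fun t => ?_, fun t => ?_⟩
  · refine fixed_commute C S.hq S.hK (card_mu S) (xB S) (xB_add S) (tor2 S) (fun x hx t => tor2_B S hx t)
      (l.πx t) (fun u => ?_) hfix
    obtain ⟨he', hf', h⟩ := xB_Q S (u := u) (c := 0) (d := 0) he hf
    rw [hw]
    refine (mul_inv_eq_iff_eq_mul.1 (h.trans ?_)).symm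
    refine Subtype.ext ?_
    show Q q 0 0 _ _ _ = Q q 0 0 0 e f
    simp [dlt, eps, zet, tr, h0]
  · refine fixed_commute C S.hq S.hK (card_mu S) (xC S) (xC_add S) (tor2 S) (fun x hx t => tor2_xC S hx t)
      (l.πc t) (fun u => Subtype.ext ?_) hfix
    rw [hw, wEl, xC, qEl_mul, qEl_mul]
    simp [tr, h0, add_comm]
  · refine fixed_commute C S.hq S.hK (card_mu S) (xD S) (xD_add S) (fun x => tor2 S x⁻¹)
      (fun x hx t => tor2_xD S hx t) (l.πd t) (fun u => Subtype.ext ?_) (fun x hx => hfix _ (inv_mem hx))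
    rw [hw, wEl, xD, qEl_mul, qEl_mul]
    simp [tr, h0, add_comm]

theorem π_comm_xd (u t : K) : ∃ (e : K) (he : e ^ q = e), e = -tr q (u * t) ∧
    C.π ⁅l.lx u, l.ld t⁆ = wEl S e 0 he (fix0 S) := by
  obtain ⟨he', hf', h⟩ := xB_Q S (u := u) (c := 0) (d := t) (fix0 S) (fix0 S)
  have he : (-tr q (u * t)) ^ q = -tr q (u * t) := by rw [qneg S, tr_fix S]
  refine ⟨_, he, rfl, ?_⟩
  rw [map_commutatorElement, l.πx, l.πd, commutatorElement_def, mul_inv_eq_iff_eq_mul, xD, h]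
  refine Subtype.ext ?_
  rw [wEl, qEl_mul, coe_qEl]
  simp [dlt, eps, zet, tr, qzero S]

theorem π_comm_cd (r t : K) : ∃ (f : K) (hf : f ^ q = f), f = -tr q (r * t) ∧
    C.π ⁅l.lc r, l.ld t⁆ = wEl S 0 f (fix0 S) hf := by
  have hf : (-tr q (r * t)) ^ q = -tr q (r * t) := by rw [qneg S, tr_fix S]
  refine ⟨_, hf, rfl, ?_⟩
  rw [map_commutatorElement, l.πc, l.πd, commutatorElement_def, mul_inv_eq_iff_eq_mul,
    mul_inv_eq_iff_eq_mul, mul_assoc]
  refine Subtype.ext ?_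
  simp only [xC, xD, wEl, Subgroup.coe_mul, coe_qEl, Q_mul S]
  simp [tr, qzero S, mul_comm r t]
  congr 1
  ring

/-- A lift of an element of the top layer. -/
def IsW (w : Γ) : Prop := ∃ (e f : K) (he : e ^ q = e) (hf : f ^ q = f), C.π w = wEl S e f he hf

theorem isW_xd (u t : K) : IsW S (C := C) ⁅l.lx u, l.ld t⁆ := by
  obtain ⟨e, he, -, h⟩ := π_comm_xd S l u t
  exact ⟨e, 0, he, fix0 S, h⟩

theorem isW_cd (r t : K) : IsW S (C := C) ⁅l.lc r, l.ld t⁆ := by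
  obtain ⟨f, hf, -, h⟩ := π_comm_cd S l r t
  exact ⟨0, f, fix0 S, hf, h⟩

theorem IsW.comm {w : Γ} (hw : IsW S (C := C) w) :
    (∀ t, Commute w (l.lx t)) ∧ (∀ t, Commute w (l.lc t)) ∧ ∀ t, Commute w (l.ld t) := by
  obtain ⟨e, f, he, hf, h⟩ := hw
  exact wEl_comm S l h

include l in
theorem IsW.commute {w w' : Γ} (hw : IsW S (C := C) w) (hw' : IsW S (C := C) w') : Commute w w' := by
  obtain ⟨e, f, he, hf, h⟩ := hw'
  obtain ⟨a, ha⟩ := exists_tr S he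
  obtain ⟨b, hb⟩ := exists_tr S hf
  obtain ⟨e', he', e1, h1⟩ := π_comm_xd S l 1 a
  obtain ⟨f', hf', f1, h2⟩ := π_comm_cd S l 1 b
  rw [one_mul, ha] at e1
  rw [one_mul, hb] at f1
  obtain ⟨h1x, h1c, h1d⟩ := hw.comm S l
  have hcc : ∀ {x y : Γ}, Commute w x → Commute w y → Commute w ⁅x, y⁆ := fun {x y} hx hy => by
    rw [commutatorElement_def]; exact ((hx.mul_right hy).mul_right hx.inv_right).mul_right hy.inv_right
  refine C.commute_indep (a' := w) (b' := ⁅l.lx 1, l.ld a⁆ * ⁅l.lc 1, l.ld b⁆) rfl ?_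
    ((hcc (h1x 1) (h1d a)).mul_right (hcc (h1c 1) (h1d b)))
  rw [map_mul, h1, h2, h]
  refine Subtype.ext ?_
  subst e1 f1
  rw [wEl, wEl, wEl, qEl_mul]
  simp [coe_qEl, tr, qzero S]

include S in
theorem mu_pair {z : K → K → Γ} (hl : ∀ a b u, z (a + b) u = z a u * z b u)
    (hr : ∀ t a b, z t (a + b) = z t a * z t b)
    (hinv : ∀ x ∈ mu K q, ∀ t u, z ((x : K) * t) (((x⁻¹ : Kˣ) : K) * u) = z t u) (t u : K) :
    z t u = z 1 (t * u) := by
  refine pair_product S.hq S.hK (card_mu S) z hl hr (fun x hx t u => ?_) t u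
  have := hinv x hx t ((x : K) * u)
  rwa [Units.inv_mul_cancel_left] at this

/-- The map to the third layer. -/
noncomputable def phx (v : K) : Γ := ⁅l.lx 1, l.ld v⁆

/-- The map to the highest layer. -/
noncomputable def phc (v : K) : Γ := ⁅l.lc 1, l.ld v⁆

theorem pair_maps {la : K → Γ} (hla : ∀ a b, la a * la b = la (a + b))
    (hW : ∀ u t, IsW S (C := C) ⁅la u, l.ld t⁆) (hc : ∀ w, IsW S (C := C) w → ∀ u, Commute w (la u))
    (htor : ∀ g : Γ, ∀ x ∈ mu K q, C.π g = tor2 S x → ∀ t, g * la t * g⁻¹ = la ((x : K) * t))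
    (hfix : ∀ x ∈ mu K q, ∀ w, IsW S (C := C) w → Commute (C.L (tor2 S x)) w) :
    (∀ a b, ⁅la 1, l.ld a⁆ * ⁅la 1, l.ld b⁆ = ⁅la 1, l.ld (a + b)⁆) ∧
    ∀ u t, la u * l.ld t * (la u)⁻¹ = ⁅la 1, l.ld (u * t)⁆ * l.ld t := by
  have hr : ∀ u a b, ⁅la u, l.ld (a + b)⁆ = ⁅la u, l.ld a⁆ * ⁅la u, l.ld b⁆ := fun u a b => by
    rw [← l.ld_add, show ⁅la u, l.ld a * l.ld b⁆ = ⁅la u, l.ld a⁆ * (l.ld a * ⁅la u, l.ld b⁆ * (l.ld a)⁻¹) by
      simp only [commutatorElement_def]; group, ← ((hW u b).comm S l).2.2 a |>.eq, mul_inv_cancel_right]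
  have hl : ∀ a b t, ⁅la (a + b), l.ld t⁆ = ⁅la a, l.ld t⁆ * ⁅la b, l.ld t⁆ := fun a b t => by
    rw [← hla, show ⁅la a * la b, l.ld t⁆ = la a * ⁅la b, l.ld t⁆ * (la a)⁻¹ * ⁅la a, l.ld t⁆ by
      simp only [commutatorElement_def]; group, ← (hc _ (hW b t) a).eq, mul_inv_cancel_right,
      ((hW b t).commute S l (hW a t)).eq]
  refine ⟨fun a b => (hr 1 a b).symm, fun u t => ?_⟩
  have key := mu_pair S (z := fun u t => ⁅la u, l.ld t⁆) hl hr (fun x hx u t => by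
    have h1 := htor _ x hx (C.π_L (tor2 S x)) u
    have h2 := l.tord _ x hx (C.π_L (tor2 S x)) t
    show ⁅la _, l.ld _⁆ = ⁅la u, l.ld t⁆
    rw [← h1, ← h2, ← conjugate_commutatorElement, (hfix x hx _ (hW u t)).eq, mul_inv_cancel_right]) u t
  rw [← key, commutatorElement_def, inv_mul_cancel_right]

theorem tor_fix {x : Kˣ} (hx : x ∈ mu K q) {w : Γ} (hw : IsW S (C := C) w) :
    Commute (C.L (tor2 S x)) w := by
  obtain ⟨p, f, hp, hf, hq'⟩ : ∃ p f : ℕ, p.Prime ∧ 0 < f ∧ p ^ f = q := by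
    have : IsPrimePow q := by
      obtain ⟨n, hp, hn⟩ := FiniteField.card K (ringChar K)
      have h3 : q ^ 3 = ringChar K ^ (n : ℕ) := by rw [← S.hK, Nat.card_eq_fintype_card]; exact hn
      have hd : q ∣ ringChar K ^ (n : ℕ) := h3 ▸ dvd_pow_self q (by norm_num)
      obtain ⟨i, -, hi⟩ := (Nat.dvd_prime_pow hp).1 hd
      refine hi ▸ hp.isPrimePow.pow ?_
      rintro rfl
      have := S.hq
      rw [pow_zero] at hi
      omega
    obtain ⟨p, f, hp, hf, h⟩ := this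
    exact ⟨p, f, Nat.prime_iff.2 hp, hf, h⟩
  obtain ⟨e, g, he, hg, h⟩ := hw
  refine commute_coprime C (m := q ^ 2 + q + 1) (n := q) ?_ ?_ ?_ ?_
  · rw [C.π_L, h]
    refine mul_inv_eq_iff_eq_mul.1 ?_
    rw [wEl, tor2_Q S hx]
    simp only [mul_zero]
  · rw [C.π_L, ← map_pow, show x ^ (q ^ 2 + q + 1) = 1 from hx, map_one]
  · rw [h]
    have hpow : ∀ n : ℕ, ((wEl S e g he hg ^ n : GT K q) : GL chevD4.Idx K) =
        Q q 0 0 0 ((n : K) * e) ((n : K) * g) := by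
      intro n
      induction n with
      | zero => simp [Q_zero S]
      | succ n ih =>
        rw [pow_succ, Subgroup.coe_mul, ih, wEl, coe_qEl, Q_mul S, Nat.cast_succ]
        simp only [tr, qzero S, mul_zero, zero_mul, add_zero, sub_zero, add_mul, one_mul]
    refine Subtype.ext ?_
    have hq0 : (q : K) = 0 := by
      have h0 : ((Fintype.card K : ℕ) : K) = 0 := Nat.cast_card_eq_zero K
      rw [← Nat.card_eq_fintype_card, S.hK, Nat.cast_pow] at h0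
      exact pow_eq_zero_iff (by norm_num) |>.1 h0
    rw [hpow, hq0, zero_mul, zero_mul, Q_zero S]
    rfl
  · rw [Nat.coprime_comm, ← hq']
    refine Nat.Coprime.pow_left _ ((hp.coprime_iff_not_dvd).2 fun hd => hp.not_dvd_one ?_)
    have hdq : p ∣ p ^ f := dvd_pow_self p (by omega)
    exact (Nat.dvd_add_right (dvd_add (dvd_pow hdq two_ne_zero) hdq)).1 hd

theorem phx_spec : (∀ a b, phx S l a * phx S l b = phx S l (a + b)) ∧
    ∀ u t, l.lx u * l.ld t * (l.lx u)⁻¹ = phx S l (u * t) * l.ld t :=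
  pair_maps S l l.lx_add (fun u t => isW_xd S l u t) (fun _ hw u => (hw.comm S l).1 u) l.torx
    (fun _ hx _ hw => tor_fix S hx hw)

theorem phc_spec : (∀ a b, phc S l a * phc S l b = phc S l (a + b)) ∧
    ∀ u t, l.lc u * l.ld t * (l.lc u)⁻¹ = phc S l (u * t) * l.ld t :=
  pair_maps S l l.lc_add (fun u t => isW_cd S l u t) (fun _ hw u => (hw.comm S l).2.1 u) l.torc
    (fun _ hx _ hw => tor_fix S hx hw)

/-- The commutator of b and a + b. -/
noncomputable def kap (u r : K) : Γ := l.lx u * l.lc r * (l.lx u)⁻¹ * (l.lc r)⁻¹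

theorem π_kap (u r : K) : ∃ (e f : K) (he : e ^ q = e) (hf : f ^ q = f),
    C.π (kap S l u r) = qEl S 0 0 (-dlt q u r) e f (fix0 S) he hf := by
  obtain ⟨he, hf, h⟩ := xB_Q S (u := u) (c := r) (d := 0) (fix0 S) (fix0 S)
  have hf2 : (0 + zet q u r - tr q (-dlt q u r * r)) ^ q = 0 + zet q u r - tr q (-dlt q u r * r) := by
    rw [sub_eq_add_neg, qadd S, qneg S, tr_fix S, hf]
  refine ⟨_, _, he, hf2, ?_⟩
  rw [kap, map_mul, map_mul, map_mul, map_inv, map_inv, l.πx, l.πc, mul_inv_eq_iff_eq_mul, xC, h]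
  refine Subtype.ext ?_
  rw [qEl_mul, coe_qEl]
  simp

theorem isW_omega (u r : K) : IsW S (C := C) ((l.ld (-dlt q u r))⁻¹ * kap S l u r) := by
  obtain ⟨e, f, he, hf, h⟩ := π_kap S l u r
  refine ⟨e, f, he, hf, ?_⟩
  rw [map_mul, map_inv, l.πd, h, inv_mul_eq_iff_eq_mul]
  refine Subtype.ext ?_
  rw [xD, wEl, qEl_mul, coe_qEl]
  simp [tr, qzero S]

theorem phx_pow (v : K) : phx S l (v ^ q) = phx S l v := by
  obtain ⟨w0, hw0⟩ := fixed_ex S
  refine frob_invariant S.pow_cube (qadd S) hw0 l.lx l.lc l.ld (phx S l) (-1) (Or.inr rfl)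
    (fun u r => (l.ld (-dlt q u r))⁻¹ * kap S l u r) l.lx_add l.ld_add (phx_spec S l).1 (fun u r => ?_)
    (fun u r v => ((isW_omega S l u r).comm S l).1 v |>.symm)
    (fun u r v => ((isW_omega S l u r).comm S l).2.2 v |>.symm)
    (fun u r u' r' => (isW_omega S l u r).commute S l (isW_omega S l u' r')) (phx_spec S l).2 v
  rw [neg_one_mul, ← dlt, mul_inv_cancel_left, kap, inv_mul_cancel_right]

theorem phc_pow (v : K) : phc S l (v ^ q) = phc S l v := by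
  obtain ⟨w0, hw0⟩ := fixed_ex S
  refine frob_invariant S.pow_cube (qadd S) hw0 l.lc l.lx l.ld (phc S l) 1 (Or.inl rfl)
    (fun r u => ((l.ld (-dlt q u r))⁻¹ * kap S l u r)⁻¹) l.lc_add l.ld_add (phc_spec S l).1 (fun r u => ?_)
    (fun r u v => ((isW_omega S l u r).comm S l).2.1 v |>.symm.inv_right)
    (fun r u v => ((isW_omega S l u r).comm S l).2.2 v |>.symm.inv_right)
    (fun r u r' u' => ((isW_omega S l u r).commute S l (isW_omega S l u' r')).inv_inv) (phc_spec S l).2 v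
  have e : 1 * (u ^ q * (r ^ q) ^ q + (u ^ q) ^ q * r ^ q) = dlt q u r := by rw [dlt]; ring
  rw [e, (((isW_omega S l u r).comm S l).2.2 _).symm.inv_right.eq]
  have h : ∀ a, (l.ld a)⁻¹ = l.ld (-a) := fun a => inv_eq_of_mul_eq_one_right (by
    have h0 : l.ld 0 = 1 := by have := l.ld_add 0 0; rwa [add_zero, mul_eq_left] at this
    rw [l.ld_add, add_neg_cancel, h0])
  rw [h, neg_neg, kap]
  group

theorem ph_zero {v : K} (hv : tr q v = 0) : phx S l v = 1 ∧ phc S l v = 1 :=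
  ⟨tr_zero S _ (phx_spec S l).1 (phx_pow S l) hv, tr_zero S _ (phc_spec S l).1 (phc_pow S l) hv⟩

theorem ld_zero : l.ld 0 = 1 ∧ l.lx 0 = 1 ∧ l.lc 0 = 1 ∧ phx S l 0 = 1 ∧ phc S l 0 = 1 := by
  have h1 := l.ld_add 0 0
  have h2 := l.lx_add 0 0
  have h3 := l.lc_add 0 0
  rw [add_zero, mul_eq_left] at h1 h2 h3
  exact ⟨h1, h2, h3, by rw [phx, h1, commutatorElement_one_right], by rw [phc, h1, commutatorElement_one_right]⟩

theorem q1_mul (t a b t' a' b' : K) :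
    l.ld t * phx S l a * phc S l b * (l.ld t' * phx S l a' * phc S l b') =
      l.ld (t + t') * phx S l (a + a') * phc S l (b + b') := by
  rw [← l.ld_add, ← (phx_spec S l).1, ← (phc_spec S l).1]
  have h1 := ((isW_xd S l 1 a).comm S l).2.2 t'
  have h2 := ((isW_cd S l 1 b).comm S l).2.2 t'
  have h3 := (isW_cd S l 1 b).commute S l (isW_xd S l 1 a')
  simp only [← phx.eq_def, ← phc.eq_def] at h1 h2 h3
  simp only [mul_assoc]
  rw [← mul_assoc (phc S l b) (l.ld t'), h2.eq, mul_assoc (l.ld t'), ← mul_assoc (phx S l a) (l.ld t'), h1.eq,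
    mul_assoc (l.ld t'), ← mul_assoc (phc S l b) (phx S l a'), h3.eq, mul_assoc (phx S l a')]

/-- The layers a + 2b, a + 3b, 2a + 3b. -/
noncomputable def Q1 : Subgroup Γ where
  carrier := {g | ∃ t a b, g = l.ld t * phx S l a * phc S l b}
  one_mem' := ⟨0, 0, 0, by
    obtain ⟨h1, -, -, h4, h5⟩ := ld_zero S l
    rw [h1, h4, h5, mul_one, mul_one]⟩
  mul_mem' := by
    rintro _ _ ⟨t, a, b, rfl⟩ ⟨t', a', b', rfl⟩
    exact ⟨_, _, _, q1_mul S l t a b t' a' b'⟩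
  inv_mem' := by
    rintro _ ⟨t, a, b, rfl⟩
    refine ⟨-t, -a, -b, inv_eq_of_mul_eq_one_right ?_⟩
    obtain ⟨h1, -, -, h4, h5⟩ := ld_zero S l
    rw [q1_mul, add_neg_cancel, add_neg_cancel, add_neg_cancel, h1, h4, h5, mul_one, mul_one]

theorem π_q1 (t a b : K) :
    ((C.π (l.ld t * phx S l a * phc S l b) : GT K q) : GL chevD4.Idx K) =
      Q q 0 0 t (-tr q a) (-tr q b) := by
  obtain ⟨e, he, e1, h1⟩ := π_comm_xd S l 1 a
  obtain ⟨f, hf, f1, h2⟩ := π_comm_cd S l 1 b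
  rw [one_mul] at e1 f1
  subst e1 f1
  rw [map_mul, map_mul, l.πd, phx, phc, h1, h2]
  simp only [xD, wEl, Subgroup.coe_mul, coe_qEl, Q_mul S]
  simp [tr, qzero S]

theorem q1_inj : ∀ k ∈ Q1 S l, C.π k = 1 → k = 1 := by
  rintro k ⟨t, a, b, rfl⟩ hk
  have h : Q q 0 0 t (-tr q a) (-tr q b) = Q q 0 0 0 0 (0 : K) := by
    rw [← π_q1 S l, hk, Q_zero S]; rfl
  simp only [Q] at h
  obtain ⟨-, -, -, -, ht, -, -, he, hf⟩ := W_inj h
  obtain ⟨h1, -, -, -, -⟩ := ld_zero S l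
  rw [ht, h1, (ph_zero S l (neg_eq_zero.1 he)).1, (ph_zero S l (neg_eq_zero.1 hf)).2, mul_one, mul_one]

theorem q1_mem {g : Γ} {d e f : K} {he : e ^ q = e} {hf : f ^ q = f}
    (h : C.π g = qEl S 0 0 d e f (fix0 S) he hf) : C.π g ∈ (Q1 S l).map C.π := by
  obtain ⟨a, ha⟩ := exists_tr S he
  obtain ⟨b, hb⟩ := exists_tr S hf
  refine ⟨_, ⟨d, a, b, rfl⟩, Subtype.ext ?_⟩
  rw [π_q1, ha, hb, h]
  rfl

theorem isW_mem {w : Γ} (hw : IsW S (C := C) w) : C.π w ∈ (Q1 S l).map C.π := by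
  obtain ⟨e, f, he, hf, h⟩ := hw
  exact q1_mem S l h

theorem q1_conj {a : Γ} (hx : ∀ t, a * l.ld t * a⁻¹ ∈ Q1 S l) (hw : ∀ v, Commute a (phx S l v))
    (hw' : ∀ v, Commute a (phc S l v)) : ∀ k ∈ Q1 S l, a * k * a⁻¹ ∈ Q1 S l := by
  obtain ⟨h1, -, -, h4, h5⟩ := ld_zero S l
  rintro _ ⟨t, u, v, rfl⟩
  rw [show a * (l.ld t * phx S l u * phc S l v) * a⁻¹ =
      a * l.ld t * a⁻¹ * (a * phx S l u * a⁻¹) * (a * phc S l v * a⁻¹) by group, (hw u).eq, (hw' v).eq,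
    mul_inv_cancel_right, mul_inv_cancel_right]
  exact mul_mem (mul_mem (hx t) ⟨0, u, 0, by rw [h1, h5, one_mul, mul_one]⟩)
    ⟨0, 0, v, by rw [h1, h4, mul_one, one_mul]⟩

theorem q1_gens (t : K) : l.ld t ∈ Q1 S l ∧ phx S l t ∈ Q1 S l ∧ phc S l t ∈ Q1 S l := by
  obtain ⟨h1, -, -, h4, h5⟩ := ld_zero S l
  exact ⟨⟨t, 0, 0, by rw [h4, h5, mul_one, mul_one]⟩, ⟨0, t, 0, by rw [h1, h5, one_mul, mul_one]⟩,
    ⟨0, 0, t, by rw [h1, h4, mul_one, one_mul]⟩⟩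

theorem lx_q1 (u : K) : ∀ k ∈ Q1 S l, l.lx u * k * (l.lx u)⁻¹ ∈ Q1 S l := by
  refine q1_conj S l (fun t => ?_) (fun v => (((isW_xd S l 1 v).comm S l).1 u).symm)
    (fun v => (((isW_cd S l 1 v).comm S l).1 u).symm)
  rw [(phx_spec S l).2]
  exact mul_mem (q1_gens S l _).2.1 (q1_gens S l _).1

theorem lc_q1 (r : K) : ∀ k ∈ Q1 S l, l.lc r * k * (l.lc r)⁻¹ ∈ Q1 S l := by
  refine q1_conj S l (fun t => ?_) (fun v => (((isW_xd S l 1 v).comm S l).2.1 r).symm)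
    (fun v => (((isW_cd S l 1 v).comm S l).2.1 r).symm)
  rw [(phc_spec S l).2]
  exact mul_mem (q1_gens S l _).2.2 (q1_gens S l _).1

theorem tor_q1 {x : Kˣ} (hx : x ∈ mu K q) :
    ∀ k ∈ Q1 S l, C.L (tor2 S x) * k * (C.L (tor2 S x))⁻¹ ∈ Q1 S l :=
  q1_conj S l (fun t => by rw [l.tord _ x hx (C.π_L _)]; exact (q1_gens S l _).1)
    (fun v => tor_fix S hx (isW_xd S l 1 v)) (fun v => tor_fix S hx (isW_cd S l 1 v))

theorem kap_mem (u r : K) : kap S l u r ∈ Q1 S l := by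
  have hdom : ∀ u r, C.π (kap S l u r) ∈ (Q1 S l).map C.π := fun u r => by
    obtain ⟨e, f, he, hf, h⟩ := π_kap S l u r
    exact q1_mem S l h
  have hi := q1_inj S l
  refine (part_spec C hi (hdom u r)).2 ?_
  refine pair_trivial S.hq S.hK (card_mu S) (fun u r => part C (Q1 S l) (kap S l u r)) (fun a b r => ?_)
    (fun u r r' => ?_) (fun x hx u r => ?_) u r
  · show part C _ _ = _
    have e : kap S l (a + b) r = l.lx a * kap S l b r * (l.lx a)⁻¹ * kap S l a r := by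
      simp only [kap, ← l.lx_add]; group
    have hd : C.π (l.lx a * kap S l b r * (l.lx a)⁻¹) ∈ (Q1 S l).map C.π := by
      obtain ⟨k, hk, hk'⟩ := hdom b r
      exact ⟨_, lx_q1 S l a k hk, by simp [hk']⟩
    rw [e, part_mul C hi hd (hdom a r), part_conj C hi (lx_q1 S l a) (hdom b r),
      part_comm C hi (hdom a r)]
  · show part C _ _ = _
    have e : kap S l u (r + r') = kap S l u r * (l.lc r * kap S l u r' * (l.lc r)⁻¹) := by
      simp only [kap, ← l.lc_add]; group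
    have hd : C.π (l.lc r * kap S l u r' * (l.lc r)⁻¹) ∈ (Q1 S l).map C.π := by
      obtain ⟨k, hk, hk'⟩ := hdom u r'
      exact ⟨_, lc_q1 S l r k hk, by simp [hk']⟩
    rw [e, part_mul C hi (hdom u r) hd, part_conj C hi (lc_q1 S l r) (hdom u r')]
  · show part C _ _ = part C _ _
    have e : kap S l ((x : K) * u) ((x : K) * r) = C.L (tor2 S x) * kap S l u r * (C.L (tor2 S x))⁻¹ := by
      simp only [kap, ← l.torx _ x hx (C.π_L _), ← l.torc _ x hx (C.π_L _)]; group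
    rw [e, part_conj C hi (tor_q1 S l hx) (hdom u r)]

/-- The radical without its first layer. -/
noncomputable def Q2 : Subgroup Γ where
  carrier := {g | ∃ r, ∃ k ∈ Q1 S l, g = l.lc r * k}
  one_mem' := ⟨0, 1, one_mem _, by rw [(ld_zero S l).2.2.1, mul_one]⟩
  mul_mem' := by
    rintro _ _ ⟨r, k, hk, rfl⟩ ⟨r', k', hk', rfl⟩
    refine ⟨r + r', l.lc (-r') * k * (l.lc (-r'))⁻¹ * k', mul_mem (lc_q1 S l _ k hk) hk', ?_⟩
    have : (l.lc (-r'))⁻¹ = l.lc r' := inv_eq_of_mul_eq_one_right (by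
      rw [l.lc_add, neg_add_cancel, (ld_zero S l).2.2.1])
    rw [← l.lc_add, this, show l.lc (-r') = (l.lc r')⁻¹ by rw [← this, inv_inv]]
    group
  inv_mem' := by
    rintro _ ⟨r, k, hk, rfl⟩
    refine ⟨-r, l.lc r * k⁻¹ * (l.lc r)⁻¹, lc_q1 S l r _ (inv_mem hk), ?_⟩
    rw [show l.lc (-r) = (l.lc r)⁻¹ from (inv_eq_of_mul_eq_one_right (by
      rw [l.lc_add, add_neg_cancel, (ld_zero S l).2.2.1])).symm]
    group

theorem lx_q2 (u : K) : ∀ k ∈ Q2 S l, l.lx u * k * (l.lx u)⁻¹ ∈ Q2 S l := by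
  rintro _ ⟨r, k, hk, rfl⟩
  rw [show l.lx u * (l.lc r * k) * (l.lx u)⁻¹ = kap S l u r * (l.lc r) * (l.lx u * k * (l.lx u)⁻¹) by
    simp only [kap]; group]
  have h1 : ∀ k ∈ Q1 S l, k ∈ Q2 S l := fun k hk => ⟨0, k, hk, by rw [(ld_zero S l).2.2.1, one_mul]⟩
  exact mul_mem (mul_mem (h1 _ (kap_mem S l u r)) ⟨r, 1, one_mem _, (mul_one _).symm⟩) (h1 _ (lx_q1 S l u k hk))

/-- The lift of the unipotent subgroup without a. -/
noncomputable def Dsub : Subgroup Γ where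
  carrier := {g | ∃ u, ∃ k ∈ Q2 S l, g = l.lx u * k}
  one_mem' := ⟨0, 1, one_mem _, by rw [(ld_zero S l).2.1, mul_one]⟩
  mul_mem' := by
    rintro _ _ ⟨r, k, hk, rfl⟩ ⟨r', k', hk', rfl⟩
    refine ⟨r + r', l.lx (-r') * k * (l.lx (-r'))⁻¹ * k', mul_mem (lx_q2 S l _ k hk) hk', ?_⟩
    have : (l.lx (-r'))⁻¹ = l.lx r' := inv_eq_of_mul_eq_one_right (by
      rw [l.lx_add, neg_add_cancel, (ld_zero S l).2.1])
    rw [← l.lx_add, this, show l.lx (-r') = (l.lx r')⁻¹ by rw [← this, inv_inv]]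
    group
  inv_mem' := by
    rintro _ ⟨r, k, hk, rfl⟩
    refine ⟨-r, l.lx r * k⁻¹ * (l.lx r)⁻¹, lx_q2 S l r _ (inv_mem hk), ?_⟩
    rw [show l.lx (-r) = (l.lx r)⁻¹ from (inv_eq_of_mul_eq_one_right (by
      rw [l.lx_add, add_neg_cancel, (ld_zero S l).2.1])).symm]
    group

theorem π_q2 {k : Γ} (hk : k ∈ Q2 S l) : ∃ (c d e f : K) (he : e ^ q = e) (hf : f ^ q = f),
    C.π k = qEl S 0 c d e f (fix0 S) he hf ∧ (c = 0 → k ∈ Q1 S l) := by
  obtain ⟨r, k, ⟨t, a, b, rfl⟩, rfl⟩ := hk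
  have he : (-tr q a) ^ q = -tr q a := by rw [qneg S, tr_fix S]
  have hf : (-tr q b) ^ q = -tr q b := by rw [qneg S, tr_fix S]
  refine ⟨r, t, -tr q a, -tr q b, he, hf, Subtype.ext ?_, fun hc => ?_⟩
  · rw [map_mul, l.πc, Subgroup.coe_mul, π_q1, xC, coe_qEl, coe_qEl, Q_mul S]
    simp [tr, qzero S]
  · subst hc
    rw [(ld_zero S l).2.2.1, one_mul]
    exact ⟨t, a, b, rfl⟩

theorem q2_inj : ∀ k ∈ Q2 S l, C.π k = 1 → k = 1 := by
  intro k hk h1
  obtain ⟨c, d, e, f, he, hf, h, hc⟩ := π_q2 S l hk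
  have h' : Q q 0 c d e f = Q q 0 0 0 0 (0 : K) := by
    rw [← coe_qEl S (fix0 S) he hf, ← h, h1, Q_zero S]; rfl
  simp only [Q] at h'
  exact q1_inj S l k (hc (W_inj h').2.1) h1

theorem dsub_inj : ∀ k ∈ Dsub S l, C.π k = 1 → k = 1 := by
  rintro _ ⟨u, k, hk, rfl⟩ h1
  obtain ⟨c, d, e, f, he, hf, h, -⟩ := π_q2 S l hk
  have h2 : A q u ∈ QW K := by
    rw [map_mul, l.πx, h, mul_eq_one_iff_eq_inv] at h1
    rw [← coe_xB S, h1, InvMemClass.coe_inv]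
    exact inv_mem ⟨_, _, _, _, _, _, _, _, _, rfl⟩
  have hu := A_QW S h2
  subst hu
  rw [(ld_zero S l).2.1, one_mul] at h1 ⊢
  exact q2_inj S l k hk h1

theorem q2_mem {g : Γ} {c d e f : K} {he : e ^ q = e} {hf : f ^ q = f}
    (h : C.π g = qEl S 0 c d e f (fix0 S) he hf) : C.π g ∈ (Q2 S l).map C.π := by
  have : C.π ((l.lc c)⁻¹ * g) = qEl S 0 0 d e f (fix0 S) he hf := by
    rw [map_mul, map_inv, l.πc, h, inv_mul_eq_iff_eq_mul]
    refine Subtype.ext ?_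
    rw [xC, qEl_mul, coe_qEl]
    simp [tr, qzero S]
  obtain ⟨k, hk, hk'⟩ := q1_mem S l this
  exact ⟨l.lc c * k, ⟨c, k, hk, rfl⟩, by rw [map_mul, hk', ← map_mul, mul_inv_cancel_left]⟩

/-- A lift of the root group a. -/
def IsB (a : Γ) : Prop := ∃ (b : K) (hb : b ^ q = b), C.π a = qEl S b 0 0 0 0 hb (fix0 S) (fix0 S)

theorem isB_cd {a : Γ} (ha : IsB S (C := C) a) :
    (∀ t, Commute a (l.lc t)) ∧ ∀ t, Commute a (l.ld t) := by
  obtain ⟨b, hb, h⟩ := ha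
  have hfix : ∀ x ∈ mu K q, tor2 S x * C.π a * (tor2 S x)⁻¹ = C.π a := fun x hx => by
    rw [h, tor2_Q S hx]; simp only [mul_zero]
  refine ⟨fun t => ?_, fun t => ?_⟩
  · refine fixed_commute C S.hq S.hK (card_mu S) (xC S) (xC_add S) (tor2 S) (fun x hx t => tor2_xC S hx t)
      (l.πc t) (fun u => Subtype.ext ?_) hfix
    rw [h, xC, qEl_mul, qEl_mul]
    simp [tr, qzero S, add_comm]
  · refine fixed_commute C S.hq S.hK (card_mu S) (xD S) (xD_add S) (fun x => tor2 S x⁻¹)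
      (fun x hx t => tor2_xD S hx t) (l.πd t) (fun u => Subtype.ext ?_) (fun x hx => hfix _ (inv_mem hx))
    rw [h, xD, qEl_mul, qEl_mul]
    simp [tr, qzero S, add_comm]

theorem isB_lx {a : Γ} (ha : IsB S (C := C) a) (u : K) : ⁅a, l.lx u⁆ ∈ Q2 S l := by
  obtain ⟨b, hb, h⟩ := ha
  have hdom : ∀ u, C.π ⁅a, l.lx u⁆ ∈ (Q2 S l).map C.π := fun u => by
    have hb' : (-b) ^ q = -b := by rw [qneg S, hb]
    have hinv : (qEl S b 0 0 0 0 hb (fix0 S) (fix0 S))⁻¹ = qEl S (-b) 0 0 0 0 hb' (fix0 S) (fix0 S) := by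
      refine inv_eq_of_mul_eq_one_right (Subtype.ext ?_)
      rw [qEl_mul]
      simp [tr, qzero S, Q_zero S]
    obtain ⟨C1, C2, C3, D1, D2, D3, F', hW⟩ := conjA u (u ^ q) ((u ^ q) ^ q) (-b) (0 : K) (-0 ^ q)
      (-(0 ^ q) ^ q) 0 (-0 ^ q) (-(0 ^ q) ^ q) 0 0
    obtain ⟨E', hE'⟩ : ∃ E' : K, MulAut.conj (A q u) (Q q (-b) 0 0 0 0) = W (-b) C1 C2 C3 D1 D2 D3 E' F' :=
      ⟨_, hW⟩
    have hm := (xB S u * qEl S (-b) 0 0 0 0 hb' (fix0 S) (fix0 S) * (xB S u)⁻¹).2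
    change MulAut.conj (A q u) (Q q (-b) 0 0 0 0) ∈ twistedD4 K q at hm
    rw [hE'] at hm
    obtain ⟨-, h2, h3, h4⟩ := W_fix S hm
    refine q2_mem S l (c := C1) (d := D1) (e := E') (f := F') (he := h2) (hf := h3) ?_
    rw [map_commutatorElement, h, l.πx, commutatorElement_def, hinv,
      mul_assoc (qEl S b 0 0 0 0 _ _ _), mul_assoc (qEl S b 0 0 0 0 _ _ _)]
    refine Subtype.ext ?_
    show Q q b 0 0 0 0 * MulAut.conj (A q u) (Q q (-b) 0 0 0 0) = Q q 0 C1 D1 E' F'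
    rw [hE', h4, Q_mul S]
    simp [tr, qzero S]
  have hi := q2_inj S l
  refine (part_spec C hi (hdom u)).2 ?_
  obtain ⟨x, hx, hne⟩ := exists_moved S.hq S.hK (card_mu S)
  refine eq_one_of_moved (fun u => part C (Q2 S l) ⁅a, l.lx u⁆) (fun v w => ?_) hne (fun v => ?_) u
  · show part C _ _ = _
    have hd : C.π (l.lx v * ⁅a, l.lx w⁆ * (l.lx v)⁻¹) ∈ (Q2 S l).map C.π := by
      obtain ⟨k, hk, hk'⟩ := hdom w
      exact ⟨_, lx_q2 S l v k hk, by simp [hk']⟩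
    rw [← l.lx_add, show ⁅a, l.lx v * l.lx w⁆ = ⁅a, l.lx v⁆ * (l.lx v * ⁅a, l.lx w⁆ * (l.lx v)⁻¹) by
      simp only [commutatorElement_def]; group, part_mul C hi (hdom v) hd,
      part_conj C hi (lx_q2 S l v) (hdom w)]
  · show part C _ _ = part C _ _
    obtain ⟨g, hg⟩ : ∃ g, g = C.L (tor2 S x) := ⟨_, rfl⟩
    have hgπ : C.π g = tor2 S x := by rw [hg, C.π_L]
    have e : ⁅a, l.lx ((x : K) * v)⁆ = g * ⁅a, l.lx v⁆ * g⁻¹ := by
      refine (C.conj_comm (g := g) ?_ (by rw [l.torx g x hx hgπ])).symm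
      rw [map_mul, map_mul, map_inv, hgπ, h, tor2_Q S hx]
      simp only [mul_zero]
    have hp : ∀ k ∈ Q2 S l, g * k * g⁻¹ ∈ Q2 S l := by
      rintro _ ⟨r, k, hk, rfl⟩
      refine ⟨(x : K) * r, g * k * g⁻¹, hg ▸ tor_q1 S l hx k hk, ?_⟩
      rw [← l.torc g x hx hgπ]
      group
    rw [e, part_conj C hi hp (hdom v)]

theorem isB_norm {a : Γ} (ha : IsB S (C := C) a) : ∀ k ∈ Dsub S l, a * k * a⁻¹ ∈ Dsub S l := by
  have hQ : ∀ k ∈ Q2 S l, k ∈ Dsub S l := fun k hk => ⟨0, k, hk, by rw [(ld_zero S l).2.1, one_mul]⟩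
  have h1 : ∀ k ∈ Q1 S l, k ∈ Q2 S l := fun k hk => ⟨0, k, hk, by rw [(ld_zero S l).2.2.1, one_mul]⟩
  obtain ⟨hc, hd⟩ := isB_cd S l ha
  have hx : ∀ u, a * l.lx u * a⁻¹ ∈ Dsub S l := fun u => by
    rw [show a * l.lx u * a⁻¹ = ⁅a, l.lx u⁆ * l.lx u by rw [commutatorElement_def]; group]
    exact mul_mem (hQ _ (isB_lx S l ha u)) ⟨u, 1, one_mem _, (mul_one _).symm⟩
  have hc' : ∀ r, a * l.lc r * a⁻¹ ∈ Dsub S l := fun r => by
    rw [(hc r).eq, mul_inv_cancel_right]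
    exact hQ _ ⟨r, 1, one_mem _, (mul_one _).symm⟩
  have hd' : ∀ t, a * l.ld t * a⁻¹ ∈ Dsub S l := fun t => by
    rw [(hd t).eq, mul_inv_cancel_right]
    exact hQ _ (h1 _ (q1_gens S l t).1)
  have hcm : ∀ {y z : Γ}, a * y * a⁻¹ ∈ Dsub S l → a * z * a⁻¹ ∈ Dsub S l →
      a * ⁅y, z⁆ * a⁻¹ ∈ Dsub S l := fun {y z} hy hz => by
    rw [show a * ⁅y, z⁆ * a⁻¹ = a * y * a⁻¹ * (a * z * a⁻¹) * (a * y * a⁻¹)⁻¹ * (a * z * a⁻¹)⁻¹ by
      rw [commutatorElement_def]; group]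
    exact mul_mem (mul_mem (mul_mem hy hz) (inv_mem hy)) (inv_mem hz)
  rintro _ ⟨u, _, ⟨r, _, ⟨t, v, w, rfl⟩, rfl⟩, rfl⟩
  rw [show a * (l.lx u * (l.lc r * (l.ld t * phx S l v * phc S l w))) * a⁻¹ =
      a * l.lx u * a⁻¹ * (a * l.lc r * a⁻¹) * (a * l.ld t * a⁻¹) * (a * phx S l v * a⁻¹) *
        (a * phc S l w * a⁻¹) by group]
  exact mul_mem (mul_mem (mul_mem (mul_mem (hx u) (hc' r)) (hd' t)) (hcm (hx 1) (hd' v)))
    (hcm (hc' 1) (hd' w))

include l in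
theorem isB_commute {a a' : Γ} (ha : IsB S (C := C) a) (ha' : IsB S (C := C) a') : Commute a a' := by
  obtain ⟨n, hn⟩ : ∃ n : GT K q, n = ⟨nA, by
    exact Cfsg.Agent.Small.D4Torus.nwOrb_mem S [1]⟩ := ⟨_, rfl⟩
  have hW : ∀ a, IsB S (C := C) a → IsW S (C := C) (C.L n * a * (C.L n)⁻¹) := by
    rintro a ⟨b, hb, h⟩
    obtain ⟨σ, hσ, hX⟩ := nA_X (K := K) (s := 14) (s' := 22) (by simp)
    have hb22 : (σ * b) ^ q = σ * b := by
      rw [mul_pow, hb]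
      rcases hσ with rfl | rfl
      · rw [one_pow]
      · rw [← S.hfr, map_neg, map_one]
    refine ⟨σ * b, 0, hb22, fix0 S, Subtype.ext ?_⟩
    rw [map_mul, map_mul, map_inv, C.π_L, h, hn]
    show MulAut.conj nA (Q q b 0 0 0 0) = Q q 0 0 0 (σ * b) 0
    simp only [Q, qzero S, neg_zero]
    rw [← W_start, ← W22, hX]
  have := (hW a ha).commute S l (hW a' ha')
  exact (Commute.conj_iff _).1 this

theorem comm_le {x y : Γ} (hx : ∃ a d, IsB S (C := C) a ∧ d ∈ Dsub S l ∧ x = a * d)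
    (hy : ∃ a d, IsB S (C := C) a ∧ d ∈ Dsub S l ∧ y = a * d) : ⁅x, y⁆ ∈ Dsub S l := by
  obtain ⟨a, d, ha, hd, rfl⟩ := hx
  obtain ⟨b, d', hb, hd', rfl⟩ := hy
  have hab := isB_commute S l ha hb
  have e : ⁅a * d, b * d'⁆ = (a * d * a⁻¹) * (a * (b * (d' * d⁻¹) * b⁻¹) * a⁻¹) * (b * d'⁻¹ * b⁻¹) := by
    have h : a⁻¹ * b = b * a⁻¹ := (hab.inv_left).eq
    rw [commutatorElement_def]
    symm
    calc a * d * a⁻¹ * (a * (b * (d' * d⁻¹) * b⁻¹) * a⁻¹) * (b * d'⁻¹ * b⁻¹)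
        = a * d * b * d' * d⁻¹ * b⁻¹ * (a⁻¹ * b) * d'⁻¹ * b⁻¹ := by group
      _ = a * d * (b * d') * (a * d)⁻¹ * (b * d')⁻¹ := by rw [h]; group
  rw [e]
  exact mul_mem (mul_mem (isB_norm S l ha d hd) (isB_norm S l ha _ (isB_norm S l hb _ (mul_mem hd' (inv_mem hd)))))
    (isB_norm S l hb _ (inv_mem hd'))

end Ext

/-- The unipotent subgroup. -/
noncomputable def Usub (K : Type*) [Field K] (q : ℕ) : Subgroup (GT K q) :=
  (chevD4.posUnipotent K).subgroupOf (twistedD4 K q)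

theorem U_form {g : GT K q} (hg : g ∈ Usub K q) : ∃ (u b c d e f : K) (hb : b ^ q = b) (he : e ^ q = e)
    (hf : f ^ q = f), g = xB S u * qEl S b c d e f hb he hf := by
  classical
  have hmem : ∀ (u b c d e f : K) (hb : b ^ q = b) (he : e ^ q = e) (hf : f ^ q = f),
      xB S u * qEl S b c d e f hb he hf ∈ Usub K q := fun u b c d e f hb he hf => by
    show A q u * Q q b c d e f ∈ chevD4.posUnipotent K
    rw [← factsD4.tsys_U, A]
    refine mul_mem ?_ W_mem_U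
    repeat' apply mul_mem
    all_goals exact (factsD4.tsys K).x_mem_U (by decide +kernel) (by decide +kernel) _
  let Fx := {x : K // x ^ q = x}
  let T := K × Fx × K × K × Fx × Fx
  let m : T → ↥(Usub K q) := fun t =>
    ⟨_, hmem t.1 t.2.1.1 t.2.2.1 t.2.2.2.1 t.2.2.2.2.1.1 t.2.2.2.2.2.1 t.2.1.2 t.2.2.2.2.1.2 t.2.2.2.2.2.2⟩
  have hm : Function.Injective m := by
    rintro ⟨u, ⟨b, hb⟩, c, d, ⟨e, he⟩, ⟨f, hf⟩⟩ ⟨u', ⟨b', hb'⟩, c', d', ⟨e', he'⟩, ⟨f', hf'⟩⟩ h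
    have h' : A q u * Q q b c d e f = A q u' * Q q b' c' d' e' f' :=
      congrArg (fun z : ↥(Usub K q) => ((z : GT K q) : GL chevD4.Idx K)) h
    have hQ : ∀ b c d e f : K, Q q b c d e f ∈ QW K := fun _ _ _ _ _ => ⟨_, _, _, _, _, _, _, _, _, rfl⟩
    have hu : u = u' := by
      have h2 : A q (u - u') ∈ QW K := by
        have e1 : A q u' * A q (u - u') = A q u := by
          have := congrArg Subtype.val (xB_add S u' (u - u'))
          simpa [coe_xB] using this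
        have e2 : A q (u - u') = Q q b' c' d' e' f' * (Q q b c d e f)⁻¹ := by
          rw [eq_mul_inv_iff_mul_eq]
          refine mul_left_cancel (a := A q u') ?_
          rw [← mul_assoc, e1, h']
        rw [e2]; exact mul_mem (hQ ..) (inv_mem (hQ ..))
      exact sub_eq_zero.1 (A_QW S h2)
    subst hu
    have h3 := mul_left_cancel h'
    simp only [Q] at h3
    obtain ⟨rfl, rfl, -, -, rfl, -, -, rfl, rfl⟩ := W_inj h3
    rfl
  have hcard : Nat.card ↥(Usub K q) = q ^ 12 := by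
    have hu := S.data.card_U
    change Nat.card ↥(chevD4.posUnipotent K ⊓ twistedD4 K q) ^ 1 = q ^ (chevD4.nroots / 2) at hu
    rw [pow_one, show chevD4.nroots / 2 = 12 from rfl] at hu
    rw [← hu]
    exact Nat.card_congr ((Subgroup.subgroupOfEquivOfLe inf_le_right).toEquiv.symm.trans
      (Equiv.setCongr (congrArg (fun H : Subgroup (GT K q) => (H : Set (GT K q)))
        (Subgroup.inf_subgroupOf_right _ _)))).symm
  have hT : Nat.card T = q ^ 12 := by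
    simp only [T, Fx, Nat.card_prod, card_pow_eq_self (q := q) (F := K) S.hq S.hK, S.hK]
    ring
  obtain ⟨⟨u, ⟨b, hb⟩, c, d, ⟨e, he⟩, ⟨f, hf⟩⟩, ht⟩ :=
    ((Nat.bijective_iff_injective_and_card m).2 ⟨hm, hT.trans hcard.symm⟩).2 ⟨g, hg⟩
  exact ⟨u, b, c, d, e, f, hb, he, hf, (congrArg Subtype.val ht).symm⟩

include S in
theorem comm_inf_ker {Γ : Type*} [Group Γ] (C : Central Γ (GT K q)) :
    ⁅(Usub K q).comap C.π, (Usub K q).comap C.π⁆ ⊓ C.π.ker = ⊥ := by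
  obtain ⟨l⟩ := nonempty_lifts S C
  have hform : ∀ x ∈ (Usub K q).comap C.π, ∃ a d, IsB S (C := C) a ∧ d ∈ Dsub S l ∧ x = a * d := by
    intro x hx
    obtain ⟨u, b, c, d, e, f, hb, he, hf, h⟩ := U_form S (Subgroup.mem_comap.1 hx)
    obtain ⟨a0, ha0⟩ := C.surj (qEl S b 0 0 0 0 hb (fix0 S) (fix0 S))
    have hB : IsB S (C := C) a0 := ⟨b, hb, ha0⟩
    have hsplit : qEl S b c d e f hb he hf =
        qEl S b 0 0 0 0 hb (fix0 S) (fix0 S) * qEl S 0 c d e f (fix0 S) he hf := by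
      refine Subtype.ext ?_
      rw [qEl_mul, coe_qEl]
      simp [tr, qzero S]
    obtain ⟨g, hg⟩ := C.surj (qEl S 0 c d e f (fix0 S) he hf)
    obtain ⟨k, hk, hk'⟩ := q2_mem S l hg
    rw [hg] at hk'
    have hz : C.π ((l.lx u * a0 * k)⁻¹ * x) = 1 := by
      rw [map_mul, map_inv, map_mul, map_mul, l.πx, ha0, hk', h, hsplit, mul_assoc, inv_mul_cancel]
    obtain ⟨z, hzdef⟩ : ∃ z, z = (l.lx u * a0 * k)⁻¹ * x := ⟨_, rfl⟩
    rw [← hzdef] at hz
    have hzc := Subgroup.mem_center_iff.1 (C.central (show z ∈ C.π.ker from hz))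
    have hxe : x = l.lx u * a0 * k * z := by rw [hzdef, mul_inv_cancel_left]
    have hinvB : IsB S (C := C) a0⁻¹ := by
      refine ⟨-b, by rw [qneg S, hb], ?_⟩
      rw [map_inv, ha0]
      refine inv_eq_of_mul_eq_one_right (Subtype.ext ?_)
      rw [qEl_mul]
      simp [tr, qzero S, Q_zero S]
    refine ⟨a0 * z, a0⁻¹ * l.lx u * a0 * k, ⟨b, hb, ?_⟩, mul_mem ?_ ?_, ?_⟩
    · rw [map_mul, ha0, hz, mul_one]
    · have := isB_norm S l hinvB (l.lx u) ⟨u, 1, one_mem _, (mul_one _).symm⟩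
      rwa [inv_inv] at this
    · exact ⟨0, k, hk, by rw [(ld_zero S l).2.1, one_mul]⟩
    · rw [hxe, mul_assoc a0 z, ← hzc (a0⁻¹ * l.lx u * a0 * k)]
      group
  rw [Subgroup.eq_bot_iff_forall]
  rintro z ⟨hz1, hz2⟩
  refine dsub_inj S l z ?_ hz2
  have hle : ⁅(Usub K q).comap C.π, (Usub K q).comap C.π⁆ ≤ Dsub S l :=
    Subgroup.commutator_le.2 fun x hx y hy => comm_le S l (hform x hx) (hform y hy)
  exact hle hz1

end Cfsg.Agent.Lie.TwistMult.D4
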