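import Cfsg.Agent.Lib.Lie.TwistMult.D4Rank
import Cfsg.Agent.Lib.Lie.TwistMult.D4Sylow
import Cfsg.Agent.Lib.Solv.SplitBNTwo

/-!
Stem extensions of ³D₄(q) have trivial kernel.
-/

set_option autoImplicit false
set_option maxRecDepth 4000
set_option linter.unusedSectionVars false

namespace Cfsg.Agent.Lie.TwistMult.D4

open Cfsg.Lie Cfsg.Agent.Lie Matrix
open Cfsg.Agent.Lie.D4 (Setup)
open Cfsg.Agent.Lie.D4.Setup (cB)
open Cfsg.Agent.Small.D4Degree
open Cfsg.Agent.Small.D4Torus (tt tt_one tt_mul crd_mul)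
open Cfsg.Agent.Solv.SplitBNStem
open scoped MatrixGroups

variable {K : Type*} [Field K] [Fintype K] {q : ℕ} (S : Setup K q)

/-- The torus. -/
noncomputable def Hsub (K : Type*) [Field K] (q : ℕ) : Subgroup (GT K q) :=
  (chevD4.diagonalSubgroup K).subgroupOf (twistedD4 K q)

theorem mem_Hsub {h : GT K q} : h ∈ Hsub K q ↔ (h : GL chevD4.Idx K) ∈ (factsD4.tsys K).H := by
  rw [factsD4.tsys_H]; rfl

include S in
theorem exists_tt {h : GT K q} (hh : h ∈ Hsub K q) :
    ∃ t m : Kˣ, m ^ q = m ∧ (h : GL chevD4.Idx K) = tt S t m := by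
  obtain ⟨t, m, hm, e⟩ := S.exists_crd hh (S.le_fix h.2)
  exact ⟨t, m, hm, e⟩

include S in
theorem H_comm {a b : GT K q} (ha : a ∈ Hsub K q) (hb : b ∈ Hsub K q) : a * b = b * a := by
  obtain ⟨t, m, -, e⟩ := exists_tt S ha
  obtain ⟨t', m', -, e'⟩ := exists_tt S hb
  refine Subtype.ext ?_
  rw [Subgroup.coe_mul, Subgroup.coe_mul, e, e', tt_mul, tt_mul, mul_comm t, mul_comm m]

theorem dg_mem (t m : Kˣ) : tt S t m ∈ (factsD4.tsys K).H := Cfsg.Agent.Small.D4Torus.tt_mem_H S t m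

theorem X_coef {r : ℕ} (hr : r = 14) {a : K} (h : X r a ∈ twistedD4 K q) (hS : Setup K q) : a ^ q = a := by
  subst hr
  have hcl : ClosedList chevD4 [14] := by
    obtain ⟨ω, hω, hω'⟩ := List.mem_map.1 (Cfsg.Agent.Lie.D4.orbLs ▸ (by simp) :
      [14] ∈ Cfsg.Agent.Lie.D4.Os.map fun ω => orbL chevD4 (ω.map Fin.val))
    exact hω' ▸ hS.closed hω
  obtain ⟨a', ha', e⟩ := hS.fix_A hcl (CommSys.x_mem_US _ (by simp) a) (hS.le_fix h)
  rw [Facts.tsys_x] at e
  have := factsD4.prodOver_inj hcl (t := fun _ => a) (t' := fun _ => a')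
    (by simpa [CommSys.prodOver, Facts.sys_x] using e) 14 (by simp)
  rw [show a = a' from this]
  exact ha'

theorem closedB (hS : Setup K q) : ClosedList chevD4 [12, 13, 18] := by
  obtain ⟨ω, hω, hω'⟩ := List.mem_map.1 (Cfsg.Agent.Lie.D4.orbLs ▸ (by simp) :
    [12, 13, 18] ∈ Cfsg.Agent.Lie.D4.Os.map fun ω => orbL chevD4 (ω.map Fin.val))
  exact hω' ▸ hS.closed hω

theorem root_B (hS : Setup K q) {g : GT K q} (h : (g : GL chevD4.Idx K) ∈ (factsD4.tsys K).US [12, 13, 18]) :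
    ∃ v, g = xB hS v := by
  obtain ⟨v, e⟩ := hS.fix_B (closedB hS) h (hS.le_fix g.2)
  exact ⟨v, Subtype.ext (by rw [e, coe_xB, A_eq])⟩

theorem A_US (u : K) : A q u ∈ (factsD4.tsys K).US [12, 13, 18] := by
  unfold A
  exact mul_mem (mul_mem (CommSys.x_mem_US _ (by simp) _) (CommSys.x_mem_US _ (by simp) _))
    (CommSys.x_mem_US _ (by simp) _)

theorem torus_A (u : K) {t m : Kˣ} :
    tt S t m * A q u * (tt S t m)⁻¹ ∈ (factsD4.tsys K).US [12, 13, 18] := by
  rw [← MulAut.conj_apply]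
  simp only [A, map_mul, MulAut.conj_apply, tt, X]
  rw [factsD4.torus_conj _ (by decide +kernel), factsD4.torus_conj _ (by decide +kernel),
    factsD4.torus_conj _ (by decide +kernel)]
  exact mul_mem (mul_mem (CommSys.x_mem_US _ (by simp) _) (CommSys.x_mem_US _ (by simp) _))
    (CommSys.x_mem_US _ (by simp) _)

theorem U_norm (hS : Setup K q) {h u : GT K q} (hh : h ∈ Hsub K q) (hu : u ∈ Usub K q) :
    h * u * h⁻¹ ∈ Usub K q := by
  obtain ⟨t, m, -, e⟩ := exists_tt hS hh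
  obtain ⟨x, b, c, d, e', f, hb, he, hf, rfl⟩ := U_form hS hu
  show (h : GL chevD4.Idx K) * (A q x * Q q b c d e' f) * (h : GL chevD4.Idx K)⁻¹ ∈ chevD4.posUnipotent K
  rw [e, ← factsD4.tsys_U, ← MulAut.conj_apply, map_mul]
  refine mul_mem (CommSys.US_mono _ (fun r hr => Facts.mem_posL.2 ?_) (torus_A hS x (t := t) (m := m))) ?_
  · revert r; decide +kernel
  · obtain ⟨C2, C3, D2, D3, hW⟩ := tt_conj hS t m b c (-c ^ q) (-(c ^ q) ^ q) d (-d ^ q) (-(d ^ q) ^ q) e' f
    rw [Q, hW]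
    exact W_mem_U

section Lift

variable {Γ : Type*} [Group Γ] [Finite Γ] {σ : Γ →* GT K q} {p : ℕ} [Fact p.Prime]

theorem nw_mul_H {ω : List (Fin chevD4.rank)} {g : GT K q} (hg : (g : GL chevD4.Idx K) = (factsD4.tsys K).nw ω)
    {h : GT K q} (hh : h ∈ Hsub K q) : g * h * g⁻¹ ∈ Hsub K q ∧ g⁻¹ * h * g ∈ Hsub K q := by
  rw [mem_Hsub] at hh ⊢
  rw [mem_Hsub]
  refine ⟨?_, ?_⟩
  · show (g : GL chevD4.Idx K) * (h : GL chevD4.Idx K) * (g : GL chevD4.Idx K)⁻¹ ∈ _
    rw [hg]; exact (factsD4.tsys K).nw_H ω hh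
  · show (g : GL chevD4.Idx K)⁻¹ * (h : GL chevD4.Idx K) * (g : GL chevD4.Idx K) ∈ _
    rw [hg]; exact (factsD4.tsys K).nw_H' ω hh

/-- If an element maps the upper root group of φ to itself, and the reflection modulo H, so it does the lower. -/
theorem lo_of_up {F : Type*} [Field F] (φ : Matrix.SpecialLinearGroup (Fin 2) F →* GT K q) {g : GT K q}
    (hH : ∀ h ∈ Hsub K q, ∀ t, ∃ t', h * φ (upS t) * h⁻¹ = φ (upS t'))
    (hn : ∀ h ∈ Hsub K q, (φ antS)⁻¹ * h * φ antS ∈ Hsub K q)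
    (hup : ∀ t, ∃ t', g * φ (upS t) * g⁻¹ = φ (upS t'))
    (hg : g * φ antS * g⁻¹ * (φ antS)⁻¹ ∈ Hsub K q) (t : F) :
    ∃ t', g * φ (loS t) * g⁻¹ = φ (loS t') := by
  obtain ⟨v, hv⟩ := hup (-t)
  obtain ⟨w, hw⟩ := hH _ (hn _ hg) v
  refine ⟨-w, ?_⟩
  rw [lo_eq, lo_eq, map_mul, map_mul, map_inv, map_mul, map_mul, map_inv, neg_neg, ← hw, ← hv]
  group

theorem phA_H {g : Matrix.SpecialLinearGroup (Fin 2) (Fq S)}
    (h : (phA S g : GL chevD4.Idx K) ∈ (factsD4.tsys K).H) : ∃ e, g = dgS e := by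
  have hdg : ∀ e, (phA S (dgS e) : GL chevD4.Idx K) ∈ (factsD4.tsys K).H := fun e => by
    rw [phA_dg]; exact dg_mem S _ _
  have hup : ∀ x, (phA S (upS x) : GL chevD4.Idx K) ∈ (factsD4.tsys K).U := fun x => by
    rw [phA_up]; exact (factsD4.tsys K).x_mem_U (by decide +kernel) (by decide +kernel) _
  rcases sl_cases g with ⟨e, x, rfl⟩ | ⟨a, e, b, rfl⟩
  · refine ⟨e, ?_⟩
    rw [map_mul, Subgroup.coe_mul] at h
    have h1 := factsD4.U_inter_H (hup x) ((Subgroup.mul_mem_cancel_left _ (hdg e)).1 h)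
    rw [phA_up] at h1
    have hx : x = 0 := Subtype.ext (factsD4.xg_inj (r := 14) (by decide +kernel) (a := (x : K)) (b := 0)
      (by rw [factsD4.xg_zero]; exact h1))
    rw [hx, show upS (0 : Fq S) = 1 by ext i j; fin_cases i <;> fin_cases j <;> simp [upS], mul_one]
  · exfalso
    rw [map_mul, map_mul, map_mul, Subgroup.coe_mul, Subgroup.coe_mul, Subgroup.coe_mul] at h
    have hB : ∀ x ∈ (factsD4.tsys K).U, x ∈ (factsD4.tsys K).B := fun x hx => (factsD4.tsys K).U_le_B hx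
    have hn : (phA S antS : GL chevD4.Idx K) ∈ (factsD4.tsys K).B := by
      refine (Subgroup.mul_mem_cancel_left _ (mul_mem (hB _ (hup a)) ((factsD4.tsys K).H_le_B (hdg e)))).1 ?_
      exact (Subgroup.mul_mem_cancel_right _ (hB _ (hup b))).1 ((factsD4.tsys K).H_le_B h)
    rw [phA_ant] at hn
    exact absurd (nw_B hn) (by decide +kernel)

theorem phB_H {g : Matrix.SpecialLinearGroup (Fin 2) K}
    (h : (phB S g : GL chevD4.Idx K) ∈ (factsD4.tsys K).H) : ∃ e, g = dgS e := by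
  have hdg : ∀ e, (phB S (dgS e) : GL chevD4.Idx K) ∈ (factsD4.tsys K).H := fun e => by
    rw [phB_dg]; exact dg_mem S _ _
  have hup : ∀ x, (phB S (upS x) : GL chevD4.Idx K) ∈ (factsD4.tsys K).U := fun x => by
    rw [phB_up, coe_xB]
    refine CommSys.US_mono _ (fun r hr => Facts.mem_posL.2 ?_) (A_US x)
    revert r; decide +kernel
  rcases sl_cases g with ⟨e, x, rfl⟩ | ⟨a, e, b, rfl⟩
  · refine ⟨e, ?_⟩
    rw [map_mul, Subgroup.coe_mul] at h
    have h1 := factsD4.U_inter_H (hup x) ((Subgroup.mul_mem_cancel_left _ (hdg e)).1 h)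
    rw [phB_up, coe_xB] at h1
    have hx : x = 0 := A_QW S (h1 ▸ one_mem _)
    rw [hx, show upS (0 : K) = 1 by ext i j; fin_cases i <;> fin_cases j <;> simp [upS], mul_one]
  · exfalso
    rw [map_mul, map_mul, map_mul, Subgroup.coe_mul, Subgroup.coe_mul, Subgroup.coe_mul] at h
    have hB : ∀ x ∈ (factsD4.tsys K).U, x ∈ (factsD4.tsys K).B := fun x hx => (factsD4.tsys K).U_le_B hx
    have hn : (phB S antS : GL chevD4.Idx K) ∈ (factsD4.tsys K).B := by
      refine (Subgroup.mul_mem_cancel_left _ (mul_mem (hB _ (hup a)) ((factsD4.tsys K).H_le_B (hdg e)))).1 ?_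
      exact (Subgroup.mul_mem_cancel_right _ (hB _ (hup b))).1 ((factsD4.tsys K).H_le_B h)
    rw [phB_ant] at hn
    exact absurd (nw_B hn) (by decide +kernel)

theorem dgS_one {F : Type*} [Field F] : (dgS 1 : Matrix.SpecialLinearGroup (Fin 2) F) = 1 := by
  ext i j; fin_cases i <;> fin_cases j <;> simp [dgS]

theorem phA_inj : Function.Injective (phA S) := by
  rw [injective_iff_map_eq_one]
  intro g hg
  obtain ⟨e, rfl⟩ := phA_H S (g := g) (by rw [hg]; exact one_mem _)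
  have h := congrArg Subtype.val hg
  rw [phA_dg] at h
  obtain ⟨-, he⟩ := S.crd_inj (h.trans (tt_one S).symm : tt S 1 _ = tt S 1 1)
  have : e = 1 := Units.map_injective (fun a b hab => Subtype.ext hab) (he.trans (map_one _).symm)
  rw [this, dgS_one]

theorem phB_inj : Function.Injective (phB S) := by
  rw [injective_iff_map_eq_one]
  intro g hg
  obtain ⟨e, rfl⟩ := phB_H S (g := g) (by rw [hg]; exact one_mem _)
  have h := congrArg Subtype.val hg
  rw [phB_dg] at h
  obtain ⟨he, -⟩ := S.crd_inj (h.trans (tt_one S).symm : tt S e 1 = tt S 1 1)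
  rw [he, dgS_one]

/-- The root group of a reflection. -/
def IsUp (e : Bool) (x : GT K q) : Prop :=
  (e = true ∧ ∃ t, x = phA S (upS t)) ∨ (e = false ∧ ∃ t, x = phB S (upS t))

theorem upS_add' {F : Type*} [Field F] (a b : F) : (upS a * upS b : Matrix.SpecialLinearGroup (Fin 2) F) = upS (a + b) := by
  ext i j; simp only [Matrix.SpecialLinearGroup.coe_mul]
  fin_cases i <;> fin_cases j <;> simp [upS, Matrix.mul_apply, Fin.sum_univ_two, add_comm]

theorem upS_zero' {F : Type*} [Field F] : (upS (0 : F) : Matrix.SpecialLinearGroup (Fin 2) F) = 1 := by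
  ext i j; fin_cases i <;> fin_cases j <;> simp [upS]

/-- The root group of a reflection as a subgroup. -/
noncomputable def Xg (e : Bool) : Subgroup (GT K q) where
  carrier := {x | IsUp S e x}
  one_mem' := by
    cases e
    · exact Or.inr ⟨rfl, 0, by rw [upS_zero', map_one]⟩
    · exact Or.inl ⟨rfl, 0, by rw [upS_zero', map_one]⟩
  mul_mem' := by
    rintro x y (⟨rfl, t, rfl⟩ | ⟨rfl, t, rfl⟩) (⟨h, u, rfl⟩ | ⟨h, u, rfl⟩) <;> simp at h
    · exact Or.inl ⟨rfl, t + u, by rw [← map_mul, upS_add']⟩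
    · exact Or.inr ⟨rfl, t + u, by rw [← map_mul, upS_add']⟩
  inv_mem' := by
    rintro x (⟨rfl, t, rfl⟩ | ⟨rfl, t, rfl⟩)
    · exact Or.inl ⟨rfl, -t, inv_eq_of_mul_eq_one_right (by
        rw [← map_mul, upS_add', add_neg_cancel, upS_zero', map_one])⟩
    · exact Or.inr ⟨rfl, -t, inv_eq_of_mul_eq_one_right (by
        rw [← map_mul, upS_add', add_neg_cancel, upS_zero', map_one])⟩

theorem up_norm_A {h : GT K q} (hh : h ∈ Hsub K q) (t : Fq S) :
    ∃ t', h * phA S (upS t) * h⁻¹ = phA S (upS t') := by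
  obtain ⟨a, m, -, e⟩ := exists_tt S hh
  have he : ((h * phA S (upS t) * h⁻¹ : GT K q) : GL chevD4.Idx K) =
      X 14 ((torChar chevD4 (S.crd a m) 14 : K) * t) := by
    show (h : GL chevD4.Idx K) * (phA S (upS t) : GL chevD4.Idx K) * (h : GL chevD4.Idx K)⁻¹ = _
    rw [e, phA_up, tt, X, factsD4.torus_conj _ (by decide +kernel)]
  have hf := X_coef rfl (he ▸ (h * phA S (upS t) * h⁻¹).2) S
  refine ⟨⟨_, ?_⟩, Subtype.ext (he.trans (phA_up S ⟨_, ?_⟩).symm)⟩
  all_goals show S.T.fr _ = _; rw [S.hfr, RingHom.id_apply]; exact hf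

theorem up_norm_B {h : GT K q} (hh : h ∈ Hsub K q) (t : K) :
    ∃ t', h * phB S (upS t) * h⁻¹ = phB S (upS t') := by
  obtain ⟨a, m, -, e⟩ := exists_tt S hh
  obtain ⟨v, hv⟩ := root_B S (g := h * phB S (upS t) * h⁻¹) (by
    show (h : GL chevD4.Idx K) * (phB S (upS t) : GL chevD4.Idx K) * (h : GL chevD4.Idx K)⁻¹ ∈ _
    rw [e, phB_up, coe_xB]
    exact torus_A S t)
  exact ⟨v, by rw [hv, phB_up]⟩

theorem Xg_norm {e : Bool} {h x : GT K q} (hh : h ∈ Hsub K q) (hx : x ∈ Xg S e) : h * x * h⁻¹ ∈ Xg S e := by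
  rcases hx with ⟨rfl, t, rfl⟩ | ⟨rfl, t, rfl⟩
  · obtain ⟨t', ht⟩ := up_norm_A S hh t; exact Or.inl ⟨rfl, t', ht⟩
  · obtain ⟨t', ht⟩ := up_norm_B S hh t; exact Or.inr ⟨rfl, t', ht⟩

/-- The roots of the root group of a reflection. -/
def rootsOf : Bool → List ℕ
  | true => [14]
  | false => [18, 13, 12]

theorem up_form {e : Bool} {x : GT K q} (hx : x ∈ Xg S e) :
    (x : GL chevD4.Idx K) ∈ (factsD4.tsys K).US (rootsOf e) := by
  rcases hx with ⟨rfl, t, rfl⟩ | ⟨rfl, t, rfl⟩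
  · rw [phA_up]; exact CommSys.x_mem_US _ (by simp [rootsOf]) _
  · rw [phB_up, coe_xB]
    exact CommSys.US_mono _ (fun r hr => by simp [rootsOf] at hr ⊢; omega) (A_US t)

/-- Roots moved into the positive ones by the inverse of a word. -/
def posBack (w : List Bool) (e : Bool) : Bool :=
  (rootsOf e).all fun r => (List.range 24).any fun s => decide (12 ≤ s) && (actL (bw w) s == r)

theorem side_ok : ∀ w ∈ words12, ∀ e, posBack w e = true ∨ posBack (e :: w) e = true := by decide +kernel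

theorem back_U {w : List Bool} {e : Bool} (h : posBack w e = true) {x : GL chevD4.Idx K}
    (hx : x ∈ (factsD4.tsys K).US (rootsOf e)) :
    ((factsD4.tsys K).nw (bw w))⁻¹ * x * (factsD4.tsys K).nw (bw w) ∈ chevD4.posUnipotent K := by
  rw [← factsD4.tsys_U]
  simp only [posBack, List.all_eq_true, List.any_eq_true, List.mem_range, Bool.and_eq_true, decide_eq_true_eq,
    beq_iff_eq] at h
  induction hx using Subgroup.closure_induction with
  | mem g hg =>
    obtain ⟨r, hr, a, rfl⟩ := hg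
    obtain ⟨s, hs, hs12, hsr⟩ := h r hr
    obtain ⟨t', ht⟩ := nw_X_inv (K := K) hs hsr a
    rw [factsD4.tsys_x]
    erw [ht]
    exact (factsD4.tsys K).x_mem_U (show chevD4.nroots / 2 ≤ s by simpa [Cfsg.Agent.Small.D4Degree.nroots_eq] using hs12)
      (by rw [Cfsg.Agent.Small.D4Degree.nroots_eq]; exact hs) _
  | one => rw [mul_one, inv_mul_cancel]; exact one_mem _
  | mul a b _ _ iha ihb =>
    have := mul_mem iha ihb
    convert this using 1
    group
  | inv a _ ih =>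
    have := inv_mem ih
    convert this using 1
    group

theorem braid_tab : wKey chevD4 ((bw [true, false, true, false, true, false]).map Fin.val) =
    wKey chevD4 ((bw [false, true, false, true, false, true]).map Fin.val) ∧
    ([18, 13, 12] : List ℕ).all (fun r => [12, 13, 18].contains (actL (bw [true, false, true, false, true]) r)) = true ∧
    ∀ w ∈ words12, wKey chevD4 ((bw w).map Fin.val) = wKey chevD4 [] → w = [] := by decide +kernel

theorem sq_tab : ∀ e, wKey chevD4 ((bw [e, e]).map Fin.val) = wKey chevD4 (([] : List (Fin chevD4.rank)).map Fin.val) := by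
  decide +kernel

theorem conjU_tab :
    (([18, 13, 12, 19, 16, 15, 17, 20, 21, 22, 23] : List ℕ).all fun r => decide (12 ≤ actL (bw [true]) r)) = true := by
  decide +kernel

/-- Both rank one lifts. -/
structure RankLifts (σ : Γ →* GT K q) (p : ℕ) where
  ψA : Matrix.SpecialLinearGroup (Fin 2) (Fq S) →* Γ
  ψB : Matrix.SpecialLinearGroup (Fin 2) K →* Γ
  hA : (∀ g, σ (ψA g) = phA S g) ∧ (∀ t, IsP p (ψA (upS t))) ∧ ∀ t, IsP p (ψA (loS t))
  hB : (∀ g, σ (ψB g) = phB S g) ∧ (∀ t, IsP p (ψB (upS t))) ∧ ∀ t, IsP p (ψB (loS t))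

variable {S}

/-- The lifted rank one subgroups. -/
def RankLifts.R (L : RankLifts S σ p) : Bool → Subgroup Γ
  | true => L.ψA.range
  | false => L.ψB.range

/-- The lifted reflections. -/
def RankLifts.n (L : RankLifts S σ p) : Bool → Γ
  | true => L.ψA antS
  | false => L.ψB antS

theorem RankLifts.coe_n (L : RankLifts S σ p) (e : Bool) :
    (σ (L.n e) : GL chevD4.Idx K) = (factsD4.tsys K).nw (bw [e]) := by
  cases e
  · show (σ (L.ψB antS) : GL chevD4.Idx K) = _
    rw [L.hB.1, phB_ant]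
  · show (σ (L.ψA antS) : GL chevD4.Idx K) = _
    rw [L.hA.1, phA_ant]

theorem RankLifts.coe_word (L : RankLifts S σ p) (w : List Bool) :
    (σ (w.map L.n).prod : GL chevD4.Idx K) = (factsD4.tsys K).nw (bw w) := by
  induction w with
  | nil => rw [List.map_nil, List.prod_nil, map_one]; rfl
  | cons e w ih =>
    rw [List.map_cons, List.prod_cons, map_mul, Subgroup.coe_mul, ih, L.coe_n, ← TorusSys.nw_append]
    simp [bw]

variable (hc : σ.ker ≤ Subgroup.center Γ) (hp' : ¬ p ∣ Nat.card σ.ker)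

include hc hp' in
theorem RankLifts.twoTori (L : RankLifts S σ p) : TwoTori σ (Hsub K q) L.R L.n := by
  have hnA : ∀ h ∈ Hsub K q, (phA S antS)⁻¹ * h * phA S antS ∈ Hsub K q := fun h hh =>
    (nw_mul_H (phA_ant S) hh).2
  have hnB : ∀ h ∈ Hsub K q, (phB S antS)⁻¹ * h * phB S antS ∈ Hsub K q := fun h hh =>
    (nw_mul_H (phB_ant S) hh).2
  have hdiff : ∀ {g : GT K q} {n : GT K q} {ω : List (Fin chevD4.rank)}, g ∈ Hsub K q →
      (n : GL chevD4.Idx K) = (factsD4.tsys K).nw ω → g * n * g⁻¹ * n⁻¹ ∈ Hsub K q := fun {g n ω} hg hn => by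
    rw [show g * n * g⁻¹ * n⁻¹ = g * (n * g⁻¹ * n⁻¹) by group]
    exact mul_mem hg (nw_mul_H hn (inv_mem hg)).1
  refine
    { n_mem := fun e => by cases e <;> exact ⟨antS, rfl⟩
      sq := fun e => ?_
      H_comm := fun a ha b hb => H_comm S ha hb
      inj := fun e g hg h1 => ?_
      norm := fun e g hg a ha => ?_
      nH := fun e a ha => (nw_mul_H (L.coe_n e) ha).1
      indep := fun a ha b hb h1 h2 h3 => ?_
      braid := fun a ha => ?_
      braidH := ?_ }
  · rw [mem_Hsub, show L.n e * L.n e = ([e, e].map L.n).prod by simp, L.coe_word]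
    simpa [TorusSys.nw_nil] using nw_same (K := K) (sq_tab e)
  · cases e
    · obtain ⟨x, rfl⟩ := hg
      rw [L.hB.1] at h1
      rw [phB_inj S (h1.trans (map_one _).symm), map_one]
    · obtain ⟨x, rfl⟩ := hg
      rw [L.hA.1] at h1
      rw [phA_inj S (h1.trans (map_one _).symm), map_one]
  · cases e
    · refine conj_range hc hp' L.hB L.hB (fun t => ?_) (fun t => ?_) a ha
      · obtain ⟨t', h⟩ := up_norm_B S hg t; exact ⟨t', Or.inl h⟩
      · obtain ⟨t', h⟩ := lo_of_up (phB S) (fun h hh t => up_norm_B S hh t) hnB (fun t => up_norm_B S hg t)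
          (hdiff hg (phB_ant S)) t
        exact ⟨t', Or.inr h⟩
    · refine conj_range hc hp' L.hA L.hA (fun t => ?_) (fun t => ?_) a ha
      · obtain ⟨t', h⟩ := up_norm_A S hg t; exact ⟨t', Or.inl h⟩
      · obtain ⟨t', h⟩ := lo_of_up (phA S) (fun h hh t => up_norm_A S hh t) hnA (fun t => up_norm_A S hg t)
          (hdiff hg (phA_ant S)) t
        exact ⟨t', Or.inr h⟩
  · obtain ⟨x, rfl⟩ := ha
    obtain ⟨y, rfl⟩ := hb
    rw [L.hA.1] at h1 h3 ⊢
    rw [L.hB.1] at h2 h3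
    obtain ⟨e, rfl⟩ := phA_H S (mem_Hsub.1 h1)
    obtain ⟨d, rfl⟩ := phB_H S (mem_Hsub.1 h2)
    have h := congrArg Subtype.val h3
    rw [Subgroup.coe_mul, phA_dg, phB_dg, tt_mul, one_mul, mul_one] at h
    obtain ⟨-, he⟩ := S.crd_inj (h.trans (tt_one S).symm : tt S d _ = tt S 1 1)
    rw [show e = 1 from Units.map_injective (fun a b hab => Subtype.ext hab) (he.trans (map_one _).symm),
      dgS_one, map_one]
  · have hw : (σ (L.n true * L.n false * L.n true * L.n false * L.n true) : GL chevD4.Idx K) =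
        (factsD4.tsys K).nw (bw [true, false, true, false, true]) := by
      rw [← L.coe_word]; simp [mul_assoc]
    have hup : ∀ t, ∃ t', σ (L.n true * L.n false * L.n true * L.n false * L.n true) * phB S (upS t) *
        (σ (L.n true * L.n false * L.n true * L.n false * L.n true))⁻¹ = phB S (upS t') := fun t => by
      obtain ⟨v, hv⟩ := root_B S (g := σ (L.n true * L.n false * L.n true * L.n false * L.n true) * phB S (upS t) *
          (σ (L.n true * L.n false * L.n true * L.n false * L.n true))⁻¹) (by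
        show (σ _ : GL chevD4.Idx K) * (phB S (upS t) : GL chevD4.Idx K) * (σ _ : GL chevD4.Idx K)⁻¹ ∈ _
        rw [hw, phB_up, coe_xB, ← MulAut.conj_apply]
        simp only [A, map_mul]
        have key : ∀ r, r ∈ ([18, 13, 12] : List ℕ) → ∀ u : K,
            MulAut.conj ((factsD4.tsys K).nw (bw [true, false, true, false, true])) (X r u) ∈
              (factsD4.tsys K).US [12, 13, 18] := fun r hr u => by
          obtain ⟨s, -, hs⟩ := nw_X (K := K) (bw [true, false, true, false, true])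
            (s := r) (by simp at hr; omega)
          rw [MulAut.conj_apply, hs]
          exact CommSys.x_mem_US _ (List.contains_iff_mem.1 ((List.all_eq_true.1 braid_tab.2.1) r hr)) _
        exact mul_mem (mul_mem (key 18 (by simp) _) (key 13 (by simp) _)) (key 12 (by simp) _))
      exact ⟨v, by rw [hv, phB_up]⟩
    have hbr : σ (L.n true * L.n false * L.n true * L.n false * L.n true) * phB S antS *
        (σ (L.n true * L.n false * L.n true * L.n false * L.n true))⁻¹ * (phB S antS)⁻¹ ∈ Hsub K q := by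
      rw [mem_Hsub, ← L.hB.1, ← map_mul, ← map_inv, ← map_mul, ← map_inv, ← map_mul]
      have := nw_same (K := K) braid_tab.1
      rw [← L.coe_word, ← L.coe_word, ← InvMemClass.coe_inv, ← Subgroup.coe_mul, ← map_inv, ← map_mul] at this
      refine (Eq.subst (motive := fun z => (σ z : GL chevD4.Idx K) ∈ (factsD4.tsys K).H) ?_ this)
      simp [RankLifts.n, mul_assoc]
    refine conj_range hc hp' L.hB L.hB (fun t => ?_) (fun t => ?_) a ha
    · obtain ⟨t', h⟩ := hup t; exact ⟨t', Or.inl h⟩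
    · obtain ⟨t', h⟩ := lo_of_up (phB S) (fun h hh t => up_norm_B S hh t) hnB hup hbr t
      exact ⟨t', Or.inr h⟩
  · rw [mem_Hsub]
    have := nw_same (K := K) braid_tab.1
    rw [← L.coe_word, ← L.coe_word, ← InvMemClass.coe_inv, ← Subgroup.coe_mul, ← map_inv, ← map_mul] at this
    refine (Eq.subst (motive := fun z => (σ z : GL chevD4.Idx K) ∈ (factsD4.tsys K).H) ?_ this)
    simp [RankLifts.n]
    group

end Lift

theorem U_pGroup {p f : ℕ} [Fact p.Prime] (hf : q = p ^ f) (hS : Setup K q) :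
    IsPGroup p ↥(Usub K q) ∧ ¬ p ∣ (Usub K q).index := by
  have hu := hS.data.card_U
  change Nat.card ↥(chevD4.posUnipotent K ⊓ twistedD4 K q) ^ 1 = q ^ (chevD4.nroots / 2) at hu
  rw [pow_one, show chevD4.nroots / 2 = 12 from rfl] at hu
  have hcard : Nat.card ↥(Usub K q) = q ^ 12 := by
    rw [← hu, Usub, ← Subgroup.inf_subgroupOf_right]
    exact Nat.card_congr (Subgroup.subgroupOfEquivOfLe inf_le_right).toEquiv
  refine ⟨IsPGroup.of_card (n := f * 12) (by rw [hcard, hf, pow_mul]), fun hd => ?_⟩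
  have hidx : (Usub K q).index = (q ^ 2 - 1) * (q ^ 6 - 1) * (q ^ 8 + q ^ 4 + 1) := by
    have h := (Usub K q).card_mul_index
    rw [hcard, show Nat.card (GT K q) = _ from hS.card_group, mul_assoc, mul_assoc] at h
    rw [mul_assoc]
    exact Nat.eq_of_mul_eq_mul_left (pow_pos (by have := hS.hq; omega) _) h
  have hp := (Fact.out : p.Prime)
  have hpq : p ∣ q := by
    rw [hf]; refine dvd_pow_self p ?_
    rintro rfl
    have := hS.hq
    simp at hf
    omega
  have hsub : ∀ n, 0 < n → ¬ p ∣ q ^ n - 1 := fun n hn hd => hp.not_dvd_one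
    ((Nat.dvd_add_right hd).1 (by
      rw [Nat.sub_add_cancel (Nat.one_le_pow _ _ (by have := hS.hq; omega))]; exact dvd_pow hpq (by omega)))
  rw [hidx] at hd
  rcases hp.dvd_mul.1 hd with h | h
  · rcases hp.dvd_mul.1 h with h | h
    · exact hsub 2 (by omega) h
    · exact hsub 6 (by omega) h
  · exact hp.not_dvd_one ((Nat.dvd_add_right (dvd_add (dvd_pow hpq (by omega)) (dvd_pow hpq (by omega)))).1 h)

theorem gen_top (hS : Setup K q) (T : Subgroup (GT K q)) (hA : ∀ t, phA hS (upS t) ∈ T)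
    (hA' : ∀ t, phA hS (loS t) ∈ T) (hB : ∀ t, phB hS (upS t) ∈ T) (hB' : ∀ t, phB hS (loS t) ∈ T) : T = ⊤ := by
  have hle : twistedD4 K q ≤ T.map (twistedD4 K q).subtype := by
    refine (Subgroup.closure_le _).2 ?_
    rintro g ⟨w, hw, hg⟩
    rw [show g = factsD4.wg w from Units.ext (by rw [hg, factsD4.coe_wg])]
    rcases hw with ⟨t, ht, r, hr, rfl⟩ | ⟨t, rs, hrs, rfl⟩
    · simp only [List.mem_cons, List.not_mem_nil, or_false, d4p2, d4m2] at hr
      obtain ⟨a, ha⟩ : ∃ a : Fq hS, (a : K) = t :=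
        ⟨⟨t, by show hS.T.fr t = t; rw [hS.hfr, ht]⟩, rfl⟩
      rcases hr with rfl | rfl
      · refine ⟨_, hA a, ?_⟩
        rw [Subgroup.coe_subtype, phA_up, ha]
        simp [Facts.wg]
      · refine ⟨_, hA' a, ?_⟩
        rw [Subgroup.coe_subtype, phA_lo, ha]
        simp [Facts.wg]
    · have hq2 : t ^ (q ^ 2) = (t ^ q) ^ q := by rw [← pow_mul, pow_two]
      simp only [List.mem_cons, List.not_mem_nil, or_false] at hrs
      rcases hrs with rfl | rfl
      · refine ⟨_, hB t, ?_⟩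
        rw [Subgroup.coe_subtype, coe_phB, Cfsg.Agent.Small.AltSec.D4.phiB_up]
        simp [Facts.wg, CommSys.prodOver, Facts.sys_x, cB, hq2, d4p1, d4p3, d4p4]
      · refine ⟨_, hB' t, ?_⟩
        rw [Subgroup.coe_subtype, coe_phB, Cfsg.Agent.Small.AltSec.D4.phiB_lo]
        simp [Facts.wg, CommSys.prodOver, Facts.sys_x, cB, hq2, d4m1, d4m3, d4m4]
  rw [eq_top_iff]
  intro g _
  obtain ⟨g', hg', he⟩ := hle g.2
  obtain rfl : g' = g := Subtype.ext he
  exact hg'

theorem ker_eq_bot {Γ : Type*} [Group Γ] [Finite Γ] (S : Setup K q) {p f : ℕ} [Fact p.Prime] (hf : q = p ^ f)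
    (hpK : (p : K) = 0) (σ : Γ →* GT K q) (hσ : Cfsg.IsStemExtension σ) : σ.ker = ⊥ := by
  obtain ⟨hUp, hUi⟩ := U_pGroup hf S
  obtain ⟨hs, hc, hd⟩ := hσ
  have hp' : ¬ p ∣ Nat.card σ.ker :=
    not_dvd_card_ker σ ⟨hs, hc, hd⟩ (Usub K q) hUp hUi (comm_inf_ker S ⟨σ, hs, hc⟩)
  obtain ⟨s, hsec⟩ := exists_section σ hs hc hp' (Usub K q) hUp
  have hpF : (p : Fq S) = 0 := Subtype.ext (by simpa using hpK)
  obtain ⟨ψA, hψA⟩ := exists_sl2Lift hs hc hp' hpF (phA S)
  obtain ⟨ψB, hψB⟩ := exists_sl2Lift hs hc hp' hpK (phB S)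
  let L : RankLifts S σ p := ⟨ψA, ψB, hψA, hψB⟩
  have T := L.twoTori hc hp'
  have hTH : ∀ x ∈ Tor σ (Hsub K q) L.R, σ x ∈ Hsub K q := fun x hx => Tor_le_comap (σ := σ) hx
  have hword : ∀ w ∈ words12, ∀ h : Γ, σ h ∈ Hsub K q → σ (h * (w.map L.n).prod) ∈ Usub K q → w = [] := by
    intro w hw h hh hu
    refine braid_tab.2.2 w hw (nw_B (K := K) ?_)
    rw [← L.coe_word]
    have hB : (σ (h * (w.map L.n).prod) : GL chevD4.Idx K) ∈ (factsD4.tsys K).B :=
      (factsD4.tsys K).U_le_B (by rw [factsD4.tsys_U]; exact hu)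
    rw [map_mul, Subgroup.coe_mul] at hB
    exact (Subgroup.mul_mem_cancel_left _ ((factsD4.tsys K).H_le_B (mem_Hsub.1 hh))).1 hB
  have hXU : ∀ e, Xg S e ≤ Usub K q := by
    intro e x hx
    show (x : GL chevD4.Idx K) ∈ chevD4.posUnipotent K
    rw [← factsD4.tsys_U]
    refine CommSys.US_mono _ (fun r hr => Facts.mem_posL.2 ?_) (up_form S hx)
    cases e <;> (revert r; decide +kernel)
  have hup : ∀ e, ∀ x : Usub K q, (x : GT K q) ∈ Xg S e →
      (e = true ∧ ∃ t, s x = ψA (upS t) ∧ ((x : GT K q) = phA S (upS t))) ∨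
        (e = false ∧ ∃ t, s x = ψB (upS t) ∧ ((x : GT K q) = phB S (upS t))) := by
    intro e x hx
    rcases hx with ⟨rfl, t, ht⟩ | ⟨rfl, t, ht⟩
    · exact Or.inl ⟨rfl, t, lift_unique σ hc hp' (by rw [(hsec x).1, hψA.1, ht]) (hsec x).2 (hψA.2.1 t), ht⟩
    · exact Or.inr ⟨rfl, t, lift_unique σ hc hp' (by rw [(hsec x).1, hψB.1, ht]) (hsec x).2 (hψB.2.1 t), ht⟩
  refine Data.ker_eq_bot σ (s := s) (Ht := Tor σ (Hsub K q) L.R)
    (Nt := Subgroup.closure (Set.range L.n ∪ (Tor σ (Hsub K q) L.R : Set Γ))) (n := L.n) (X := Xg S)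
    { σs := fun u => (hsec u).1
      conj_s := fun g u v h => lift_unique σ hc hp' (by simp [(hsec u).1, (hsec v).1, h]) ((hsec u).2.conj g) (hsec v).2
      X_le := hXU
      n_mem := fun e => Subgroup.subset_closure (Or.inl ⟨e, rfl⟩)
      H_le := fun x hx => Subgroup.subset_closure (Or.inr hx)
      H_norm := fun g hg u hu => U_norm S (Subgroup.mem_comap.1 (Tor_le_comap (σ := σ) hg)) hu
      split := ?_
      side := ?_
      rank_one := ?_
      disj := ?_
      gen := ?_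
      Nt_gen := le_rfl } hc hd
  · intro e u hu
    obtain ⟨x, b, c, d, e', f', hb, he, hf', rfl⟩ := U_form S hu
    have hU : ∀ g ∈ (factsD4.tsys K).U, g ∈ chevD4.posUnipotent K := fun g hg => factsD4.tsys_U (F := K) ▸ hg
    cases e
    · refine ⟨xB S x * qEl S b c d e' f' hb he hf' * (xB S x)⁻¹, ?_, xB S x, Or.inr ⟨rfl, x, (phB_up S x).symm⟩,
        by group, ?_⟩
      · obtain ⟨C1, C2, C3, D1, D2, D3, F', hW⟩ := conjA x (x ^ q) ((x ^ q) ^ q) b c (-c ^ q) (-(c ^ q) ^ q)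
          d (-d ^ q) (-(d ^ q) ^ q) e' f'
        show A q x * Q q b c d e' f' * (A q x)⁻¹ ∈ chevD4.posUnipotent K
        refine hU _ ?_
        rw [Q, A, ← MulAut.conj_apply, hW]
        exact W_mem_U
      · show (σ (L.n false) : GL chevD4.Idx K) * (A q x * Q q b c d e' f' * (A q x)⁻¹) *
          (σ (L.n false) : GL chevD4.Idx K)⁻¹ ∈ chevD4.posUnipotent K
        obtain ⟨C1, C2, C3, D1, D2, D3, F', hW⟩ := conjA x (x ^ q) ((x ^ q) ^ q) b c (-c ^ q) (-(c ^ q) ^ q)
          d (-d ^ q) (-(d ^ q) ^ q) e' f'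
        refine hU _ ?_
        rw [L.coe_n, ← orb_false, Q, A,
          show (factsD4.tsys K).nw (orbWord chevD4 Cfsg.Agent.Lie.D4.Os [1]) = nA from rfl]
        rw [MulAut.conj_apply] at hW
        rw [hW, ← MulAut.conj_apply]
        obtain ⟨_, _, _, _, _, _, _, _, _, hq'⟩ := nA_norm (K := K) (show W b C1 C2 C3 D1 D2 D3 _ F' ∈ QW K from
          ⟨_, _, _, _, _, _, _, _, _, rfl⟩)
        rw [hq']
        exact W_mem_U
    · have hf2 : (f' + e' * b) ^ q = f' + e' * b := by rw [qadd S, mul_pow, hf', he, hb]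
      refine ⟨xB S x * qEl S 0 c d e' (f' + e' * b) (fix0 S) he hf2, ?_,
        qEl S b 0 0 0 0 hb (fix0 S) (fix0 S), Or.inl ⟨rfl, ⟨b, by show S.T.fr b = b; rw [S.hfr, hb]⟩,
          Subtype.ext ?_⟩, ?_, ?_⟩
      · show A q x * Q q 0 c d e' (f' + e' * b) ∈ chevD4.posUnipotent K
        refine hU _ (mul_mem ?_ W_mem_U)
        exact CommSys.US_mono _ (fun r hr => Facts.mem_posL.2 (by revert r; decide +kernel)) (A_US x)
      · rw [coe_qEl, phA_up, Q, qzero S, qzero S, neg_zero]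
        exact (W_start b).symm
      · refine Subtype.ext ?_
        rw [mul_assoc, Subgroup.coe_mul, Subgroup.coe_mul, qEl_mul, coe_qEl]
        congr 2 <;> simp [tr, qzero S]
      · show (σ (L.n true) : GL chevD4.Idx K) * (A q x * Q q 0 c d e' (f' + e' * b)) *
          (σ (L.n true) : GL chevD4.Idx K)⁻¹ ∈ chevD4.posUnipotent K
        refine hU _ ?_
        rw [L.coe_n, ← MulAut.conj_apply]
        have key : ∀ r, r ∈ ([18, 13, 12, 19, 16, 15, 17, 20, 21, 22, 23] : List ℕ) → ∀ v : K,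
            MulAut.conj ((factsD4.tsys K).nw (bw [true])) (X r v) ∈ (factsD4.tsys K).U := fun r hr v => by
          have h24 : r < 24 := by simp at hr; omega
          obtain ⟨τ, -, hτ⟩ := nw_X (K := K) (bw [true]) h24
          rw [MulAut.conj_apply, hτ]
          refine (factsD4.tsys K).x_mem_U (Nat.le_trans (le_of_eq (show chevD4.nroots / 2 = 12 from rfl))
            (by simpa using (List.all_eq_true.1 conjU_tab) r hr)) ?_ _
          rw [Cfsg.Agent.Small.D4Degree.nroots_eq]; exact actL_lt _ h24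
        simp only [A, Q, W, zero', one_mul, map_mul]
        exact mul_mem (mul_mem (mul_mem (key 18 (by simp) _) (key 13 (by simp) _)) (key 12 (by simp) _))
          (mul_mem (mul_mem (mul_mem (mul_mem (mul_mem (mul_mem (mul_mem (key 19 (by simp) _) (key 16 (by simp) _)) (key 15 (by simp) _)) (key 17 (by simp) _)) (key 20 (by simp) _)) (key 21 (by simp) _)) (key 22 (by simp) _)) (key 23 (by simp) _))
  · intro e g hg
    obtain ⟨h, hh, w, hw, rfl⟩ := T.normal_form hg
    have hhH := hTH h hh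
    rcases side_ok w hw e with h1 | h1
    · refine Or.inl fun x hx => ?_
      have hx' : (σ h)⁻¹ * x * σ h ∈ Xg S e := by
        simpa using Xg_norm S (inv_mem hhH) hx
      rw [map_mul, show (σ h * σ (w.map L.n).prod)⁻¹ * x * (σ h * σ (w.map L.n).prod) =
        (σ (w.map L.n).prod)⁻¹ * ((σ h)⁻¹ * x * σ h) * σ (w.map L.n).prod by group]
      show (σ (w.map L.n).prod : GL chevD4.Idx K)⁻¹ * (((σ h)⁻¹ * x * σ h : GT K q) : GL chevD4.Idx K) *
        (σ (w.map L.n).prod : GL chevD4.Idx K) ∈ chevD4.posUnipotent K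
      rw [L.coe_word]
      exact back_U h1 (up_form S hx')
    · refine Or.inr fun x hx => ?_
      obtain ⟨k, hk⟩ : ∃ k, k = σ (L.n e) * σ h * (σ (L.n e))⁻¹ := ⟨_, rfl⟩
      have hkH : k ∈ Hsub K q := hk ▸ T.nH e _ hhH
      have hx' : k⁻¹ * x * k ∈ Xg S e := by simpa using Xg_norm S (inv_mem hkH) hx
      rw [show σ (L.n e) * σ (h * (w.map L.n).prod) = k * σ ((e :: w).map L.n).prod by
        rw [hk, List.map_cons, List.prod_cons, map_mul, map_mul]; group,
        show (k * σ ((e :: w).map L.n).prod)⁻¹ * x * (k * σ ((e :: w).map L.n).prod) =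
        (σ ((e :: w).map L.n).prod)⁻¹ * (k⁻¹ * x * k) * σ ((e :: w).map L.n).prod by group]
      show (σ ((e :: w).map L.n).prod : GL chevD4.Idx K)⁻¹ * ((k⁻¹ * x * k : GT K q) : GL chevD4.Idx K) *
        (σ ((e :: w).map L.n).prod : GL chevD4.Idx K) ∈ chevD4.posUnipotent K
      rw [L.coe_word]
      exact back_U h1 (up_form S hx')
  · intro e x hx hne
    rcases hup e x hx with ⟨rfl, t, hst, hxt⟩ | ⟨rfl, t, hst, hxt⟩
    · have ht : t ≠ 0 := by
        rintro rfl
        exact hne (Subtype.ext (hxt.trans (by rw [upS_zero', map_one, Subgroup.coe_one])))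
      obtain ⟨x1, hx1⟩ : ∃ x1 : Usub K q, (x1 : GT K q) = phA S (upS (-t⁻¹)) :=
        ⟨⟨_, hXU true (Or.inl ⟨rfl, _, rfl⟩)⟩, rfl⟩
      have hs1 : s x1 = ψA (upS (-t⁻¹)) :=
        lift_unique σ hc hp' (by rw [(hsec x1).1, hψA.1, hx1]) (hsec x1).2 (hψA.2.1 _)
      refine ⟨x1, x1, ψA (dgS (Units.mk0 t ht)⁻¹), part_le_Tor true ⟨⟨_, rfl⟩, ?_⟩,
        Or.inl ⟨rfl, _, hx1⟩, ?_⟩
      · show σ (ψA _) ∈ Hsub K q
        rw [hψA.1, mem_Hsub, phA_dg]
        exact dg_mem S _ _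
      · show ψA antS * s x * (ψA antS)⁻¹ = s x1 * ψA _ * ψA antS * s x1
        rw [hst, hs1, ← map_inv, ← map_mul, ← map_mul, ← map_mul, ← map_mul, ← map_mul]
        congr 1
        have := ant_up_eq (Units.mk0 t ht)
        simpa using this
    · have ht : t ≠ 0 := by
        rintro rfl
        exact hne (Subtype.ext (hxt.trans (by rw [upS_zero', map_one, Subgroup.coe_one])))
      obtain ⟨x1, hx1⟩ : ∃ x1 : Usub K q, (x1 : GT K q) = phB S (upS (-t⁻¹)) :=
        ⟨⟨_, hXU false (Or.inr ⟨rfl, _, rfl⟩)⟩, rfl⟩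
      have hs1 : s x1 = ψB (upS (-t⁻¹)) :=
        lift_unique σ hc hp' (by rw [(hsec x1).1, hψB.1, hx1]) (hsec x1).2 (hψB.2.1 _)
      refine ⟨x1, x1, ψB (dgS (Units.mk0 t ht)⁻¹), part_le_Tor false ⟨⟨_, rfl⟩, ?_⟩,
        Or.inr ⟨rfl, _, hx1⟩, ?_⟩
      · show σ (ψB _) ∈ Hsub K q
        rw [hψB.1, mem_Hsub, phB_dg]
        exact dg_mem S _ _
      · show ψB antS * s x * (ψB antS)⁻¹ = s x1 * ψB _ * ψB antS * s x1
        rw [hst, hs1, ← map_inv, ← map_mul, ← map_mul, ← map_mul, ← map_mul, ← map_mul]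
        congr 1
        have := ant_up_eq (Units.mk0 t ht)
        simpa using this
  · intro g hg hgU
    obtain ⟨h, hh, w, hw, rfl⟩ := T.normal_form hg
    obtain rfl := hword w hw h (hTH h hh) hgU
    rw [List.map_nil, List.prod_nil, mul_one] at hgU ⊢
    refine T.Tor_inj hh (Subtype.ext ?_)
    exact factsD4.U_inter_H (by rw [factsD4.tsys_U]; exact hgU) (mem_Hsub.1 (hTH h hh))
  · obtain ⟨V, hV⟩ : ∃ V, V = Subgroup.closure ((Usub K q : Set (GT K q)) ∪
        σ '' (Subgroup.closure (Set.range L.n ∪ (Tor σ (Hsub K q) L.R : Set Γ)) : Set Γ)) := ⟨_, rfl⟩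
    rw [← hV]
    have hu : ∀ e, Xg S e ≤ V := fun e x hx => hV ▸ Subgroup.subset_closure (Or.inl (hXU e hx))
    have hn : ∀ e, σ (L.n e) ∈ V := fun e => hV ▸ Subgroup.subset_closure
      (Or.inr ⟨_, Subgroup.subset_closure (Or.inl ⟨e, rfl⟩), rfl⟩)
    refine gen_top S V (fun t => hu true (Or.inl ⟨rfl, t, rfl⟩)) (fun t => ?_)
      (fun t => hu false (Or.inr ⟨rfl, t, rfl⟩)) (fun t => ?_)
    · rw [lo_eq, map_mul, map_mul, map_inv, ← hψA.1]
      exact mul_mem (mul_mem (hn true) (hu true (Or.inl ⟨rfl, _, rfl⟩))) (inv_mem (hn true))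
    · rw [lo_eq, map_mul, map_mul, map_inv, ← hψB.1]
      exact mul_mem (mul_mem (hn false) (hu false (Or.inr ⟨rfl, _, rfl⟩))) (inv_mem (hn false))

end Cfsg.Agent.Lie.TwistMult.D4
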