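import Cfsg.Agent.Lib.Lie.TwistMult.D4Coord
import Cfsg.Agent.Lib.Small.AltSec.D4.Pair

/-!
The two rank one subgroups of ³D₄(q), their tori and the words in their reflections.
-/

set_option autoImplicit false
set_option maxRecDepth 4000
set_option linter.unusedSectionVars false

namespace Cfsg.Agent.Lie.TwistMult.D4

open Cfsg.Lie Cfsg.Agent.Lie Matrix
open Cfsg.Agent.Lie.D4 (Setup)
open Cfsg.Agent.Lie.D4.Setup (cB)
open Cfsg.Agent.Small.D4Degree
open Cfsg.Agent.Small.D4Torus (tt tt_one crd_mul hom_ext2)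
open Cfsg.Agent.Small.AltSec.D4 (phiN phiN_up phiN_lo phiB phiB_apply phiB_up phiB_lo phiB_ant mem_of_gens map_upS map_loS map_antS)
open scoped MatrixGroups

variable {K : Type*} [Field K] [Fintype K] {q : ℕ} (S : Setup K q)

/-- The fixed field. -/
abbrev Fq : Type _ := ↥(S.T.fr.eqLocusField (RingHom.id K))

noncomputable instance : Fintype (Fq S) := Fintype.ofFinite _

theorem Fq_pow (a : Fq S) : (a : K) ^ q = (a : K) := by
  have h : S.T.fr (a : K) = (a : K) := a.2
  rwa [S.hfr] at h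

/-- The element diag(e, e⁻¹). -/
def dgS {F : Type*} [Field F] (e : Fˣ) : Matrix.SpecialLinearGroup (Fin 2) F :=
  ⟨!![(e : F), 0; 0, ((e⁻¹ : Fˣ) : F)], by simp [Matrix.det_fin_two]⟩

theorem dgS_eq {F : Type*} [Field F] (e : Fˣ) : dgS e =
    upS (e : F) * loS (-((e⁻¹ : Fˣ) : F)) * upS (e : F) * (upS 1 * loS (-1) * upS 1)⁻¹ := by
  rw [eq_mul_inv_iff_mul_eq]
  ext i j
  simp only [Matrix.SpecialLinearGroup.coe_mul]
  fin_cases i <;> fin_cases j <;> simp [dgS, upS, loS, Matrix.mul_apply, Fin.sum_univ_two]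

theorem ant_up_eq {F : Type*} [Field F] (t : Fˣ) :
    antS * upS (t : F) * (antS : Matrix.SpecialLinearGroup (Fin 2) F)⁻¹ =
      upS (-((t⁻¹ : Fˣ) : F)) * dgS t⁻¹ * antS * upS (-((t⁻¹ : Fˣ) : F)) := by
  rw [mul_inv_eq_iff_eq_mul]
  ext i j
  simp only [Matrix.SpecialLinearGroup.coe_mul]
  fin_cases i <;> fin_cases j <;> simp [dgS, upS, antS, Matrix.mul_apply, Fin.sum_univ_two]

theorem lo_eq {F : Type*} [Field F] (t : F) :
    (loS t : Matrix.SpecialLinearGroup (Fin 2) F) = antS * upS (-t) * antS⁻¹ := by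
  rw [eq_mul_inv_iff_mul_eq]
  ext i j
  simp only [Matrix.SpecialLinearGroup.coe_mul]
  fin_cases i <;> fin_cases j <;> simp [upS, loS, antS, Matrix.mul_apply, Fin.sum_univ_two]

theorem sl_cases {F : Type*} [Field F] (g : Matrix.SpecialLinearGroup (Fin 2) F) :
    (∃ e x, g = dgS e * upS x) ∨ ∃ a e b, g = upS a * dgS e * antS * upS b := by
  have hdet : g.1 0 0 * g.1 1 1 - g.1 0 1 * g.1 1 0 = 1 := by
    rw [← Matrix.det_fin_two]; exact g.2
  by_cases hc : g.1 1 0 = 0
  · rw [hc, mul_zero, sub_zero] at hdet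
    have h0 : g.1 0 0 ≠ 0 := left_ne_zero_of_mul_eq_one hdet
    refine Or.inl ⟨Units.mk0 _ h0, g.1 0 1 / g.1 0 0, ?_⟩
    ext i j
    simp only [Matrix.SpecialLinearGroup.coe_mul]
    fin_cases i <;> fin_cases j <;> simp [dgS, upS, Matrix.mul_apply, Fin.sum_univ_two, hc]
    · field_simp
    · field_simp; linear_combination hdet
  · refine Or.inr ⟨g.1 0 0 / g.1 1 0, (Units.mk0 _ (neg_ne_zero.2 hc))⁻¹, g.1 1 1 / g.1 1 0, ?_⟩
    ext i j
    simp only [Matrix.SpecialLinearGroup.coe_mul]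
    fin_cases i <;> fin_cases j <;> simp [dgS, upS, antS, Matrix.mul_apply, Fin.sum_univ_two] <;>
      field_simp <;> linear_combination (-1 : F) * hdet

theorem phiN_ant (i : Fin chevD4.rank) : phiN K i.val i.isLt antS = (factsD4.tsys K).nS i := by
  rw [Cfsg.Agent.Small.D4Torus.antS_eq, map_mul, map_mul, phiN_up, phiN_lo, factsD4.tsys_nS, factsD4.ng_eq,
    inv_one]

theorem phiN_dg (i : Fin chevD4.rank) (e : Kˣ) :
    phiN K i.val i.isLt (dgS e) = torus chevD4 K (Pi.mulSingle i e) := by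
  rw [dgS_eq, map_mul, map_inv, map_mul, map_mul, map_mul, map_mul, phiN_up, phiN_up, phiN_lo, phiN_lo,
    factsD4.torus_single, factsD4.hg_eq, factsD4.ng_eq, factsD4.ng_eq]
  simp only [inv_one, Units.val_inv_eq_inv_val]
  rw [_root_.mul_inv_rev, _root_.mul_inv_rev]
  have hn : ∀ r (t : K), (factsD4.xg r t)⁻¹ = factsD4.xg r (-t) := fun r t => inv' r t
  simp only [hn, inv_neg, inv_one, neg_neg, mul_assoc]

/-- The rank one homomorphism of the central node. -/
noncomputable def phA : Matrix.SpecialLinearGroup (Fin 2) (Fq S) →* GT K q :=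
  ((phiN K 1 (by decide +kernel)).comp
    (Matrix.SpecialLinearGroup.map (S.T.fr.eqLocusField (RingHom.id K)).subtype)).codRestrict _
    (mem_of_gens _
      (fun t => by
        rw [MonoidHom.comp_apply, map_upS, phiN_up, show chevD4.simple 1 = 14 by decide +kernel]
        exact S.A_mem (Or.inl rfl) (Fq_pow S t))
      (fun t => by
        rw [MonoidHom.comp_apply, map_loS, phiN_lo, show chevD4.neg (chevD4.simple 1) = 9 by decide +kernel]
        exact S.A_mem (Or.inr rfl) (Fq_pow S t)))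

/-- The rank one homomorphism of the outer nodes. -/
noncomputable def phB : Matrix.SpecialLinearGroup (Fin 2) K →* GT K q :=
  (phiB S).codRestrict _ (mem_of_gens _
    (fun t => by rw [phiB_up]; exact S.B_mem (Or.inl rfl) t)
    (fun t => by rw [phiB_lo]; exact S.B_mem (Or.inr rfl) t))

theorem coe_phA (g : Matrix.SpecialLinearGroup (Fin 2) (Fq S)) : (phA S g : GL chevD4.Idx K) =
    phiN K 1 (by decide +kernel) (Matrix.SpecialLinearGroup.map (S.T.fr.eqLocusField (RingHom.id K)).subtype g) :=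
  rfl

theorem coe_phB (g : Matrix.SpecialLinearGroup (Fin 2) K) : (phB S g : GL chevD4.Idx K) = phiB S g := rfl

theorem phA_up (t : Fq S) : (phA S (upS t) : GL chevD4.Idx K) = X 14 (t : K) := by
  rw [coe_phA, map_upS, phiN_up, show chevD4.simple 1 = 14 by decide +kernel]
  rfl

theorem phA_lo (t : Fq S) : (phA S (loS t) : GL chevD4.Idx K) = X 9 (t : K) := by
  rw [coe_phA, map_loS, phiN_lo, show chevD4.neg (chevD4.simple 1) = 9 by decide +kernel]
  rfl

theorem phB_up (t : K) : phB S (upS t) = xB S t :=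
  Subtype.ext (by rw [coe_phB, phiB_up, coe_xB, A_eq])

theorem map_dgS {F F' : Type*} [Field F] [Field F'] (f : F →+* F') (e : Fˣ) :
    Matrix.SpecialLinearGroup.map f (dgS e) = dgS (Units.map f.toMonoidHom e) := by
  ext i j
  rw [Matrix.SpecialLinearGroup.map_apply_coe]
  fin_cases i <;> fin_cases j <;> simp [dgS]

theorem phA_dg (e : (Fq S)ˣ) : (phA S (dgS e) : GL chevD4.Idx K) =
    tt S 1 (Units.map (S.T.fr.eqLocusField (RingHom.id K)).subtype.toMonoidHom e) := by
  rw [coe_phA, map_dgS]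
  refine (phiN_dg (1 : Fin chevD4.rank) _).trans (congrArg (torus chevD4 K) ?_)
  funext j
  match j with
  | ⟨0, _⟩ => rfl
  | ⟨1, _⟩ => rfl
  | ⟨2, _⟩ => exact (one_pow q).symm
  | ⟨3, _⟩ => exact ((congrArg (· ^ q) (one_pow q)).trans (one_pow q)).symm

theorem phB_dg (e : Kˣ) : (phB S (dgS e) : GL chevD4.Idx K) = tt S e 1 := by
  rw [coe_phB, phiB_apply, map_dgS, map_dgS]
  refine Eq.trans (congrArg₂ (· * ·) (phiN_dg (0 : Fin chevD4.rank) _)
    (congrArg₂ (· * ·) (phiN_dg (2 : Fin chevD4.rank) _) (phiN_dg (3 : Fin chevD4.rank) _))) ?_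
  rw [tt, ← map_mul, ← map_mul]
  congr 1
  have h1 : Units.map S.T.fr.toMonoidHom e = e ^ q := Units.ext (by simp [S.hfr])
  have h2 : Units.map S.T.fr.toMonoidHom (e ^ q) = (e ^ q) ^ q := Units.ext (by simp [S.hfr])
  rw [h1, h2]
  funext j
  match j with
  | ⟨0, _⟩ => show e * (1 * 1) = e; simp
  | ⟨1, _⟩ => show 1 * (1 * 1) = (1 : Kˣ); simp
  | ⟨2, _⟩ => show 1 * (e ^ q * 1) = e ^ q; simp
  | ⟨3, _⟩ => show 1 * (1 * (e ^ q) ^ q) = (e ^ q) ^ q; simp

/-- The nodes of a reflection. -/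
def nodeOf : Bool → List (Fin chevD4.rank)
  | true => [1]
  | false => [0, 2, 3]

/-- The nodes of a word in the reflections. -/
def bw (w : List Bool) : List (Fin chevD4.rank) := w.flatMap nodeOf

theorem phA_ant : (phA S antS : GL chevD4.Idx K) = (factsD4.tsys K).nw (bw [true]) := by
  rw [coe_phA, map_antS, show bw [true] = [(1 : Fin chevD4.rank)] from rfl, TorusSys.nw_singleton]
  exact phiN_ant 1

theorem phB_ant : (phB S antS : GL chevD4.Idx K) = (factsD4.tsys K).nw (bw [false]) := by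
  rw [coe_phB, phiB_ant]
  rfl

theorem orb_false : orbWord chevD4 Cfsg.Agent.Lie.D4.Os [1] = bw [false] := by decide +kernel

theorem nw_same {ω ω' : List (Fin chevD4.rank)}
    (h : wKey chevD4 (ω.map Fin.val) = wKey chevD4 (ω'.map Fin.val)) :
    (factsD4.tsys K).nw ω * ((factsD4.tsys K).nw ω')⁻¹ ∈ (factsD4.tsys K).H := by
  obtain ⟨g, hg, he⟩ := (factsD4.tsys K).nw_eq (ω := ω) rfl
  obtain ⟨g', hg', he'⟩ := (factsD4.tsys K).nw_eq (ω := ω') (w := factsD4.refSys.pr ω)
    (factsD4.pr_eq_of_key h).symm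
  rw [he, he', _root_.mul_inv_rev, mul_assoc, mul_inv_cancel_left]
  exact mul_mem hg (inv_mem hg')

theorem nw_B {ω : List (Fin chevD4.rank)} (h : (factsD4.tsys K).nw ω ∈ (factsD4.tsys K).B) :
    wKey chevD4 (ω.map Fin.val) = wKey chevD4 [] := by
  obtain ⟨g, hg, he⟩ := (factsD4.tsys K).nw_eq (ω := ω) rfl
  obtain ⟨g1, hg1, he1⟩ := (factsD4.tsys K).nw_eq (ω := []) rfl
  rw [TorusSys.nw_nil] at he1
  obtain ⟨hw, -, -⟩ := factsD4.bruhat_unique (F := K) (w := factsD4.refSys.pr ω) (v := factsD4.refSys.pr [])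
    ((factsD4.tsys K).H_le_B hg) (mul_mem h ((factsD4.tsys K).H_le_B hg1))
    (one_mem _) (one_mem _) (by rw [mul_one, mul_one, ← he, mul_assoc, ← he1, mul_one])
  exact factsD4.key_eq (ω' := []) hw

/-- An element X_s of a word pulled back. -/
theorem nw_X_inv {ω : List (Fin chevD4.rank)} {r s : ℕ} (hs : s < 24) (h : actL ω s = r) (t : K) :
    ∃ t' : K, ((factsD4.tsys K).nw ω)⁻¹ * X r t * (factsD4.tsys K).nw ω = X s t' := by
  obtain ⟨σ, hσ, hc⟩ := nw_X (K := K) ω hs
  refine ⟨σ * t, ?_⟩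
  have e := hc (σ * t)
  rw [h] at e
  have hσ2 : σ * (σ * t) = t := by rcases hσ with rfl | rfl <;> ring
  rw [hσ2] at e
  rw [← e]
  group

end Cfsg.Agent.Lie.TwistMult.D4
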