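import Cfsg.Agent.Lib.Lie.TwistE6S
import Cfsg.Agent.Lib.Lie.MinusculeCerts
import Cfsg.Agent.Lib.Lie.TorusCerts
import Cfsg.Prelude.Def_KGroupFacts

/-!
The triple cover of ²E₆(q), 3 dividing q + 1, inside the Steinberg group of type E₆.
-/

set_option autoImplicit false
set_option maxRecDepth 4000
set_option linter.unusedSectionVars false
set_option linter.style.haveILetI false

universe u

namespace Cfsg.Agent.Lie.E6

open Cfsg.Lie Matrix
open scoped MatrixGroups commutatorElement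

namespace Mult

theorem stHyp : StHyp chevE6 := stHyp_of_mem (by simp)

/-- The root elements of the presented group. -/
noncomputable abbrev st (K : Type u) [Field K] : TorusSys factsE6 K (chevE6.SteinbergGroup K) :=
  factsE6.stT stHyp K

theorem comm_facts : ([(56, 36), (42, 37), (15, 35), (29, 34), (56, 35), (42, 34), (15, 36), (29, 37)] :
    List (ℕ × ℕ)).all (fun p => decide (p.1 < 72) && decide (p.2 < 72) && (p.2 != p.1) &&
      (p.2 != chevE6.neg p.1) && (chevE6.commTerms p.1 p.2).isEmpty) = true := by decide +kernel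

variable {K : Type u} [Field K]

theorem st_commute {a b : ℕ} (h : (a, b) ∈ ([(56, 36), (42, 37), (15, 35), (29, 34), (56, 35), (42, 34), (15, 36),
    (29, 37)] : List (ℕ × ℕ))) (t u : K) : Commute ((st K).x a t) ((st K).x b u) := by
  have hk := List.all_eq_true.1 comm_facts (a, b) h
  simp only [Bool.and_eq_true, decide_eq_true_eq, bne_iff_ne, List.isEmpty_iff] at hk
  obtain ⟨⟨⟨⟨ha, hb⟩, h1⟩, h2⟩, h3⟩ := hk
  have := (st K).x_comm a b ha hb h1 h2 t u
  show (st K).x a t * (st K).x b u = (st K).x b u * (st K).x a t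
  exact (by simpa [ChevalleyDatum.commWord, h3] using this : _ = _).symm

/-- The value of a word in the presented group. -/
noncomputable def stWd (w : List (ℕ × K)) : chevE6.SteinbergGroup K := (w.map fun p => (st K).x p.1 p.2).prod

theorem proj_stWd (w : List (ℕ × K)) : factsE6.proj K (stWd w) = factsE6.wg w := by
  rw [stWd, map_list_prod, List.map_map, Facts.wg]
  congr 1
  refine List.map_congr_left fun p _ => ?_
  exact factsE6.proj_x p.1 p.2

/-- The cover. -/
noncomputable def Cov (K : Type u) [Field K] (q : ℕ) : Subgroup (chevE6.SteinbergGroup K) :=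
  Subgroup.closure {g | ∃ w ∈ e6Words K q, g = stWd w}

variable {q : ℕ}

theorem cov_word {w : List (ℕ × K)} (hw : w ∈ e6Words K q) : stWd w ∈ Cov K q :=
  Subgroup.subset_closure ⟨w, hw, rfl⟩

theorem cov_map : (Cov K q).map (factsE6.proj K) = twistedE6 K q := by
  rw [Cov, MonoidHom.map_closure, twistedE6, ChevalleyDatum.genSubgroup]
  congr 1
  ext g
  simp only [Set.mem_image, Set.mem_ofPred_eq]
  constructor
  · rintro ⟨_, ⟨w, hw, rfl⟩, rfl⟩
    exact ⟨w, hw, by rw [proj_stWd, factsE6.coe_wg]⟩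
  · rintro ⟨w, hw, hg⟩
    exact ⟨_, ⟨w, hw, rfl⟩, by rw [proj_stWd]; exact Units.ext (by rw [factsE6.coe_wg, hg])⟩

variable [Fintype K] (S : Setup K q)

include S

theorem neg_inv_pow (t : K) : (-t⁻¹) ^ q = -(t ^ q)⁻¹ := by
  rw [← S.hfr, ← S.hfr, map_neg, map_inv₀]

/-- The torus elements of a pair of nodes lie in the cover. -/
theorem hh_mem {a b : ℕ} (h : (a = 56 ∧ b = 36) ∨ (a = 42 ∧ b = 37)) (t : K) :
    (st K).h a t * (st K).h b (t ^ q) ∈ Cov K q := by
  obtain ⟨a', b', ha', hb', hab, hab', hpos, hneg, c1, c2⟩ : ∃ a' b', chevE6.neg a = a' ∧ chevE6.neg b = b' ∧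
      (a, b) ∈ [(e6p1, e6p6), (e6m1, e6m6), (e6p3, e6p5), (e6m3, e6m5)] ∧
      (a', b') ∈ [(e6p1, e6p6), (e6m1, e6m6), (e6p3, e6p5), (e6m3, e6m5)] ∧
      (∀ x y : K, Commute ((st K).x a x) ((st K).x b y)) ∧ (∀ x y : K, Commute ((st K).x a' x) ((st K).x b' y)) ∧
      (∀ x y : K, Commute ((st K).x a x) ((st K).x b' y)) ∧ (∀ x y : K, Commute ((st K).x a' x) ((st K).x b y)) := by
    rcases h with ⟨rfl, rfl⟩ | ⟨rfl, rfl⟩
    · exact ⟨15, 35, rfl, rfl, by simp [e6p1, e6p6], by simp [e6m1, e6m6], fun x y => st_commute (by simp) x y,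
        fun x y => st_commute (by simp) x y, fun x y => st_commute (by simp) x y,
        fun x y => st_commute (by simp) x y⟩
    · exact ⟨29, 34, rfl, rfl, by simp [e6p3, e6p5], by simp [e6m3, e6m5], fun x y => st_commute (by simp) x y,
        fun x y => st_commute (by simp) x y, fun x y => st_commute (by simp) x y,
        fun x y => st_commute (by simp) x y⟩
  have hw : ∀ {c d : ℕ}, (c, d) ∈ [(e6p1, e6p6), (e6m1, e6m6), (e6p3, e6p5), (e6m3, e6m5)] → ∀ v : K,
      (st K).x c v * (st K).x d (v ^ q) ∈ Cov K q := fun {c d} hcd v => by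
    have := cov_word (q := q) (w := [(c, v), (d, v ^ q)]) (Or.inr ⟨v, (c, d), hcd, rfl⟩)
    simpa [stWd] using this
  have hn : ∀ v : K, (st K).n a v * (st K).n b (v ^ q) ∈ Cov K q := fun v => by
    have hm := mul_mem (mul_mem (hw hab v) (hw hab' (-v⁻¹))) (hw hab v)
    rw [neg_inv_pow S] at hm
    convert hm using 1
    simp only [TorusSys.n, nElt, ha', hb']
    have e1 := (c2 (-v⁻¹) (v ^ q)).eq
    have e2 := (hpos v (v ^ q)).eq
    have e3 := (hpos v (v ^ q)).eq
    have e4 := (c1 v (-(v ^ q)⁻¹)).eq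
    generalize (st K).x a v = A, (st K).x a' (-v⁻¹) = A', (st K).x b (v ^ q) = B,
      (st K).x b' (-(v ^ q)⁻¹) = B' at e1 e2 e4 ⊢
    calc A * A' * A * (B * B' * B) = A * A' * (A * B) * B' * B := by group
      _ = A * (A' * B) * (A * B') * B := by rw [e2]; group
      _ = A * B * A' * (B' * A) * B := by rw [e1, e4]; group
      _ = _ := by group
  have hcn : ∀ u v : K, Commute ((st K).n a u) ((st K).n b v) := fun u v => by
    simp only [TorusSys.n, nElt, ha', hb']
    refine Commute.mul_left (Commute.mul_left ?_ ?_) ?_ <;>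
      exact Commute.mul_right (Commute.mul_right (by first | exact hpos _ _ | exact c2 _ _)
        (by first | exact c1 _ _ | exact hneg _ _)) (by first | exact hpos _ _ | exact c2 _ _)
  have h1 : (-1 : K) ^ q = -1 := by rw [← S.hfr, map_neg, map_one]
  have hm := mul_mem (hn t) (hn (-1))
  rw [h1] at hm
  convert hm using 1
  simp only [TorusSys.h]
  exact Commute.mul_mul_mul_comm (hcn (-1) (t ^ q)) _ _

theorem card_center (h3 : 3 ∣ q + 1) : Nat.card (Subgroup.center (chevE6.SteinbergGroup K)) = 3 := by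
  rw [card_center_of_rep minRepE6 factsE6 kerCertE6, ← Nat.card_eq_fintype_card, S.hK]
  refine Nat.gcd_eq_left ?_
  rw [show q ^ 2 - 1 = (q + 1) * (q - 1) by simpa using Nat.sq_sub_sq q 1]
  exact dvd_mul_of_dvd_left h3 _

theorem exists_central (h3 : 3 ∣ q + 1) : ∃ z ∈ Cov K q, z ≠ 1 ∧ factsE6.proj K z = 1 := by
  classical
  haveI : Fact (Nat.Prime 3) := ⟨Nat.prime_three⟩
  have hdvd : 3 ∣ Nat.card Kˣ := by
    rw [Nat.card_units, S.hK, show q ^ 2 - 1 = (q + 1) * (q - 1) by simpa using Nat.sq_sub_sq q 1]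
    exact dvd_mul_of_dvd_left h3 _
  obtain ⟨w, hw⟩ := exists_prime_orderOf_dvd_card' 3 hdvd
  have hw3 : w ^ 3 = 1 := hw ▸ pow_orderOf_eq_one w
  have hwq : w ^ q = w ^ 2 := by
    obtain ⟨k, hk⟩ := h3
    have : w ^ (q + 1) = w ^ 3 := by rw [hw3, hk, pow_mul, hw3, one_pow]
    rw [pow_succ, pow_succ] at this
    exact mul_right_cancel this
  obtain ⟨ψ, hψ1, hψ2, hψ3⟩ := factsE6.exists_st_torus stHyp (F := K)
  obtain ⟨c, hc⟩ : ∃ c, c = S.crd w (w ^ 2) 1 1 := ⟨_, rfl⟩
  have hker : ∀ d, torus chevE6 K d = 1 → ∃ k : ℕ, d = c ^ k := by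
    intro d hd
    have hd' := (factsE6.torus_eq_iff d 1).1 (hd.trans (map_one _).symm)
    rw [inv_one, mul_one, torChar_E6] at hd'
    obtain ⟨d1, d3, d0, d2, d4, d5⟩ := hd'
    obtain ⟨k, hk⟩ : ∃ k : ℕ, d 0 = w ^ k := by
      have hM : Nat.card (powMonoidHom 3 : Kˣ →* Kˣ).ker = 3 := by
        rw [IsCyclic.card_powMonoidHom_ker Kˣ 3]; exact Nat.gcd_eq_right hdvd
      have hle : Subgroup.zpowers w ≤ (powMonoidHom 3 : Kˣ →* Kˣ).ker := Subgroup.zpowers_le.2 hw3
      have heq := Subgroup.eq_of_le_of_card_ge hle (by rw [hM, Nat.card_zpowers, hw])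
      obtain ⟨k, hk⟩ := mem_powers_iff_mem_zpowers.2 (heq ▸ (show d 0 ∈ (powMonoidHom 3 : Kˣ →* Kˣ).ker from d0))
      exact ⟨k, hk.symm⟩
    refine ⟨k, funext fun j => ?_⟩
    rw [hc]
    match j with
    | ⟨0, _⟩ => exact hk
    | ⟨1, _⟩ => exact d1.trans (one_pow k).symm
    | ⟨2, _⟩ => show d 2 = (w ^ 2) ^ k; rw [d2, hk, ← pow_mul, ← pow_mul, mul_comm]
    | ⟨3, _⟩ => exact d3.trans (one_pow k).symm
    | ⟨4, _⟩ =>
      show d 4 = ((w ^ 2) ^ q) ^ k
      rw [d4, hk, ← pow_mul w 2 q, mul_comm 2 q, pow_mul, hwq, ← pow_mul w 2 2, show 2 * 2 = 3 + 1 from rfl,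
        pow_add, hw3, one_mul, pow_one]
    | ⟨5, _⟩ => show d 5 = (w ^ q) ^ k; rw [d5, hk, hwq, ← pow_mul, ← pow_mul, mul_comm]
  have hcz : torus chevE6 K c = 1 := by
    rw [← map_one (torus chevE6 K), factsE6.torus_eq_iff, inv_one, mul_one, torChar_E6, hc]
    refine ⟨rfl, rfl, hw3, rfl, ?_, hwq⟩
    show (w ^ 2) ^ q = w
    rw [← pow_mul, mul_comm, pow_mul, hwq, ← pow_mul, show 2 * 2 = 3 + 1 from rfl, pow_add, hw3, one_mul, pow_one]
  refine ⟨ψ c, ?_, fun h1 => ?_, by rw [hψ2, hcz]⟩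
  · have e : c = (Pi.mulSingle 0 w * Pi.mulSingle 5 (w ^ q)) * (Pi.mulSingle 2 (w ^ 2) * Pi.mulSingle 4 ((w ^ 2) ^ q)) := by
      rw [hc]
      funext j
      match j with
      | ⟨0, _⟩ => show w = w * 1 * (1 * 1); simp
      | ⟨1, _⟩ => show (1 : Kˣ) = 1 * 1 * (1 * 1); simp
      | ⟨2, _⟩ => show w ^ 2 = 1 * 1 * (w ^ 2 * 1); simp
      | ⟨3, _⟩ => show (1 : Kˣ) = 1 * 1 * (1 * 1); simp
      | ⟨4, _⟩ => show (w ^ 2) ^ q = 1 * 1 * (1 * (w ^ 2) ^ q); simp
      | ⟨5, _⟩ => show w ^ q = 1 * w ^ q * (1 * 1); simp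
    obtain ⟨a0, a5, a2, a4⟩ : chevE6.simple (0 : Fin chevE6.rank).val = 56 ∧
        chevE6.simple (5 : Fin chevE6.rank).val = 36 ∧ chevE6.simple (2 : Fin chevE6.rank).val = 42 ∧
        chevE6.simple (4 : Fin chevE6.rank).val = 37 := by decide +kernel
    rw [e, map_mul, map_mul, map_mul, hψ1, hψ1, hψ1, hψ1, a0, a5, a2, a4]
    simp only [Units.val_pow_eq_pow_val]
    exact mul_mem (hh_mem S (Or.inl ⟨rfl, rfl⟩) _) (hh_mem S (Or.inr ⟨rfl, rfl⟩) _)
  · have hbot : Subgroup.center (chevE6.SteinbergGroup K) = ⊥ := by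
      rw [← factsE6.ker_eq_center stHyp stHyp.2.2, Subgroup.eq_bot_iff_forall]
      intro g hg
      obtain ⟨d, rfl⟩ := hψ3 (factsE6.H_le_H0 stHyp (factsE6.ker_le_H stHyp hg))
      rw [MonoidHom.mem_ker, hψ2] at hg
      obtain ⟨k, rfl⟩ := hker d hg
      rw [map_pow, h1, one_pow]
    have := card_center S h3
    rw [hbot, Subgroup.card_bot] at this
    omega

/-- The covering projection. -/
theorem exists_cover (hq : IsPrimePow q) (h3 : 3 ∣ q + 1) :
    ∃ (Γ : Type u) (_ : Group Γ) (_ : Finite Γ) (σ : Γ →* ↥(twistedE6 K q)),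
      Cfsg.IsStemExtension σ ∧ Nonempty (σ.ker ≃* Multiplicative (ZMod 3)) := by
  classical
  haveI : Fact (Nat.Prime 3) := ⟨Nat.prime_three⟩
  let σ : ↥(Cov K q) →* ↥(twistedE6 K q) :=
    ((factsE6.proj K).comp (Cov K q).subtype).codRestrict _ fun g => cov_map (K := K) ▸ ⟨g, g.2, rfl⟩
  have hsurj : Function.Surjective σ := fun y => by
    obtain ⟨g, hg, he⟩ : (y : GL chevE6.Idx K) ∈ (Cov K q).map (factsE6.proj K) := by rw [cov_map]; exact y.2
    exact ⟨⟨g, hg⟩, Subtype.ext he⟩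
  have hkz : ∀ g : ↥(Cov K q), g ∈ σ.ker → (g : chevE6.SteinbergGroup K) ∈ Subgroup.center (chevE6.SteinbergGroup K) :=
    fun g hg => by
      rw [← factsE6.ker_eq_center stHyp stHyp.2.2]
      exact congrArg Subtype.val (MonoidHom.mem_ker.1 hg)
  have hfin : Finite (Subgroup.center (chevE6.SteinbergGroup K)) :=
    Nat.finite_of_card_ne_zero (by rw [card_center S h3]; norm_num)
  let j : σ.ker →* Subgroup.center (chevE6.SteinbergGroup K) :=
    MonoidHom.mk' (fun g => ⟨(g.1 : chevE6.SteinbergGroup K), hkz g.1 g.2⟩) fun _ _ => rfl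
  have hj : Function.Injective j := fun a b h =>
    Subtype.ext (Subtype.ext (congrArg (fun x : Subgroup.center (chevE6.SteinbergGroup K) => x.1) h))
  haveI : Finite σ.ker := Finite.of_injective j hj
  have hcard : Nat.card σ.ker = 3 := by
    have hd := Subgroup.card_dvd_of_injective j hj
    rw [card_center S h3] at hd
    rcases (Nat.dvd_prime Nat.prime_three).1 hd with h | h
    · obtain ⟨z, hz, hz1, hzp⟩ := exists_central S h3
      have hzk : (⟨z, hz⟩ : ↥(Cov K q)) ∈ σ.ker := Subtype.ext hzp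
      have := Subgroup.card_eq_one.1 h
      rw [this, Subgroup.mem_bot] at hzk
      exact absurd (congrArg Subtype.val hzk) hz1
    · exact h
  haveI : Finite ↥(Cov K q) := Finite.of_equiv _ (Subgroup.groupEquivQuotientProdSubgroup (s := σ.ker)).symm
  refine ⟨↥(Cov K q), inferInstance, inferInstance, σ, ⟨hsurj, fun g hg => ?_, ?_⟩, ?_⟩
  · refine Subgroup.mem_center_iff.2 fun y => Subtype.ext ?_
    exact Subgroup.mem_center_iff.1 (hkz g hg) y
  · obtain ⟨p, f, hp, hf, hpq⟩ := hq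
    have hp := Nat.prime_iff.2 hp
    have hp3 : ¬ 3 ∣ p := fun h => by
      have h' : 3 ∣ q := hpq ▸ h.trans (dvd_pow_self p hf.ne')
      have := Nat.dvd_sub h3 h'
      simp at this
    have hpK : (p : K) = 0 := by
      have h : ((Fintype.card K : ℕ) : K) = 0 := Nat.cast_card_eq_zero K
      rw [← Nat.card_eq_fintype_card, S.hK, ← hpq, Nat.cast_pow, Nat.cast_pow] at h
      exact eq_zero_of_pow_eq_zero (eq_zero_of_pow_eq_zero h)
    have hxp : ∀ r (t : K), (st K).x r t ^ p = 1 := fun r t => by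
      have : ∀ n : ℕ, (st K).x r t ^ n = (st K).x r ((n : K) * t) := fun n => by
        induction n with
        | zero => rw [pow_zero, Nat.cast_zero, zero_mul]; exact (CommSys.x_zero _ r).symm
        | succ n ih => rw [pow_succ, ih, ← (st K).x_add, Nat.cast_succ, add_mul, one_mul]
      rw [this, hpK, zero_mul]; exact CommSys.x_zero _ r
    suffices htop : commutator ↥(Cov K q) = ⊤ by rw [htop]; exact le_top
    rw [eq_top_iff]
    rintro ⟨g, hg⟩ -
    induction hg using Subgroup.closure_induction with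
    | mem x hx =>
      obtain ⟨w, hw, rfl⟩ := hx
      set e : ↥(Cov K q) := ⟨stWd w, cov_word hw⟩ with he
      have hep : e ^ p = 1 := Subtype.ext <| by
        show stWd w ^ p = 1
        rcases hw with ⟨t, -, r, -, rfl⟩ | ⟨t, ⟨a, b⟩, hab, rfl⟩
        · simpa [stWd] using hxp r t
        · have hc := st_commute (K := K) (a := a) (b := b) (by
            simp [e6p1, e6p6, e6m1, e6m6, e6p3, e6p5, e6m3, e6m5] at hab ⊢; tauto) t (t ^ q)
          have e' : stWd [(a, t), (b, t ^ q)] = (st K).x a t * (st K).x b (t ^ q) := by simp [stWd]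
          rw [e', hc.mul_pow, hxp, hxp, one_mul]
      have hce : σ e ∈ (commutator ↥(Cov K q)).map σ := by
        rw [commutator_def, Subgroup.map_commutator, Subgroup.map_top_of_surjective σ hsurj, ← commutator_def,
          S.perfect]
        exact Subgroup.mem_top _
      obtain ⟨c, hcm, hce⟩ := hce
      have hk : (c⁻¹ * e) ∈ σ.ker := by rw [MonoidHom.mem_ker, map_mul, map_inv, hce, inv_mul_cancel]
      have h3' : (c⁻¹ * e) ^ 3 = 1 := by
        have := congrArg Subtype.val (pow_card_eq_one' (G := σ.ker) (x := ⟨_, hk⟩))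
        rwa [hcard] at this
      haveI : (commutator ↥(Cov K q)).Normal := inferInstance
      rw [← QuotientGroup.eq_one_iff (N := commutator ↥(Cov K q))]
      have hq : ((c⁻¹ * e : ↥(Cov K q)) : ↥(Cov K q) ⧸ commutator ↥(Cov K q)) = (e : ↥(Cov K q) ⧸ _) := by
        rw [QuotientGroup.mk_mul, QuotientGroup.mk_inv, (QuotientGroup.eq_one_iff c).2 hcm, inv_one, one_mul]
      have o3 : orderOf (e : ↥(Cov K q) ⧸ commutator ↥(Cov K q)) ∣ 3 :=
        orderOf_dvd_of_pow_eq_one (by rw [← hq, ← QuotientGroup.mk_pow, h3', QuotientGroup.mk_one])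
      have op : orderOf (e : ↥(Cov K q) ⧸ commutator ↥(Cov K q)) ∣ p :=
        orderOf_dvd_of_pow_eq_one (by rw [← QuotientGroup.mk_pow, hep, QuotientGroup.mk_one])
      exact orderOf_eq_one_iff.1 (Nat.eq_one_of_dvd_coprimes (Nat.prime_three.coprime_iff_not_dvd.2 hp3) o3 op)
    | one => exact one_mem _
    | mul a b ha hb iha ihb => exact mul_mem (show (⟨a, ha⟩ : ↥(Cov K q)) ∈ _ from iha) ihb
    | inv a ha iha => exact inv_mem (show (⟨a, ha⟩ : ↥(Cov K q)) ∈ _ from iha)
  · haveI := isCyclic_of_prime_card hcard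
    exact ⟨(hcard ▸ zmodCyclicMulEquiv this).symm⟩

end Mult

end Cfsg.Agent.Lie.E6
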