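import Cfsg.Agent.Lib.Lie.TwistE6S
import Cfsg.Agent.Lib.Small.TwoGen.TwistedE6
import Cfsg.Agent.Lib.Solv.WeightSeriesGen

/-!
The unipotent radical of a Borel subgroup of ²E₆(q), q > 2, filtered by its root subgroups: in a central extension
the commutators of the lifts avoid the kernel.
-/

set_option autoImplicit false
set_option maxRecDepth 4000
set_option linter.unusedSectionVars false

namespace Cfsg.Agent.Lie.E6

open Cfsg.Lie Matrix
open Cfsg.Agent.Small.TwoGen (commutes singleUnit comm_singleUnit)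
open Cfsg.Agent.Small.TwoGen.E6 (PE PE_add PE_conj okCom okCom_spec commutes_rev sign_sq orth_img)
open Cfsg.Agent.Small.SchurLifts (Central)
open Cfsg.Agent.Solv.WeightSeriesGen
open scoped MatrixGroups commutatorElement

namespace Mult

/-- One root from each orbit on the positive roots, from the highest downwards. -/
def reps : List ℕ := [71, 70, 69, 68, 67, 65, 64, 63, 62, 61, 60, 59, 58, 57, 56, 53, 51, 50, 47, 46, 44, 43, 42, 39]

/-- The root representing an index. -/
def rep (i : ℕ) : ℕ := reps.getD i 0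

/-- The index of the orbit of a root. -/
def idx (r : ℕ) : ℕ := reps.findIdx fun a => a == r || graphE6.img a == r

/-- The roots of the first orbits. -/
def LK (k : ℕ) : List ℕ := (Facts.posL chevE6).filter fun r => decide (idx r < k)

/-- Cocharacters separating the weights. -/
def seps : List (List ℤ) := [[-2, -1, -2, -2, -1, 0], [-1, -1, -2, -2, 0, 0], [-1, -1, -1, -2, -2, 0],
  [-1, 0, -1, -1, -1, -1], [0, -1, 0, 0, 0, 0], [0, 0, -1, -1, -1, 0], [-1, -1, -2, -1, 0, 0],
  [-1, -1, -1, -1, -1, -1], [-1, -1, -1, -2, -1, -1]]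

/-- Cocharacters filling the weights. -/
def fills : List (List ℤ) := [[0, 1, 0, 0, 0, 0], [0, -1, 0, 0, 0, 0], [0, 0, 0, -1, 0, 0], [0, 0, 0, 0, 0, 1],
  [0, 0, 0, 0, 0, -1], [0, 0, -1, 0, 0, 0], [0, 0, -1, 0, 0, 0], [0, 0, 0, -1, 0, 0], [0, 0, 0, 0, 1, 0],
  [0, 0, 0, 0, -1, 0], [0, -1, 0, 0, 0, 0], [0, 0, 0, 0, 1, 0], [0, 0, 0, 0, -1, 0], [0, 0, 1, 0, 0, 0],
  [0, 0, -1, 0, 0, 0], [-1, 0, 0, 0, 0, 0], [-1, 0, 0, 0, 0, 0], [-1, 0, 0, 0, 0, 0], [0, 0, -1, 0, 0, 0],
  [0, 0, 0, -1, 0, 0], [-1, 0, 0, 0, 0, 0], [-1, 0, 0, 0, 0, 0], [-1, 0, 0, 0, 0, 0], [0, -1, 0, 0, 0, 0]]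

/-- Each representative as the sum of two roots of the same kind. -/
def decs : List (ℕ × ℕ) := [(46, 70), (25, 71), (24, 71), (36, 67), (35, 68), (20, 71), (29, 67), (18, 71),
  (28, 67), (26, 68), (18, 70), (21, 67), (19, 68), (17, 68), (16, 66), (8, 71), (6, 71), (12, 67), (2, 71),
  (1, 71), (6, 70), (9, 67), (7, 67), (2, 70)]

/-- The first exponent of a cocharacter. -/
def cf (l : List ℤ) (j : Fin chevE6.rank) : ℤ := l.getD j.val 0

/-- The second exponent of a cocharacter. -/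
def cg (l : List ℤ) (j : Fin chevE6.rank) : ℤ := l.getD (([5, 1, 4, 3, 2, 0] : List ℕ).getD j.val 0) 0

/-- The pairing of a root with exponents. -/
def pair (f : Fin chevE6.rank → ℤ) (r : ℕ) : ℤ := ∑ j, f j * chevE6.cartan j.val r

theorem root_facts : (Facts.posL chevE6).all (fun r => decide (r < 72) && decide (36 ≤ graphE6.img r) &&
    decide (graphE6.img r < 72) && decide (idx r < 24) && (idx (graphE6.img r) == idx r) &&
    (r == rep (idx r) || r == graphE6.img (rep (idx r)))) = true := by decide +kernel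

theorem rep_facts : (List.range 24).all (fun i => decide (36 ≤ rep i) && decide (rep i < 72) &&
    (idx (rep i) == i) && (graphE6.img (rep i) != rep i || graphE6.sign (rep i) == 1)) = true := by decide +kernel

theorem idx_comm : (Facts.posL chevE6).all (fun r => (Facts.posL chevE6).all fun s =>
    (chevE6.commTerms r s).all fun c => r == s || (decide (idx c.1 < idx r) && decide (idx c.1 < idx s))) =
    true := by decide +kernel

theorem sep_facts : (List.range 24).all (fun i => (List.range i).all fun j => seps.any fun l =>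
    (pair (cf l) (rep i) == 0) && (pair (cg l) (rep i) == 0) &&
    !((pair (cf l) (rep j) == 0) && (pair (cg l) (rep j) == 0)) &&
    decide ((pair (cf l) (rep j)).natAbs ≤ 2) && decide ((pair (cg l) (rep j)).natAbs ≤ 1)) = true := by
  decide +kernel

theorem fill_facts : (List.range 24).all (fun i => (pair (cf (fills.getD i [])) (rep i) == 1) &&
    (pair (cg (fills.getD i [])) (rep i) == if graphE6.img (rep i) == rep i then 1 else 0)) = true := by
  decide +kernel

/-- A representative is the single commutator of two fixed roots, or of two orbits, whose root subgroups it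
centralises. -/
def okDec (r : ℕ) (ab : ℕ × ℕ) : Bool :=
  let a := ab.1
  let b := ab.2
  let cm := fun x => commutes chevE6 0 x a && commutes chevE6 0 x b && commutes chevE6 0 x (graphE6.img a) &&
    commutes chevE6 0 x (graphE6.img b)
  decide (a < 72) && decide (b < 72) && cm r && cm (graphE6.img r) &&
    if graphE6.img r == r then
      singleUnit chevE6 0 a b == some r && graphE6.img a == a && graphE6.img b == b &&
        graphE6.sign a == 1 && graphE6.sign b == 1
    else okCom a b == some r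

theorem dec_facts : (List.range 24).all (fun i => okDec (rep i) (decs.getD i (0, 0))) = true := by decide +kernel

theorem img_all : (List.range 72).all (fun r => (graphE6.img (graphE6.img r) == r) &&
    (decide (36 ≤ r) == decide (36 ≤ graphE6.img r))) = true := by decide +kernel

theorem img_inv {r : ℕ} (hr : r < 72) : graphE6.img (graphE6.img r) = r ∧ (36 ≤ r ↔ 36 ≤ graphE6.img r) := by
  have h := List.all_eq_true.1 img_all r (List.mem_range.2 hr)
  simpa [Bool.and_eq_true, beq_iff_eq, decide_eq_decide] using h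

theorem mem_LK {k r : ℕ} : r ∈ LK k ↔ (36 ≤ r ∧ r < 72) ∧ idx r < k := by
  simp only [LK, List.mem_filter, decide_eq_true_eq, Facts.mem_posL]
  exact Iff.rfl

theorem root_spec {r : ℕ} (h : 36 ≤ r) (h' : r < 72) : (36 ≤ graphE6.img r ∧ graphE6.img r < 72) ∧ idx r < 24 ∧
    idx (graphE6.img r) = idx r ∧ (r = rep (idx r) ∨ r = graphE6.img (rep (idx r))) := by
  have h := List.all_eq_true.1 root_facts r (Facts.mem_posL.2 ⟨h, h'⟩)
  simp only [Bool.and_eq_true, decide_eq_true_eq, beq_iff_eq, Bool.or_eq_true] at h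
  exact ⟨⟨h.1.1.1.1.2, h.1.1.1.2⟩, h.1.1.2, h.1.2, h.2⟩

theorem rep_spec {i : ℕ} (hi : i < 24) : 36 ≤ rep i ∧ rep i < 72 ∧ idx (rep i) = i ∧
    (graphE6.img (rep i) = rep i → graphE6.sign (rep i) = 1) := by
  have h := List.all_eq_true.1 rep_facts i (List.mem_range.2 hi)
  simp only [Bool.and_eq_true, decide_eq_true_eq, beq_iff_eq, Bool.or_eq_true, bne_iff_ne] at h
  exact ⟨h.1.1.1, h.1.1.2, h.1.2, fun e => h.2.resolve_left fun h' => h' e⟩

theorem idx_lt_of_comm {r s : ℕ} (hr : 36 ≤ r ∧ r < 72) (hs : 36 ≤ s ∧ s < 72) (hne : r ≠ s)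
    {c : ℕ × ℤ × ℕ × ℕ} (hc : c ∈ chevE6.commTerms r s) : idx c.1 < idx r ∧ idx c.1 < idx s := by
  have h := List.all_eq_true.1 (List.all_eq_true.1 (List.all_eq_true.1 idx_comm r (Facts.mem_posL.2 hr)) s
    (Facts.mem_posL.2 hs)) c hc
  simpa [hne] using h

theorem closed_LK (k : ℕ) : ClosedList chevE6 (LK k) := by
  refine ⟨factsE6.closedList_posL.sorted.sublist List.filter_sublist, fun r hr => (mem_LK.1 hr).1,
    fun r hr s hs hne c hc => ?_⟩
  obtain ⟨hr, hrk⟩ := mem_LK.1 hr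
  obtain ⟨hs, -⟩ := mem_LK.1 hs
  exact mem_LK.2 ⟨Facts.mem_posL.1 (factsE6.closedList_posL.closed r (Facts.mem_posL.2 hr) s
    (Facts.mem_posL.2 hs) hne c hc), (idx_lt_of_comm hr hs hne hc).1.trans hrk⟩

variable {K : Type*} [Field K] [Fintype K] {q : ℕ} (S : Setup K q)

include S

theorem PE_mem {r : ℕ} (hr : r < 72) (t : K) : PE S r t ∈ twistedE6 K q := by
  have hr' := Cfsg.Agent.Small.TwoGen.E6.img_lt S hr
  have hs := Cfsg.Agent.Small.TwoGen.E6.sign_img hr
  have hq : ((graphE6.sign r : K) * t ^ q) ^ q = (graphE6.sign r : K) * t := by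
    rw [mul_pow, S.pow_sq]
    congr 1
    rw [← S.hfr, map_intCast]
  obtain ⟨hii, hiff⟩ := img_inv hr
  have hf : PE S r t ∈ S.T.fix := by
    rw [Cfsg.Agent.Small.TwoGen.E6.PE_eq S hr]
    refine ⟨mul_mem (factsE6.xg_mem_group _ _) (factsE6.xg_mem_group _ _), ?_⟩
    rw [S.T.sig_mul _ (factsE6.xg_mem_group _ _) _ (factsE6.xg_mem_group _ _),
      Cfsg.Agent.Small.TwoGen.E6.sig_xg S hr, Cfsg.Agent.Small.TwoGen.E6.sig_xg S hr', hs, hii, hq,
      ← mul_assoc, sign_sq S hr, one_mul]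
    rcases orth_img hr with h | h
    · rw [← h, ← factsE6.xg_add, ← factsE6.xg_add, add_comm]
    · exact (commutes_rev h _ _).symm.eq
  by_cases h : 36 ≤ r
  · refine S.data.U_fix_le ⟨?_, hf⟩
    rw [Cfsg.Agent.Small.TwoGen.E6.PE_eq S hr]
    exact mul_mem (CommSys.x_mem_US _ (Facts.mem_posL.2 ⟨h, hr⟩) _)
      (CommSys.x_mem_US _ (Facts.mem_posL.2 ⟨hiff.1 h, hr'⟩) _)
  · refine S.data.neg_fix_le (L := [r, graphE6.img r]) (fun s hs => ?_) ?_ hf
    · simp only [List.mem_cons, List.not_mem_nil, or_false] at hs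
      rcases hs with rfl | rfl
      · exact not_le.1 h
      · exact not_le.1 fun h' => h (hiff.2 h')
    · rw [Cfsg.Agent.Small.TwoGen.E6.PE_eq S hr]
      exact mul_mem (CommSys.x_mem_US _ (by simp) _) (CommSys.x_mem_US _ (by simp) _)

/-- The root subgroups of the positive orbits. -/
noncomputable def gE (i : ℕ) (x : K) : ↥(twistedE6 K q) :=
  if h : i < 24 then ⟨PE S (rep i) x, PE_mem S (rep_spec h).2.1 x⟩ else 1

theorem coe_gE {i : ℕ} (hi : i < 24) (x : K) : (gE S i x : GL chevE6.Idx K) = PE S (rep i) x := by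
  rw [gE, dif_pos hi]

theorem fix_mem (x : ↥(twistedE6 K q)) : (x : GL chevE6.Idx K) ∈ S.T.fix := S.le_fix x.2

theorem sig_US {k : ℕ} {x : GL chevE6.Idx K} (hx : x ∈ (factsE6.tsys K).US (LK k)) :
    x ∈ chevE6.group K ∧ S.T.sig x ∈ (factsE6.tsys K).US (LK k) := by
  induction hx using Subgroup.closure_induction with
  | mem g hg =>
    obtain ⟨r, hr, t, rfl⟩ := hg
    obtain ⟨⟨hr1, hr2⟩, hrk⟩ := mem_LK.1 hr
    obtain ⟨himg, -, hidx, -⟩ := root_spec hr1 hr2
    rw [factsE6.tsys_x]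
    refine ⟨factsE6.xg_mem_group _ _, ?_⟩
    rw [Cfsg.Agent.Small.TwoGen.E6.sig_xg S hr2]
    exact CommSys.x_mem_US (factsE6.tsys K).toCommSys (mem_LK.2 ⟨himg, by rw [hidx]; exact hrk⟩) _
  | one => exact ⟨one_mem _, by rw [S.T.sig_one]; exact one_mem _⟩
  | mul a b _ _ ha hb =>
    exact ⟨mul_mem ha.1 hb.1, by rw [S.T.sig_mul _ ha.1 _ hb.1]; exact mul_mem ha.2 hb.2⟩
  | inv a _ ha => exact ⟨inv_mem ha.1, by rw [S.T.sig_inv ha.1]; exact inv_mem ha.2⟩

theorem conj_LK {k r : ℕ} (hr : 36 ≤ r ∧ r < 72) (t : K) {g : GL chevE6.Idx K}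
    (hg : g ∈ (factsE6.tsys K).US (LK k)) :
    factsE6.xg r t * g * (factsE6.xg r t)⁻¹ ∈ (factsE6.tsys K).US (LK k) := by
  have hn := CommSys.x_normalizes (factsE6.tsys K).toCommSys (L := LK k) (r := r) hr.2 (fun s hs => by
    obtain ⟨hs, hsk⟩ := mem_LK.1 hs
    refine ⟨hs.2, fun h => ?_, fun hne c hc => mem_LK.2 ⟨?_, (idx_lt_of_comm hr hs (Ne.symm hne) hc).2.trans hsk⟩⟩
    · have := (factsE6.neg_ge_iff hr.2).1 (h ▸ hs.1)
      have : chevE6.nroots / 2 = 36 := rfl
      omega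
    · exact Facts.mem_posL.1 (factsE6.closedList_posL.closed r (Facts.mem_posL.2 hr) s (Facts.mem_posL.2 hs)
        (Ne.symm hne) c hc)) t
  exact (Subgroup.mem_normalizer_iff.1 hn g).1 hg

theorem conj_gE {k i : ℕ} (hi : i < 24) (x : K) {g : GL chevE6.Idx K}
    (hg : g ∈ (factsE6.tsys K).US (LK k)) :
    PE S (rep i) x * g * (PE S (rep i) x)⁻¹ ∈ (factsE6.tsys K).US (LK k) := by
  obtain ⟨h1, h2, -, -⟩ := rep_spec hi
  rw [Cfsg.Agent.Small.TwoGen.E6.PE_eq S h2]
  generalize hb : factsE6.xg (graphE6.img (rep i)) ((graphE6.sign (rep i) : K) * x ^ q) = b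
  rw [show factsE6.xg (rep i) x * b * g * (factsE6.xg (rep i) x * b)⁻¹ =
    factsE6.xg (rep i) x * (b * g * b⁻¹) * (factsE6.xg (rep i) x)⁻¹ by group, ← hb]
  exact conj_LK S ⟨h1, h2⟩ x (conj_LK S (root_spec h1 h2).1 _ hg)

theorem gE_mem_US {i k : ℕ} (hi : i < 24) (hk : i < k) (x : K) :
    PE S (rep i) x ∈ (factsE6.tsys K).US (LK k) := by
  obtain ⟨h1, h2, h3, -⟩ := rep_spec hi
  obtain ⟨himg, -, hidx, -⟩ := root_spec h1 h2
  rw [Cfsg.Agent.Small.TwoGen.E6.PE_eq S h2]
  exact mul_mem (CommSys.x_mem_US _ (mem_LK.2 ⟨⟨h1, h2⟩, h3.trans_lt hk⟩) _)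
    (CommSys.x_mem_US _ (mem_LK.2 ⟨himg, by rw [hidx, h3]; exact hk⟩) _)

theorem peel {k : ℕ} (hk : k < 24) {g : GL chevE6.Idx K} (hg : g ∈ (factsE6.tsys K).US (LK (k + 1))) :
    ∃ a b : K, ∃ y ∈ (factsE6.tsys K).US (LK k),
      g = factsE6.xg (rep k) a * factsE6.xg (graphE6.img (rep k)) b * y := by
  obtain ⟨h1, h2, h3, -⟩ := rep_spec hk
  obtain ⟨himg, -, -, -⟩ := root_spec h1 h2
  have hp : ∀ (a : K) (b : K), Commute (factsE6.xg (graphE6.img (rep k)) b) (factsE6.xg (rep k) a) := by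
    intro a b
    rcases orth_img h2 with h | h
    · rw [← h, Commute, SemiconjBy, ← factsE6.xg_add, ← factsE6.xg_add, add_comm]
    · exact (commutes_rev h _ _).symm
  have h0 : ∀ r, factsE6.xg r (0 : K) = 1 := fun r => factsE6.xg_zero r
  induction hg using Subgroup.closure_induction with
  | mem g hg =>
    obtain ⟨r, hr, t, rfl⟩ := hg
    obtain ⟨hr, hrk⟩ := mem_LK.1 hr
    rcases Nat.lt_succ_iff_lt_or_eq.1 hrk with h | h
    · exact ⟨0, 0, _, CommSys.x_mem_US _ (mem_LK.2 ⟨hr, h⟩) t, by rw [h0, h0, one_mul, one_mul]⟩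
    · rcases (root_spec hr.1 hr.2).2.2.2 with e | e <;> rw [h] at e <;> rw [e, factsE6.tsys_x]
      · exact ⟨t, 0, 1, one_mem _, by rw [h0, mul_one, mul_one]⟩
      · exact ⟨0, t, 1, one_mem _, by rw [h0, one_mul, mul_one]⟩
  | one => exact ⟨0, 0, 1, one_mem _, by rw [h0, h0, one_mul, one_mul]⟩
  | mul u v _ _ hu hv =>
    obtain ⟨a, b, y, hy, rfl⟩ := hu
    obtain ⟨a', b', y', hy', rfl⟩ := hv
    have h := conj_LK S ⟨h1, h2⟩ (-a') (conj_LK S himg (-b') hy)
    rw [factsE6.xg_neg, factsE6.xg_neg, inv_inv, inv_inv] at h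
    refine ⟨a + a', b + b', _, mul_mem h hy', ?_⟩
    rw [factsE6.xg_add, factsE6.xg_add]
    generalize hA : factsE6.xg (rep k) a' = A, hB : factsE6.xg (graphE6.img (rep k)) b' = B
    generalize factsE6.xg (rep k) a = A0
    have hc := hp a' b
    rw [hA] at hc
    generalize factsE6.xg (graphE6.img (rep k)) b = B0 at hc ⊢
    have hc' : Commute B A := hA ▸ hB ▸ hp a' b'
    calc A0 * B0 * y * (A * B * y') = A0 * (B0 * A) * B * ((A * B)⁻¹ * y * (A * B)) * y' := by group
      _ = A0 * (A * B0) * B * ((B * A)⁻¹ * y * (B * A)) * y' := by rw [hc.eq, hc'.eq]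
      _ = _ := by group
  | inv u _ hu =>
    obtain ⟨a, b, y, hy, rfl⟩ := hu
    have h := conj_LK S ⟨h1, h2⟩ a (conj_LK S himg b (inv_mem hy))
    refine ⟨-a, -b, _, h, ?_⟩
    rw [factsE6.xg_neg, factsE6.xg_neg]
    have hc := hp a b
    generalize factsE6.xg (rep k) a = A, factsE6.xg (graphE6.img (rep k)) b = B at hc ⊢
    calc (A * B * y)⁻¹ = y⁻¹ * (A * B)⁻¹ := by group
      _ = (B * A)⁻¹ * (A * (B * y⁻¹ * B⁻¹) * A⁻¹) := by rw [hc.eq]; group
      _ = _ := by group

theorem prodOver_supp {L L' : List ℕ} (h : L.Sublist L') (hnd : L'.Nodup) (t : ℕ → K)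
    (ht : ∀ r ∈ L', r ∉ L → t r = 0) :
    (factsE6.sys K).prodOver L' t = (factsE6.sys K).prodOver L t := by
  induction h with
  | slnil => rfl
  | cons a h ih =>
    have hnd' := List.nodup_cons.1 hnd
    rw [show (factsE6.sys K).prodOver (a :: _) t = factsE6.xg a (t a) * (factsE6.sys K).prodOver _ t from rfl,
      ht a List.mem_cons_self (fun ha => hnd'.1 (h.subset ha)), factsE6.xg_zero, one_mul,
      ih hnd'.2 fun r hr hn => ht r (List.mem_cons_of_mem _ hr) hn]
  | cons_cons a h ih =>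
    have hnd' := List.nodup_cons.1 hnd
    show factsE6.xg a (t a) * (factsE6.sys K).prodOver _ t = factsE6.xg a (t a) * (factsE6.sys K).prodOver _ t
    rw [ih hnd'.2 fun r hr hn => ht r (List.mem_cons_of_mem _ hr) fun h' => by
      rcases List.mem_cons.1 h' with rfl | h'
      · exact hnd'.1 hr
      · exact hn h']

/-- The coefficients of the new orbit are determined. -/
theorem coeff_zero {k : ℕ} (hk : k < 24) {a b : K}
    (h : factsE6.xg (rep k) a * factsE6.xg (graphE6.img (rep k)) b ∈ (factsE6.tsys K).US (LK k)) :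
    if graphE6.img (rep k) = rep k then a + b = 0 else a = 0 ∧ b = 0 := by
  classical
  obtain ⟨h1, h2, h3, -⟩ := rep_spec hk
  obtain ⟨himg, -, hidx, -⟩ := root_spec h1 h2
  rw [h3] at hidx
  obtain ⟨t, ht⟩ := CommSys.exists_prodOver (factsE6.sys K).toCommSys (closed_LK k) h
  let t' : ℕ → K := fun r => if r ∈ LK k then t r else 0
  let u : ℕ → K := fun r => (if r = rep k then a else 0) + if r = graphE6.img (rep k) then b else 0
  have hcl := closed_LK (k + 1)
  have hnd := hcl.sorted.nodup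
  have hsub : (LK k).Sublist (LK (k + 1)) := List.monotone_filter_right _ fun r h => by
    simp only [decide_eq_true_eq] at h ⊢; omega
  have hr : rep k ∈ LK (k + 1) := mem_LK.2 ⟨⟨h1, h2⟩, by omega⟩
  have hr' : graphE6.img (rep k) ∈ LK (k + 1) := mem_LK.2 ⟨himg, by omega⟩
  have hn : rep k ∉ LK k := fun hm => by have := (mem_LK.1 hm).2; omega
  have hn' : graphE6.img (rep k) ∉ LK k := fun hm => by have := (mem_LK.1 hm).2; omega
  have e1 : (factsE6.sys K).prodOver (LK (k + 1)) t' = (factsE6.sys K).prodOver (LK k) t := by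
    rw [prodOver_supp S hsub hnd t' fun r _ hn => if_neg hn]
    exact CommSys.prodOver_congr _ fun r hr => if_pos hr
  have e2 : (factsE6.sys K).prodOver (LK (k + 1)) u =
      factsE6.xg (rep k) a * factsE6.xg (graphE6.img (rep k)) b := by
    set L' := (LK (k + 1)).filter fun r => r == rep k || r == graphE6.img (rep k) with hL'
    rw [prodOver_supp S (List.filter_sublist : L'.Sublist _) hnd u fun r hm hn => by
      simp only [hL', List.mem_filter, hm, true_and, Bool.or_eq_true, beq_iff_eq, not_or] at hn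
      simp [u, hn.1, hn.2]]
    by_cases e : graphE6.img (rep k) = rep k
    · have hp : L'.Perm [rep k] := (List.perm_ext_iff_of_nodup (hnd.sublist List.filter_sublist)
        (List.nodup_singleton _)).2 fun r => by
          simp only [hL', List.mem_filter, e, Bool.or_self, beq_iff_eq, List.mem_singleton]
          exact ⟨fun h => h.2, fun h => ⟨h ▸ hr, h⟩⟩
      rw [show (LK (k + 1)).filter _ = _ from List.perm_singleton.1 hp, e, ← factsE6.xg_add]
      simp [CommSys.prodOver, Facts.sys_x, u, e]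
    · have hp : L'.Perm [rep k, graphE6.img (rep k)] := (List.perm_ext_iff_of_nodup (hnd.sublist List.filter_sublist)
        (by simp [Ne.symm e])).2 fun r => by
          simp only [hL', List.mem_filter, Bool.or_eq_true, beq_iff_eq, List.mem_cons, List.not_mem_nil, or_false]
          exact ⟨fun h => h.2, fun h => ⟨h.elim (· ▸ hr) (· ▸ hr'), h⟩⟩
      obtain hc | hc := orth_img h2
      · exact absurd hc.symm e
      have hprod := hp.map (fun r => factsE6.xg r (u r))
      have e3 := hprod.prod_eq' (by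
        refine (List.pairwise_map).2 ((hnd.sublist List.filter_sublist).imp_of_mem fun {x y} hx hy hxy => ?_)
        simp only [hL', List.mem_filter, Bool.or_eq_true, beq_iff_eq] at hx hy
        rcases hx.2 with rfl | rfl <;> rcases hy.2 with rfl | rfl
        · exact absurd rfl hxy
        · exact commutes_rev hc _ _
        · exact (commutes_rev hc _ _).symm
        · exact absurd rfl hxy)
      refine (show (factsE6.sys K).prodOver L' u = _ from e3).trans ?_
      simp [u, e, Ne.symm e]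
  have key := factsE6.prodOver_inj hcl (t := u) (t' := t') (e2.trans (ht.trans e1.symm))
  have k1 := key _ hr
  have k2 := key _ hr'
  simp only [u, t', if_neg hn, if_neg hn'] at k1 k2
  by_cases e : graphE6.img (rep k) = rep k
  · rw [if_pos e]
    rw [e] at k1
    simpa using k1
  · rw [if_neg e]
    exact ⟨by simpa [e, Ne.symm e] using k1, by simpa [e, Ne.symm e] using k2⟩

theorem trace_surj {c : K} (hc : c ^ q = c) : ∃ x : K, x + x ^ q = c := by
  classical
  let tr : K →+ K := AddMonoidHom.mk' (fun x => x + x ^ q) fun x y => by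
    simp only [← S.hfr, map_add]; abel
  by_cases h : ∀ x, tr x = 0
  · exfalso
    obtain ⟨g, hg⟩ := IsCyclic.exists_generator (α := Kˣ)
    have h1 : (1 : K) + 1 ^ q = 0 := h 1
    rw [one_pow] at h1
    have h2 : (g : K) ^ q = g := by
      have h3 : (g : K) + (g : K) ^ q = 0 := h g
      linear_combination h3 - (g : K) * h1
    have h4 : g ^ (q - 1) = 1 := by
      have h5 : g ^ q = g := Units.ext (by rw [Units.val_pow_eq_pow_val]; exact h2)
      obtain ⟨n, rfl⟩ : ∃ n, q = n + 1 := ⟨q - 1, by have := S.hq; omega⟩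
      rw [pow_succ] at h5
      simpa using h5
    have h6 := orderOf_dvd_of_pow_eq_one h4
    rw [orderOf_eq_card_of_forall_mem_zpowers hg, Nat.card_units, S.hK] at h6
    have := S.hq
    have h7 := Nat.le_of_dvd (by omega) h6
    have : q * 2 ≤ q ^ 2 := by rw [pow_two]; exact Nat.mul_le_mul_left q S.hq
    omega
  · push Not at h
    obtain ⟨x, hx⟩ := h
    refine ⟨c / tr x * x, ?_⟩
    have hfx : (tr x) ^ q = tr x := by
      show (x + x ^ q) ^ q = x + x ^ q
      rw [← S.hfr, map_add, S.hfr, S.hfr, S.pow_sq, add_comm]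
    rw [mul_pow, div_pow, hc, hfx, ← mul_add]
    exact div_mul_cancel₀ _ hx

theorem norm_surj {u : Kˣ} (hu : u ^ q = u) : ∃ t : Kˣ, t ^ (q + 1) = u := by
  classical
  obtain ⟨g, hg⟩ := IsCyclic.exists_generator (α := Kˣ)
  obtain ⟨k, hk⟩ := mem_powers_iff_mem_zpowers.2 (hg u)
  have hk : g ^ k = u := hk
  have h1 := S.hq
  have hord : orderOf g = (q + 1) * (q - 1) := by
    rw [orderOf_eq_card_of_forall_mem_zpowers hg, Nat.card_units, S.hK]
    exact Nat.sq_sub_sq q 1
  have h2 : g ^ (k * (q - 1)) = 1 := by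
    rw [pow_mul, hk]
    obtain ⟨n, rfl⟩ : ∃ n, q = n + 1 := ⟨q - 1, by omega⟩
    rw [pow_succ] at hu
    simpa using hu
  rw [← orderOf_dvd_iff_pow_eq_one, hord] at h2
  obtain ⟨j, hj⟩ := Nat.dvd_of_mul_dvd_mul_right (by omega) h2
  exact ⟨g ^ j, by rw [← hk, hj, ← pow_mul, mul_comm]⟩

/-- Fixed elements of the first orbits lie in the filtration. -/
theorem fix_le_N : ∀ k ≤ 24, ∀ g : ↥(twistedE6 K q), (g : GL chevE6.Idx K) ∈ (factsE6.tsys K).US (LK k) →
    g ∈ N (gE S) k := by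
  intro k
  induction k with
  | zero =>
    intro _ g hg
    have h0 : LK 0 = [] := by simp [LK]
    rw [h0] at hg
    have : (g : GL chevE6.Idx K) = 1 := by simpa [CommSys.US] using hg
    rw [show g = 1 from Subtype.ext this]
    exact one_mem _
  | succ k ih =>
    intro hk g hg
    have hk' : k < 24 := hk
    obtain ⟨h1, h2, h3, hsg⟩ := rep_spec hk'
    obtain ⟨a, b, y, hy, he⟩ := peel S hk' hg
    suffices hx : ∃ x : K, factsE6.xg (rep k) a * factsE6.xg (graphE6.img (rep k)) b = PE S (rep k) x by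
      obtain ⟨x, hx⟩ := hx
      have h := ih (by omega) ((gE S k x)⁻¹ * g) (by
        rw [Subgroup.coe_mul, Subgroup.coe_inv, coe_gE S hk', he, hx, inv_mul_cancel_left]
        exact hy)
      have := mul_mem (N_mem (g := gE S) (Nat.lt_succ_self k) x) (N_mono (Nat.le_succ k) h)
      rwa [mul_inv_cancel_left] at this
    obtain ⟨hgr, hsy⟩ := sig_US S hy
    have hfix : S.T.sig (g : GL chevE6.Idx K) = g := (fix_mem S g).2
    rw [he, S.T.sig_mul _ (mul_mem (factsE6.xg_mem_group _ _) (factsE6.xg_mem_group _ _)) _ hgr,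
      S.T.sig_mul _ (factsE6.xg_mem_group _ _) _ (factsE6.xg_mem_group _ _),
      Cfsg.Agent.Small.TwoGen.E6.sig_xg S h2,
      Cfsg.Agent.Small.TwoGen.E6.sig_xg S (root_spec h1 h2).1.2] at hfix
    have hii : graphE6.img (graphE6.img (rep k)) = rep k := (img_inv h2).1
    rw [Cfsg.Agent.Small.TwoGen.E6.sign_img h2, hii] at hfix
    set s := (graphE6.sign (rep k) : K) with hs
    set A := fun t : K => factsE6.xg (rep k) t with hA
    set B := fun t : K => factsE6.xg (graphE6.img (rep k)) t with hB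
    have hAB : ∀ u v : K, Commute (A u) (B v) := fun u v => by
      rcases orth_img h2 with h | h
      · show Commute (factsE6.xg _ u) (factsE6.xg _ v)
        rw [← h, Commute, SemiconjBy, ← factsE6.xg_add, ← factsE6.xg_add, add_comm]
      · exact commutes_rev h u v
    have hd : A (s * b ^ q - a) * B (s * a ^ q - b) ∈ (factsE6.tsys K).US (LK k) := by
      have hA' : A (s * b ^ q - a) = (A a)⁻¹ * A (s * b ^ q) := by
        rw [hA]; simp only [sub_eq_neg_add, factsE6.xg_add, factsE6.xg_neg]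
      have hB' : B (s * a ^ q - b) = (B b)⁻¹ * B (s * a ^ q) := by
        rw [hB]; simp only [sub_eq_neg_add, factsE6.xg_add, factsE6.xg_neg]
      have h5 : (A a * B b)⁻¹ * (B (s * a ^ q) * A (s * b ^ q)) = y * (S.T.sig y)⁻¹ := by
        rw [eq_mul_inv_iff_mul_eq, mul_assoc, hfix, hA, hB]
        group
      have h6 : A (s * b ^ q - a) * B (s * a ^ q - b) = (A a * B b)⁻¹ * (B (s * a ^ q) * A (s * b ^ q)) := by
        rw [hA', hB', ← (hAB (s * b ^ q) (s * a ^ q)).eq, (hAB a b).eq]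
        simp only [_root_.mul_inv_rev, mul_assoc]
        rw [← mul_assoc (A (s * b ^ q)), ((hAB (s * b ^ q) b).inv_right).eq, mul_assoc]
      rw [h6, h5]
      exact mul_mem hy (inv_mem hsy)
    have h7 := coeff_zero S hk' hd
    by_cases e : graphE6.img (rep k) = rep k
    · rw [if_pos e] at h7
      have hs1 : s = 1 := by rw [hs, hsg e, Int.cast_one]
      rw [hs1, one_mul, one_mul] at h7
      obtain ⟨x, hx⟩ := trace_surj S (c := a + b) (by
        rw [← S.hfr, map_add, S.hfr, S.hfr]; linear_combination h7)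
      refine ⟨x, ?_⟩
      rw [Cfsg.Agent.Small.TwoGen.E6.PE_eq S h2, e, ← factsE6.xg_add, ← factsE6.xg_add, ← hs, hs1, one_mul, hx]
    · rw [if_neg e] at h7
      exact ⟨a, by rw [Cfsg.Agent.Small.TwoGen.E6.PE_eq S h2, ← hs, sub_eq_zero.1 h7.2]⟩

theorem U_le_N (g : ↥(twistedE6 K q)) (hg : (g : GL chevE6.Idx K) ∈ chevE6.posUnipotent K) :
    g ∈ N (gE S) 24 := by
  refine fix_le_N S 24 le_rfl g (CommSys.US_mono _ (fun r hr => ?_) ((factsE6.tsys_U (F := K)).symm ▸ hg))
  have h := Facts.mem_posL.1 hr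
  exact mem_LK.2 ⟨h, (root_spec h.1 h.2).2.1⟩

/-- Coordinates of the torus. -/
def TC : Type _ := {c : Fin chevE6.rank → Kˣ // ∃ t u m n : Kˣ, m ^ q = m ∧ n ^ q = n ∧ c = S.crd t u m n}

/-- The torus. -/
noncomputable def tor (c : TC S) : ↥(twistedE6 K q) :=
  ⟨torus chevE6 K c.1, by obtain ⟨t, u, m, n, hm, hn, h⟩ := c.2; rw [h]; exact S.torus_mem hm hn⟩

/-- The weights. -/
def chi (i : ℕ) (c : TC S) : Kˣ := torChar chevE6 c.1 (rep i)

theorem exists_cochar (l : List ℤ) (z : Kˣ) : ∃ c : TC S, ∀ i, chi S i c =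
    z ^ pair (cf l) (rep i) * (z ^ q) ^ pair (cg l) (rep i) := by
  have hz : (z ^ q) ^ q = z := Units.ext (by simp only [Units.val_pow_eq_pow_val]; exact S.pow_sq _)
  have hzp : ∀ k : ℤ, (z ^ k) ^ q = (z ^ q) ^ k := fun k => by
    rw [← zpow_natCast, ← _root_.zpow_mul, mul_comm, _root_.zpow_mul, zpow_natCast]
  have hzq : ∀ k : ℤ, ((z ^ q) ^ k) ^ q = z ^ k := fun k => by
    rw [← zpow_natCast, ← _root_.zpow_mul, mul_comm, _root_.zpow_mul, zpow_natCast, hz]
  refine ⟨⟨fun j => z ^ cf l j * (z ^ q) ^ cg l j, z ^ l.getD 0 0 * (z ^ q) ^ l.getD 5 0,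
    z ^ l.getD 2 0 * (z ^ q) ^ l.getD 4 0, z ^ l.getD 1 0 * (z ^ q) ^ l.getD 1 0,
    z ^ l.getD 3 0 * (z ^ q) ^ l.getD 3 0, by rw [mul_pow, hzp, hzq, mul_comm],
    by rw [mul_pow, hzp, hzq, mul_comm], funext fun j => ?_⟩, fun i => ?_⟩
  · match j with
    | ⟨0, _⟩ => rfl
    | ⟨1, _⟩ => rfl
    | ⟨2, _⟩ => rfl
    | ⟨3, _⟩ => rfl
    | ⟨4, _⟩ =>
      show _ = (z ^ l.getD 2 0 * (z ^ q) ^ l.getD 4 0) ^ q
      rw [mul_pow, hzp, hzq, mul_comm]; rfl
    | ⟨5, _⟩ =>
      show _ = (z ^ l.getD 0 0 * (z ^ q) ^ l.getD 5 0) ^ q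
      rw [mul_pow, hzp, hzq, mul_comm]; rfl
  · show torChar chevE6 _ _ = _
    have hsum : ∀ (x : Kˣ) (f : Fin chevE6.rank → ℤ), x ^ ∑ j, f j = ∏ j, x ^ f j := fun x f => by
      classical
      induction (Finset.univ : Finset (Fin chevE6.rank)) using Finset.induction_on with
      | empty => simp
      | insert a s ha ih => rw [Finset.sum_insert ha, Finset.prod_insert ha, _root_.zpow_add, ih]
    simp only [torChar, pair, hsum, mul_zpow, ← _root_.zpow_mul, Finset.prod_mul_distrib]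

theorem conj_tor {i : ℕ} (hi : i < 24) (c : TC S) (x : K) :
    tor S c * gE S i x * (tor S c)⁻¹ = gE S i ((chi S i c : K) * x) := by
  refine Subtype.ext ?_
  rw [Subgroup.coe_mul, Subgroup.coe_mul, Subgroup.coe_inv, coe_gE S hi, coe_gE S hi]
  exact PE_conj S (fix_mem S (tor S c)) (factsE6.torus_conj c.1 (rep_spec hi).2.1 x)

theorem gE_add {i : ℕ} (hi : i < 24) (x y : K) : gE S i (x + y) = gE S i x * gE S i y := by
  refine Subtype.ext ?_
  rw [Subgroup.coe_mul, coe_gE S hi, coe_gE S hi, coe_gE S hi]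
  exact PE_add S (rep_spec hi).2.1 (orth_img (rep_spec hi).2.1) x y

theorem exists_comm {i : ℕ} (hi : i < 24) (x : K) : ∃ A B : ↥(twistedE6 K q),
    gE S i x = ⁅A, B⁆ ∧ ∀ y, Commute (gE S i y) A ∧ Commute (gE S i y) B := by
  obtain ⟨h1, h2, -, hsg⟩ := rep_spec hi
  have hd := List.all_eq_true.1 dec_facts i (List.mem_range.2 hi)
  generalize decs.getD i (0, 0) = ab at hd
  obtain ⟨a, b⟩ := ab
  simp only [okDec, Bool.and_eq_true, decide_eq_true_eq] at hd
  obtain ⟨⟨⟨⟨ha, hb⟩, hcr⟩, hcr'⟩, hsp⟩ := hd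
  have hcom : ∀ s, (s = a ∨ s = b) → ∀ u y : K,
      Commute (PE S (rep i) y) (factsE6.xg s u) ∧ Commute (PE S (rep i) y) (PE S s u) := by
    intro s hs u y
    have hs' : s < 72 := by rcases hs with rfl | rfl <;> assumption
    rw [Cfsg.Agent.Small.TwoGen.E6.PE_eq S h2, Cfsg.Agent.Small.TwoGen.E6.PE_eq S hs']
    have k : ∀ v, Commute (factsE6.xg (rep i) y * factsE6.xg (graphE6.img (rep i))
        ((graphE6.sign (rep i) : K) * y ^ q)) (factsE6.xg s v) := fun v => by
      rcases hs with rfl | rfl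
      · exact (commutes_rev hcr.1.1.1 _ _).mul_left (commutes_rev hcr'.1.1.1 _ _)
      · exact (commutes_rev hcr.1.1.2 _ _).mul_left (commutes_rev hcr'.1.1.2 _ _)
    refine ⟨k u, (k u).mul_right ?_⟩
    rcases hs with rfl | rfl
    · exact (commutes_rev hcr.1.2 _ _).mul_left (commutes_rev hcr'.1.2 _ _)
    · exact (commutes_rev hcr.2 _ _).mul_left (commutes_rev hcr'.2 _ _)
  have hval : ∀ (A B : ↥(twistedE6 K q)) (A' B' : GL chevE6.Idx K), (A : GL chevE6.Idx K) = A' →
      (B : GL chevE6.Idx K) = B' → (B' * A')⁻¹ * (A' * B') = PE S (rep i) x →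
      (∀ y, Commute (PE S (rep i) y) A') → (∀ y, Commute (PE S (rep i) y) B') →
      gE S i x = ⁅A⁻¹, B⁻¹⁆ ∧ ∀ y, Commute (gE S i y) A⁻¹ ∧ Commute (gE S i y) B⁻¹ := by
    intro A B A' B' hA hB he hcA hcB
    refine ⟨Subtype.ext ?_, fun y => ⟨Commute.inv_right (Subtype.ext ?_), Commute.inv_right (Subtype.ext ?_)⟩⟩
    · rw [coe_gE S hi, ← he, commutatorElement_def]
      simp only [Subgroup.coe_mul, Subgroup.coe_inv, hA, hB, inv_inv]
      group
    · simp only [Subgroup.coe_mul, coe_gE S hi, hA]; exact (hcA y).eq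
    · simp only [Subgroup.coe_mul, coe_gE S hi, hB]; exact (hcB y).eq
  by_cases e : graphE6.img (rep i) = rep i
  · simp only [e, beq_self_eq_true, if_true, Bool.and_eq_true, beq_iff_eq] at hsp
    obtain ⟨⟨⟨⟨hsu, hia⟩, hib⟩, hsa⟩, hsb⟩ := hsp
    obtain ⟨C, hC, hk⟩ := comm_singleUnit (F := K) factsE6 (bad := 0)
      ⟨fun h => absurd rfl h, fun h => absurd rfl h⟩ hsu
    have hfx : (x + x ^ q) ^ q = x + x ^ q := by
      rw [← S.hfr, map_add, S.hfr, S.hfr, S.pow_sq, add_comm]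
    have hCq : C ^ q = C := by rcases hC with rfl | rfl <;> rw [← S.hfr] <;> simp
    have hmem : ∀ s, s < 72 → graphE6.img s = s → graphE6.sign s = 1 → ∀ c : K, c ^ q = c →
        factsE6.xg s c ∈ twistedE6 K q := by
      intro s hs his hss c hc
      obtain ⟨w, hw⟩ := trace_surj S hc
      rw [← hw, factsE6.xg_add]
      have := PE_mem S hs w
      rwa [Cfsg.Agent.Small.TwoGen.E6.PE_eq S hs, his, hss, Int.cast_one, one_mul] at this
    refine ⟨_, _, hval ⟨_, hmem b hb hib hsb 1 (one_pow q)⟩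
      ⟨_, hmem a ha hia hsa (C * (x + x ^ q)) (by rw [mul_pow, hCq, hfx])⟩ _ _ rfl rfl ?_
      (fun y => (hcom b (Or.inr rfl) _ y).1) (fun y => (hcom a (Or.inl rfl) _ y).1)⟩
    rw [hk, Cfsg.Agent.Small.TwoGen.E6.PE_eq S h2, e, hsg e, Int.cast_one, one_mul, ← factsE6.xg_add]
    congr 1
    rcases hC with rfl | rfl <;> ring
  · simp only [beq_iff_eq, e, if_false] at hsp
    obtain ⟨C, hC, -, -, -, hk⟩ := okCom_spec S hsp
    refine ⟨_, _, hval ⟨_, PE_mem S hb 1⟩ ⟨_, PE_mem S ha (C * x)⟩ _ _ rfl rfl ?_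
      (fun y => (hcom b (Or.inr rfl) _ y).2) (fun y => (hcom a (Or.inl rfl) _ y).2)⟩
    rw [hk]
    congr 1
    rcases hC with rfl | rfl <;> ring

/-- The filtration, in any central extension. -/
theorem series (hq : q ≠ 2) {Γ : Type*} [Group Γ] (C : Central Γ ↥(twistedE6 K q)) :
    Series C (gE S) (tor S) (chi S) 24 where
  tor_comm c d := Subtype.ext (by
    show torus chevE6 K c.1 * torus chevE6 K d.1 = torus chevE6 K d.1 * torus chevE6 K c.1
    rw [← map_mul, ← map_mul, mul_comm])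
  conj i hi c x := conj_tor S hi c x
  add i hi x y := by rw [gE_add S hi, mul_inv_cancel]; exact one_mem _
  comm i hi j hj x y := by
    refine fix_le_N S i hi.le _ ?_
    simp only [Subgroup.coe_mul, Subgroup.coe_inv, coe_gE S hi, coe_gE S (hj.trans hi)]
    exact mul_mem (conj_gE S hi x (gE_mem_US S (hj.trans hi) hj y))
      (inv_mem (gE_mem_US S (hj.trans hi) hj y))
  pairs i hi j hj := by
    obtain ⟨g, hg⟩ := IsCyclic.exists_generator (α := Kˣ)
    obtain ⟨l, -, hl⟩ := List.any_eq_true.1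
      (List.all_eq_true.1 (List.all_eq_true.1 sep_facts i (List.mem_range.2 hi)) j (List.mem_range.2 hj))
    simp only [Bool.and_eq_true, beq_iff_eq, decide_eq_true_eq, Bool.not_eq_true', Bool.and_eq_false_iff,
      beq_eq_false_iff_ne] at hl
    obtain ⟨⟨⟨⟨hi1, hi2⟩, hne⟩, hA⟩, hB⟩ := hl
    obtain ⟨c, hc⟩ := exists_cochar S l g
    refine ⟨c, by rw [hc, hi1, hi2, zpow_zero, zpow_zero, mul_one], ?_⟩
    rw [hc]
    generalize pair (cf l) (rep j) = a, pair (cg l) (rep j) = b at hne hA hB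
    intro h
    rw [← zpow_natCast g q, ← _root_.zpow_mul, ← _root_.zpow_add, ← orderOf_dvd_iff_zpow_eq_one,
      orderOf_eq_card_of_forall_mem_zpowers hg, Nat.card_units, S.hK] at h
    have h3 : 3 ≤ q := by have := S.hq; omega
    have h9 : q * 3 ≤ q ^ 2 := by rw [pow_two]; exact Nat.mul_le_mul_left q h3
    have hb : b = -1 ∨ b = 0 ∨ b = 1 := by omega
    have := Int.eq_zero_of_dvd_of_natAbs_lt_natAbs h (by
      rcases hb with rfl | rfl | rfl <;> omega)
    rcases hb with rfl | rfl | rfl <;> omega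
  self i hi a b x y ha hb := by
    obtain ⟨A, B, he, hc⟩ := exists_comm S hi x
    have hz : ∀ X, Commute (gE S i y) X → C.π (b * C.L X * b⁻¹) = C.π (C.L X) := fun X hX => by
      rw [map_mul, map_mul, map_inv, hb, C.π_L, hX.eq, mul_inv_cancel_right]
    have h1 : Commute ⁅C.L A, C.L B⁆ b := by
      have h : b * ⁅C.L A, C.L B⁆ * b⁻¹ = ⁅C.L A, C.L B⁆ := by
        rw [show b * ⁅C.L A, C.L B⁆ * b⁻¹ = ⁅b * C.L A * b⁻¹, b * C.L B * b⁻¹⁆ by
          simp only [commutatorElement_def]; group]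
        exact C.comm_indep (hz A (hc y).1) (hz B (hc y).2)
      exact (mul_inv_eq_iff_eq_mul.1 h).symm
    obtain ⟨z, hz', ea⟩ : ∃ z ∈ Subgroup.center Γ, a = z * ⁅C.L A, C.L B⁆ :=
      ⟨a * ⁅C.L A, C.L B⁆⁻¹, C.central (by
        rw [MonoidHom.mem_ker, map_mul, map_inv, map_commutatorElement, C.π_L, C.π_L, ha, he, mul_inv_cancel]),
        (inv_mul_cancel_right _ _).symm⟩
    rw [ea]
    exact Commute.mul_left ((Subgroup.mem_center_iff.1 hz' b).symm : Commute z b) h1
  scale i hi := by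
    have hf := List.all_eq_true.1 fill_facts i (List.mem_range.2 hi)
    simp only [Bool.and_eq_true, beq_iff_eq] at hf
    obtain ⟨g, hg⟩ := IsCyclic.exists_generator (α := Kˣ)
    have hg' : orderOf g = q ^ 2 - 1 := by
      rw [orderOf_eq_card_of_forall_mem_zpowers hg, Nat.card_units, S.hK]
    have h3 : 3 ≤ q := by have := S.hq; omega
    have h9 : q * 3 ≤ q ^ 2 := by rw [pow_two]; exact Nat.mul_le_mul_left q h3
    have hval : ∀ z : Kˣ, ∃ c : TC S, chi S i c =
        if graphE6.img (rep i) = rep i then z ^ (q + 1) else z := fun z => by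
      obtain ⟨c, hc⟩ := exists_cochar S (fills.getD i []) z
      refine ⟨c, ?_⟩
      rw [hc, hf.1, hf.2]
      split
      · rw [zpow_one, zpow_one, pow_succ']
      · rw [zpow_one, zpow_zero, mul_one]
    obtain ⟨c0, hc0⟩ := hval g
    have hne : chi S i c0 ≠ 1 := by
      rw [hc0]
      split
      · exact pow_ne_one_of_lt_orderOf (by omega) (by omega)
      · intro h; rw [h, orderOf_one] at hg'; omega
    have hd : (chi S i c0 : K) - 1 ≠ 0 := sub_ne_zero.2 fun h => hne (Units.ext h)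
    obtain ⟨w, hw⟩ : ∃ w : Kˣ, (w : K) = ((chi S i c0 : K) - 1)⁻¹ := ⟨Units.mk0 _ (inv_ne_zero hd), rfl⟩
    obtain ⟨z, hz⟩ : ∃ z : Kˣ, (if graphE6.img (rep i) = rep i then z ^ (q + 1) else z) = w := by
      split
      next e =>
        have hfx : ∀ v : Kˣ, ((v ^ (q + 1) : Kˣ) : K) ^ q = (v ^ (q + 1) : Kˣ) := fun v => by
          rw [Units.val_pow_eq_pow_val, pow_succ', mul_pow, S.pow_sq, mul_comm]
        refine norm_surj S (Units.ext ?_)
        rw [Units.val_pow_eq_pow_val, hw, hc0, if_pos e, inv_pow, ← S.hfr, map_sub, map_one, S.hfr, hfx]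
      next => exact ⟨w, rfl⟩
    obtain ⟨c1, hc1⟩ := hval z
    exact ⟨c0, c1, hne, by rw [hc1, hz, hw, inv_mul_cancel₀ hd]⟩

/-- Commutators of lifts of the unipotent radical avoid the kernel. -/
theorem commutator_inf_ker (hq : q ≠ 2) {Γ : Type*} [Group Γ] [Finite Γ] (C : Central Γ ↥(twistedE6 K q)) :
    ⁅((chevE6.posUnipotent K).subgroupOf (twistedE6 K q)).comap C.π,
      ((chevE6.posUnipotent K).subgroupOf (twistedE6 K q)).comap C.π⁆ ⊓ C.π.ker = ⊥ :=
  Solv.WeightSeriesGen.commutator_inf_ker (series S hq C) fun g hg => U_le_N S g hg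

end Mult

end Cfsg.Agent.Lie.E6
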