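import Cfsg.Agent.Lib.Lie.TwistMult.RankOrbit
import Cfsg.Agent.Lib.Lie.TwistMult.E6Series
import Cfsg.Agent.Lib.Lie.TwistE6W
import Cfsg.Agent.Lib.Solv.SplitBNStem

/-!
The rank one subgroups of ²E₆(q) and the bound for the kernels of its stem extensions.
-/

set_option autoImplicit false
set_option maxRecDepth 4000
set_option linter.unusedSectionVars false

namespace Cfsg.Agent.Lie.E6

open Cfsg.Lie Matrix
open Cfsg.Agent.Lie.TwistMult.D4 (dgS dgS_eq map_dgS)
open Cfsg.Agent.Lie.TwistMult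
open Cfsg.Agent.Small.AltSec.D4 (mem_of_gens commute_gens map_upS map_loS map_antS)
open scoped MatrixGroups

namespace Mult

/-- The rank one homomorphism of a node. -/
noncomputable def phiN (K : Type*) [Field K] (i : Fin chevE6.rank) :
    Matrix.SpecialLinearGroup (Fin 2) K →* GL chevE6.Idx K :=
  (factsE6.rankOneRel_simple (F := K) i.val i.isLt).hom

section Node

variable {K : Type*} [Field K] [Fintype K] (i : Fin chevE6.rank)

theorem phiN_up (t : K) : phiN K i (upS t) = factsE6.xg (chevE6.simple i) t := by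
  rw [phiN, RankOneRel.hom_up]

theorem phiN_lo (t : K) : phiN K i (loS t) = factsE6.xg (chevE6.neg (chevE6.simple i)) t := by
  rw [phiN, RankOneRel.hom_lo]

theorem phiN_ant : phiN K i antS = (factsE6.tsys K).nS i := by
  rw [Cfsg.Agent.Small.D4Torus.antS_eq, map_mul, map_mul, phiN_up, phiN_lo, factsE6.tsys_nS, factsE6.ng_eq,
    inv_one]

theorem phiN_dg (e : Kˣ) : phiN K i (dgS e) = torus chevE6 K (Pi.mulSingle i e) := by
  rw [dgS_eq, map_mul, map_inv, map_mul, map_mul, map_mul, map_mul, phiN_up, phiN_up, phiN_lo, phiN_lo,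
    factsE6.torus_single, factsE6.hg_eq, factsE6.ng_eq, factsE6.ng_eq]
  simp only [inv_one, Units.val_inv_eq_inv_val]
  rw [_root_.mul_inv_rev, _root_.mul_inv_rev]
  have hn : ∀ r (t : K), (factsE6.xg r t)⁻¹ = factsE6.xg r (-t) := fun r t => (factsE6.xg_neg r t).symm
  simp only [hn, inv_neg, inv_one, neg_neg, mul_assoc]

end Node

theorem node_facts : ([(0, 5), (2, 4)] : List (Fin chevE6.rank × Fin chevE6.rank)).all (fun p =>
    okComm2 chevE6 [chevE6.simple p.1.val, chevE6.simple p.2.val] &&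
      (chevE6.simple p.1.val != chevE6.simple p.2.val)) = true := by decide +kernel

theorem phiN_commute {K : Type*} [Field K] [Fintype K] {i j : Fin chevE6.rank}
    (h : (i, j) ∈ ([(0, 5), (2, 4)] : List (Fin chevE6.rank × Fin chevE6.rank)))
    (g g' : Matrix.SpecialLinearGroup (Fin 2) K) : Commute (phiN K i g) (phiN K j g') := by
  have hk := List.all_eq_true.1 node_facts (i, j) h
  simp only [Bool.and_eq_true, bne_iff_ne] at hk
  exact commute_gens _ _
    (fun s t => by rw [phiN_up, phiN_up]; exact factsE6.xg_commute2 hk.1 (by simp) (by simp) hk.2 (Or.inl rfl) (Or.inl rfl) _ _)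
    (fun s t => by rw [phiN_up, phiN_lo]; exact factsE6.xg_commute2 hk.1 (by simp) (by simp) hk.2 (Or.inl rfl) (Or.inr rfl) _ _)
    (fun s t => by rw [phiN_lo, phiN_up]; exact factsE6.xg_commute2 hk.1 (by simp) (by simp) hk.2 (Or.inr rfl) (Or.inl rfl) _ _)
    (fun s t => by rw [phiN_lo, phiN_lo]; exact factsE6.xg_commute2 hk.1 (by simp) (by simp) hk.2 (Or.inr rfl) (Or.inr rfl) _ _)
    g g'

variable {K : Type*} [Field K] [Fintype K] {q : ℕ} (S : Setup K q)

/-- The fixed field. -/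
abbrev Fq : Subfield K := S.T.fr.eqLocusField (RingHom.id K)

theorem mem_Fq {t : K} : t ∈ Fq S ↔ t ^ q = t := by
  show S.T.fr t = t ↔ _
  rw [S.hfr]

/-- The SL₂(q²) of a pair of nodes. -/
noncomputable def phiP {i j : Fin chevE6.rank}
    (h : (i, j) ∈ ([(0, 5), (2, 4)] : List (Fin chevE6.rank × Fin chevE6.rank))) :
    Matrix.SpecialLinearGroup (Fin 2) K →* GL chevE6.Idx K :=
  MonoidHom.mk' (fun g => phiN K i g * phiN K j (Matrix.SpecialLinearGroup.map S.T.fr g)) fun g g' => by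
    simp only [map_mul]
    exact (phiN_commute h g' (Matrix.SpecialLinearGroup.map S.T.fr g)).mul_mul_mul_comm _ _

/-- The orbit of an index. -/
def Oo (e : Fin 4) : List (Fin chevE6.rank) := Os.getD e.val []

/-- The field of an orbit. -/
noncomputable def kk : Fin 4 → Subfield K := ![Fq S, Fq S, ⊤, ⊤]

/-- The rank one homomorphisms over the big field. -/
noncomputable def big : Fin 4 → Matrix.SpecialLinearGroup (Fin 2) K →* GL chevE6.Idx K :=
  ![phiN K 1, phiN K 3, phiP S (i := 0) (j := 5) (by simp), phiP S (i := 2) (j := 4) (by simp)]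

theorem orbLs' : ∀ e : Fin 4, orbL chevE6 ((Oo e).map Fin.val) =
    ([[46], [39], [36, 56], [37, 42]] : List (List ℕ)).getD e.val [] := by decide +kernel

theorem node_roots : chevE6.simple (1 : Fin chevE6.rank).val = 46 ∧ chevE6.simple (3 : Fin chevE6.rank).val = 39 ∧
    chevE6.simple (0 : Fin chevE6.rank).val = 56 ∧ chevE6.simple (5 : Fin chevE6.rank).val = 36 ∧
    chevE6.simple (2 : Fin chevE6.rank).val = 42 ∧ chevE6.simple (4 : Fin chevE6.rank).val = 37 ∧
    chevE6.neg 46 = 25 ∧ chevE6.neg 39 = 32 ∧ chevE6.neg 56 = 15 ∧ chevE6.neg 36 = 35 ∧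
    chevE6.neg 42 = 29 ∧ chevE6.neg 37 = 34 := by decide +kernel

theorem big_up (t : K) :
    big S 0 (upS t) = factsE6.xg 46 t ∧ big S 1 (upS t) = factsE6.xg 39 t ∧
    big S 2 (upS t) = (factsE6.sys K).prodOver [56, 36] (cB q t) ∧
    big S 3 (upS t) = (factsE6.sys K).prodOver [42, 37] (cB q t) := by
  obtain ⟨a, b, c, d, e, f, -⟩ := node_roots
  refine ⟨?_, ?_, ?_, ?_⟩
  · show phiN K 1 (upS t) = _; rw [phiN_up, a]
  · show phiN K 3 (upS t) = _; rw [phiN_up, b]
  · show phiN K 0 (upS t) * phiN K 5 (Matrix.SpecialLinearGroup.map S.T.fr (upS t)) = _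
    rw [map_upS, phiN_up, phiN_up, c, d, S.hfr]; simp [CommSys.prodOver, Facts.sys_x, cB]
  · show phiN K 2 (upS t) * phiN K 4 (Matrix.SpecialLinearGroup.map S.T.fr (upS t)) = _
    rw [map_upS, phiN_up, phiN_up, e, f, S.hfr]; simp [CommSys.prodOver, Facts.sys_x, cB]

theorem big_lo (t : K) :
    big S 0 (loS t) = factsE6.xg 25 t ∧ big S 1 (loS t) = factsE6.xg 32 t ∧
    big S 2 (loS t) = (factsE6.sys K).prodOver [15, 35] (cB q t) ∧
    big S 3 (loS t) = (factsE6.sys K).prodOver [29, 34] (cB q t) := by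
  obtain ⟨a, b, c, d, e, f, a', b', c', d', e', f'⟩ := node_roots
  refine ⟨?_, ?_, ?_, ?_⟩
  · show phiN K 1 (loS t) = _; rw [phiN_lo, a, a']
  · show phiN K 3 (loS t) = _; rw [phiN_lo, b, b']
  · show phiN K 0 (loS t) * phiN K 5 (Matrix.SpecialLinearGroup.map S.T.fr (loS t)) = _
    rw [map_loS, phiN_lo, phiN_lo, c, d, c', d', S.hfr]; simp [CommSys.prodOver, Facts.sys_x, cB]
  · show phiN K 2 (loS t) * phiN K 4 (Matrix.SpecialLinearGroup.map S.T.fr (loS t)) = _
    rw [map_loS, phiN_lo, phiN_lo, e, f, e', f', S.hfr]; simp [CommSys.prodOver, Facts.sys_x, cB]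

theorem big_dg (u : Kˣ) :
    big S 0 (dgS u) = torus chevE6 K (S.crd 1 1 u 1) ∧ big S 1 (dgS u) = torus chevE6 K (S.crd 1 1 1 u) ∧
    big S 2 (dgS u) = torus chevE6 K (S.crd u 1 1 1) ∧ big S 3 (dgS u) = torus chevE6 K (S.crd 1 u 1 1) := by
  have hu : Units.map S.T.fr.toMonoidHom u = u ^ q := Units.ext (by simp [S.hfr])
  refine ⟨?_, ?_, ?_, ?_⟩
  · show phiN K 1 (dgS u) = _
    rw [phiN_dg]; congr 1; funext j
    match j with
    | ⟨0, _⟩ => rfl
    | ⟨1, _⟩ => rfl
    | ⟨2, _⟩ => rfl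
    | ⟨3, _⟩ => rfl
    | ⟨4, _⟩ => exact (one_pow q).symm
    | ⟨5, _⟩ => exact (one_pow q).symm
  · show phiN K 3 (dgS u) = _
    rw [phiN_dg]; congr 1; funext j
    match j with
    | ⟨0, _⟩ => rfl
    | ⟨1, _⟩ => rfl
    | ⟨2, _⟩ => rfl
    | ⟨3, _⟩ => rfl
    | ⟨4, _⟩ => exact (one_pow q).symm
    | ⟨5, _⟩ => exact (one_pow q).symm
  · show phiN K 0 (dgS u) * phiN K 5 (Matrix.SpecialLinearGroup.map S.T.fr (dgS u)) = _
    rw [map_dgS, hu, phiN_dg, phiN_dg, ← map_mul]; congr 1; funext j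
    match j with
    | ⟨0, _⟩ => exact mul_one u
    | ⟨1, _⟩ => exact one_mul 1
    | ⟨2, _⟩ => exact one_mul 1
    | ⟨3, _⟩ => exact one_mul 1
    | ⟨4, _⟩ => exact (one_mul 1).trans (one_pow q).symm
    | ⟨5, _⟩ => exact one_mul (u ^ q)
  · show phiN K 2 (dgS u) * phiN K 4 (Matrix.SpecialLinearGroup.map S.T.fr (dgS u)) = _
    rw [map_dgS, hu, phiN_dg, phiN_dg, ← map_mul]; congr 1; funext j
    match j with
    | ⟨0, _⟩ => exact one_mul 1
    | ⟨1, _⟩ => exact one_mul 1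
    | ⟨2, _⟩ => exact mul_one u
    | ⟨3, _⟩ => exact one_mul 1
    | ⟨4, _⟩ => exact one_mul (u ^ q)
    | ⟨5, _⟩ => exact (one_mul 1).trans (one_pow q).symm

theorem crd_split (t u m n : Kˣ) :
    S.crd t u m n = S.crd 1 1 m 1 * S.crd 1 1 1 n * S.crd t 1 1 1 * S.crd 1 u 1 1 := by
  funext j
  match j with
  | ⟨0, _⟩ => show t = (1 : Kˣ) * 1 * t * 1; simp
  | ⟨1, _⟩ => show m = m * (1 : Kˣ) * 1 * 1; simp
  | ⟨2, _⟩ => show u = (1 : Kˣ) * 1 * 1 * u; simp
  | ⟨3, _⟩ => show n = (1 : Kˣ) * n * 1 * 1; simp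
  | ⟨4, _⟩ => show u ^ q = (1 : Kˣ) ^ q * 1 ^ q * 1 ^ q * u ^ q; simp
  | ⟨5, _⟩ => show t ^ q = (1 : Kˣ) ^ q * 1 ^ q * t ^ q * 1 ^ q; simp

theorem big_ant (e : Fin 4) : ∃ a ∈ (factsE6.tsys K).H,
    big S e antS = a * (factsE6.tsys K).nW (S.T.wO (Oo e)) := by
  have h : big S e antS = (factsE6.tsys K).nw (Oo e) := by
    fin_cases e
    · show phiN K 1 antS = (factsE6.tsys K).nw [(1 : Fin chevE6.rank)]
      rw [TorusSys.nw_singleton]; exact phiN_ant 1
    · show phiN K 3 antS = (factsE6.tsys K).nw [(3 : Fin chevE6.rank)]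
      rw [TorusSys.nw_singleton]; exact phiN_ant 3
    · show phiN K 0 antS * phiN K 5 (Matrix.SpecialLinearGroup.map S.T.fr antS) =
        (factsE6.tsys K).nw [(0 : Fin chevE6.rank), 5]
      rw [map_antS, TorusSys.nw_cons, TorusSys.nw_singleton, phiN_ant, phiN_ant]
    · show phiN K 2 antS * phiN K 4 (Matrix.SpecialLinearGroup.map S.T.fr antS) =
        (factsE6.tsys K).nw [(2 : Fin chevE6.rank), 4]
      rw [map_antS, TorusSys.nw_cons, TorusSys.nw_singleton, phiN_ant, phiN_ant]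
  obtain ⟨g, hg, he⟩ := (factsE6.tsys K).nw_eq (ω := Oo e) (w := S.T.wO (Oo e)) rfl
  exact ⟨g, hg, h.trans he⟩

theorem big_mem : ∀ (e : Fin 4) (g : Matrix.SpecialLinearGroup (Fin 2) (kk S e)),
    big S e (Matrix.SpecialLinearGroup.map (kk S e).subtype g) ∈ twistedE6 K q := by
  intro e
  haveI := Fintype.ofFinite (kk S e)
  refine mem_of_gens ((big S e).comp (Matrix.SpecialLinearGroup.map (kk S e).subtype)) (fun t => ?_) fun t => ?_
  all_goals (rw [MonoidHom.comp_apply]; first | rw [map_upS] | rw [map_loS])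
  · revert t
    fin_cases e <;> intro t
    · erw [(big_up S _).1]; exact Setup.A_mem (by simp) ((mem_Fq S).1 t.2)
    · erw [(big_up S _).2.1]; exact Setup.A_mem (by simp) ((mem_Fq S).1 t.2)
    · erw [(big_up S _).2.2.1]; exact Setup.B_mem (by simp) _
    · erw [(big_up S _).2.2.2]; exact Setup.B_mem (by simp) _
  · revert t
    fin_cases e <;> intro t
    · erw [(big_lo S _).1]; exact Setup.A_mem (by simp) ((mem_Fq S).1 t.2)
    · erw [(big_lo S _).2.1]; exact Setup.A_mem (by simp) ((mem_Fq S).1 t.2)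
    · erw [(big_lo S _).2.2.1]; exact Setup.B_mem (by simp) _
    · erw [(big_lo S _).2.2.2]; exact Setup.B_mem (by simp) _

/-- The rank one homomorphisms. -/
noncomputable def phi (e : Fin 4) : Matrix.SpecialLinearGroup (Fin 2) (kk S e) →* ↥S.data.G1 :=
  ((big S e).comp (Matrix.SpecialLinearGroup.map (kk S e).subtype)).codRestrict _ (big_mem S e)

theorem coe_phi_up (e : Fin 4) (t : kk S e) : (phi S e (upS t) : GL chevE6.Idx K) = big S e (upS (t : K)) := by
  show big S e (Matrix.SpecialLinearGroup.map (kk S e).subtype (upS t)) = _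
  rw [map_upS]; rfl

theorem coe_phi_dg (e : Fin 4) (u : (kk S e)ˣ) : (phi S e (dgS u) : GL chevE6.Idx K) =
    big S e (dgS (Units.map (kk S e).subtype.toMonoidHom u)) := by
  show big S e (Matrix.SpecialLinearGroup.map (kk S e).subtype (dgS u)) = _
  rw [map_dgS]

theorem coe_phi_ant (e : Fin 4) : (phi S e antS : GL chevE6.Idx K) = big S e antS := by
  show big S e (Matrix.SpecialLinearGroup.map (kk S e).subtype antS) = _
  rw [map_antS]

/-- The test that a word maps one orbit into another. -/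
def okMaps (w : List (Fin chevE6.rank)) (a b : Fin 4) : Bool :=
  (orbL chevE6 ((Oo a).map Fin.val)).all fun r =>
    (orbL chevE6 ((Oo b).map Fin.val)).contains (actR chevE6 (w.map Fin.val) r)

theorem maps_of_ok {w : List (Fin chevE6.rank)} {a b : Fin 4} (h : okMaps w a b = true) :
    RankOrbit.Maps (hF := factsE6) (Oo a) (Oo b) (factsE6.refSys.pr w) := by
  intro r hr hm
  have h' := List.all_eq_true.1 h r hm
  rw [Facts.pr_smul_val]
  exact List.contains_iff_mem.1 h'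

/-- The Coxeter matrix of the orbits. -/
abbrev MF : CoxeterMatrix (Fin 4) := CoxeterMatrix.F₄.reindex pF4

theorem cox_facts : ∀ i j : Fin 4, wKey chevE6 ((List.replicate (MF i j) (Oo i ++ Oo j)).flatten.map Fin.val) =
    wKey chevE6 (([] : List (Fin chevE6.rank)).map Fin.val) := by decide +kernel

theorem braid_facts : ((List.finRange 4).all fun i => (List.finRange 4).all fun j =>
    (i == j && MF i j == 1) || (MF i j == 2 && okMaps (Oo i) j j) || (MF i j == 3 && okMaps (Oo i ++ Oo j) i j) ||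
      (MF i j == 4 && okMaps (Oo i ++ Oo j ++ Oo i) j j)) = true := by decide +kernel

theorem Oo_facts : (∀ e : Fin 4, Oo e ∈ Os ∧ Oo e ≠ []) ∧ Os = [Oo 0, Oo 1, Oo 2, Oo 3] := by decide +kernel

theorem ranks : RankOrbit.Ranks S.data Oo (kk S) (phi S) MF where
  mem e := (Oo_facts.1 e).1
  cover ω hω := by
    rw [Oo_facts.2] at hω
    simp only [List.mem_cons, List.not_mem_nil, or_false] at hω
    rcases hω with h | h | h | h <;> exact ⟨_, h.symm⟩
  ne e := (Oo_facts.1 e).2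
  up_mem e t := by
    rw [coe_phi_up, orbLs' e]
    revert t
    fin_cases e <;> intro t
    · erw [(big_up S _).1]; exact CommSys.x_mem_US (factsE6.tsys K).toCommSys (by simp) _
    · erw [(big_up S _).2.1]; exact CommSys.x_mem_US (factsE6.tsys K).toCommSys (by simp) _
    · erw [(big_up S _).2.2.1]
      exact CommSys.US_mono _ (fun r hr => by simp at hr ⊢; tauto) (CommSys.prodOver_mem _ _ _)
    · erw [(big_up S _).2.2.2]
      exact CommSys.US_mono _ (fun r hr => by simp at hr ⊢; tauto) (CommSys.prodOver_mem _ _ _)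
  up_surj e x hx := by
    have hcl := S.closed (Oo_facts.1 e).1
    rw [orbLs' e] at hx hcl
    have hxf := S.le_fix x.2
    revert x
    fin_cases e <;> intro x hx hxf
    · obtain ⟨a, ha, h⟩ := S.fix_A (Or.inl rfl) hcl hx hxf
      exact ⟨⟨a, (mem_Fq S).2 ha⟩, Subtype.ext ((coe_phi_up S 0 _).trans ((big_up S _).1.trans h.symm))⟩
    · obtain ⟨a, ha, h⟩ := S.fix_A (Or.inr rfl) hcl hx hxf
      exact ⟨⟨a, (mem_Fq S).2 ha⟩, Subtype.ext ((coe_phi_up S 1 _).trans ((big_up S _).2.1.trans h.symm))⟩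
    · obtain ⟨a, h⟩ := S.fix_B (Or.inl ⟨rfl, rfl⟩) hcl hx hxf
      exact ⟨⟨a, Subfield.mem_top a⟩, Subtype.ext ((coe_phi_up S 2 _).trans ((big_up S _).2.2.1.trans h.symm))⟩
    · obtain ⟨a, h⟩ := S.fix_B (Or.inr ⟨rfl, rfl⟩) hcl hx hxf
      exact ⟨⟨a, Subfield.mem_top a⟩, Subtype.ext ((coe_phi_up S 3 _).trans ((big_up S _).2.2.2.trans h.symm))⟩
  up_inj e t ht := by
    have h := (coe_phi_up S e t).symm.trans (congrArg Subtype.val ht)
    have hcl := S.closed (Oo_facts.1 e).1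
    rw [orbLs' e] at hcl
    refine Subtype.ext ?_
    have key : ∀ a b, (a = 56 ∧ b = 36) ∨ (a = 42 ∧ b = 37) → ClosedList chevE6 [b, a] → ∀ x : K,
        (factsE6.sys K).prodOver [a, b] (cB q x) = 1 → x = 0 := by
      intro a b hab hc x hx
      have hL : [a, b] ∈ Ls := by rcases hab with ⟨rfl, rfl⟩ | ⟨rfl, rfl⟩ <;> simp [Ls]
      rw [factsE6.prodOver_perm (okComm' hL) (List.Perm.swap b a []) _] at hx
      have := factsE6.prodOver_inj hc (t := cB q x) (t' := fun _ => 0)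
        (hx.trans (by simp [CommSys.prodOver, Facts.sys_x, factsE6.xg_zero])) a (by simp)
      rcases hab with ⟨rfl, rfl⟩ | ⟨rfl, rfl⟩ <;> simpa [cB] using this
    revert t
    fin_cases e <;> intro t _ h
    · erw [(big_up S _).1] at h
      exact factsE6.xg_inj (r := 46) (by decide +kernel) (h.trans (factsE6.xg_zero 46).symm)
    · erw [(big_up S _).2.1] at h
      exact factsE6.xg_inj (r := 39) (by decide +kernel) (h.trans (factsE6.xg_zero 39).symm)
    · erw [(big_up S _).2.2.1] at h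
      exact key _ _ (Or.inl ⟨rfl, rfl⟩) hcl _ h
    · erw [(big_up S _).2.2.2] at h
      exact key _ _ (Or.inr ⟨rfl, rfl⟩) hcl _ h
  dg e u := by
    show (phi S e (dgS u) : GL chevE6.Idx K) ∈ (factsE6.tsys K).H
    rw [coe_phi_dg, factsE6.tsys_H, factsE6.diagonalSubgroup_eq]
    revert u
    fin_cases e <;> intro u
    · exact ⟨_, (big_dg S _).1.symm⟩
    · exact ⟨_, (big_dg S _).2.1.symm⟩
    · exact ⟨_, (big_dg S _).2.2.1.symm⟩
    · exact ⟨_, (big_dg S _).2.2.2.symm⟩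
  dg_inj e u hu := by
    have h := (coe_phi_dg S e u).symm.trans (congrArg Subtype.val hu)
    suffices Units.map (kk S e).subtype.toMonoidHom u = 1 from
      Units.map_injective (fun a b hab => Subtype.ext hab) (this.trans (map_one _).symm)
    generalize Units.map (kk S e).subtype.toMonoidHom u = v at h ⊢
    have hk : ∀ c : Fin chevE6.rank → Kˣ, torus chevE6 K c = 1 →
        c 1 = 1 ∧ c 3 = 1 ∧ c 0 ^ 3 = 1 ∧ c 2 = c 0 ^ 2 ∧ c 4 = c 0 ∧ c 5 = c 0 ^ 2 := fun c hc => by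
      have := (factsE6.torus_eq_iff c 1).1 (hc.trans (map_one _).symm)
      rwa [inv_one, mul_one, torChar_E6] at this
    revert h
    fin_cases e <;> intro h
    · erw [(big_dg S _).1] at h; exact (hk _ h).1
    · erw [(big_dg S _).2.1] at h; exact (hk _ h).2.1
    · erw [(big_dg S _).2.2.1] at h
      obtain ⟨-, -, -, h2, h4, -⟩ := hk _ h
      have h4' : (1 : Kˣ) ^ q = v := h4
      rw [← h4', one_pow]
    · erw [(big_dg S _).2.2.2] at h
      obtain ⟨-, -, -, h2, -, -⟩ := hk _ h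
      have h2' : v = (1 : Kˣ) ^ 2 := h2
      rw [h2', one_pow]
  ant e := by
    obtain ⟨a, ha, h⟩ := big_ant S e
    exact ⟨a, ha, (coe_phi_ant S e).trans h⟩
  H_gen h hh := by
    have hd : (h : GL chevE6.Idx K) ∈ chevE6.diagonalSubgroup K := factsE6.tsys_H (F := K) ▸ hh
    obtain ⟨t, u, m, n, hm, hn, e⟩ := S.exists_crd hd (S.le_fix h.2)
    have hlift : ∀ v : Kˣ, v ^ q = v → ∃ w : (Fq S)ˣ, Units.map (Fq S).subtype.toMonoidHom w = v := fun v hv =>
      ⟨Units.mk0 ⟨(v : K), (mem_Fq S).2 (by rw [← Units.val_pow_eq_pow_val, hv])⟩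
        (fun h0 => v.ne_zero (congrArg Subtype.val h0)), Units.ext rfl⟩
    have hlift' : ∀ v : Kˣ, ∃ w : (⊤ : Subfield K)ˣ, Units.map (⊤ : Subfield K).subtype.toMonoidHom w = v :=
      fun v => ⟨Units.mk0 ⟨(v : K), Subfield.mem_top _⟩ (fun h0 => v.ne_zero (congrArg Subtype.val h0)),
        Units.ext rfl⟩
    obtain ⟨m', rfl⟩ := hlift m hm
    obtain ⟨n', rfl⟩ := hlift n hn
    obtain ⟨t', rfl⟩ := hlift' t
    obtain ⟨u', rfl⟩ := hlift' u
    have hd' : h = phi S 0 (dgS m') * phi S 1 (dgS n') * phi S 2 (dgS t') * phi S 3 (dgS u') := by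
      refine Subtype.ext (e.trans ?_)
      simp only [Subgroup.coe_mul]
      rw [(coe_phi_dg S 0 m').trans (big_dg S _).1, (coe_phi_dg S 1 n').trans (big_dg S _).2.1,
        (coe_phi_dg S 2 t').trans (big_dg S _).2.2.1, (coe_phi_dg S 3 u').trans (big_dg S _).2.2.2]
      rw [← map_mul, ← map_mul, ← map_mul]
      exact congrArg _ (crd_split S _ _ _ _)
    rw [hd']
    refine mul_mem (mul_mem (mul_mem ?_ ?_) ?_) ?_ <;> exact Subgroup.subset_closure ⟨_, _, rfl⟩
  cox i j := by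
    have h := factsE6.pr_eq_of_key (cox_facts i j)
    rw [RefSystem.pr_nil] at h
    rw [← h]
    generalize MF i j = m
    induction m with
    | zero => simp [RefSystem.pr_nil]
    | succ m ih => rw [List.replicate_succ, List.flatten_cons, RefSystem.pr_append, RefSystem.pr_append, ← ih, pow_succ']; rfl
  braid i j := by
    have hb := List.all_eq_true.1 (List.all_eq_true.1 braid_facts i (List.mem_finRange i)) j (List.mem_finRange j)
    simp only [Bool.or_eq_true, Bool.and_eq_true, beq_iff_eq, or_assoc] at hb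
    rcases hb with h | ⟨h, h'⟩ | ⟨h, h'⟩ | ⟨h, h'⟩
    · exact Or.inl h
    · exact Or.inr (Or.inl ⟨h, maps_of_ok h'⟩)
    · refine Or.inr (Or.inr (Or.inl ⟨h, ?_⟩))
      have := maps_of_ok h'
      rwa [RefSystem.pr_append] at this
    · refine Or.inr (Or.inr (Or.inr ⟨h, ?_⟩))
      have := maps_of_ok h'
      rwa [RefSystem.pr_append, RefSystem.pr_append] at this

theorem card_kk (e : Fin 4) : Nat.card (kk S e)ˣ = if e.val < 2 then q - 1 else q ^ 2 - 1 := by
  have h1 : Nat.card (Fq S) = q := by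
    refine Eq.trans (Nat.card_congr (Equiv.subtypeEquivRight fun t => mem_Fq S)) (card_pow_eq_self (n := 2) S.hq S.hK)
  have h2 : Nat.card (⊤ : Subfield K) = q ^ 2 := by
    rw [← S.hK]; exact Nat.card_congr Subfield.topEquiv.toEquiv
  fin_cases e
  · show Nat.card (Fq S)ˣ = q - 1; rw [Nat.card_units, h1]
  · show Nat.card (Fq S)ˣ = q - 1; rw [Nat.card_units, h1]
  · show Nat.card (⊤ : Subfield K)ˣ = q ^ 2 - 1; rw [Nat.card_units, h2]
  · show Nat.card (⊤ : Subfield K)ˣ = q ^ 2 - 1; rw [Nat.card_units, h2]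

theorem Usub_eq : RankOrbit.Usub S.data = (chevE6.posUnipotent K).subgroupOf (twistedE6 K q) := by
  rw [RankOrbit.Usub, factsE6.tsys_U]; rfl

include S in
theorem U_sylow {p f : ℕ} [hp : Fact p.Prime] (hf : q = p ^ f) :
    IsPGroup p ↥((chevE6.posUnipotent K).subgroupOf (twistedE6 K q)) ∧
      ¬ p ∣ ((chevE6.posUnipotent K).subgroupOf (twistedE6 K q)).index := by
  have hu := S.data.card_U
  change Nat.card ↥(chevE6.posUnipotent K ⊓ twistedE6 K q) ^ 1 = q ^ (chevE6.nroots / 2) at hu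
  rw [pow_one, show chevE6.nroots / 2 = 36 from rfl] at hu
  set U0 := (chevE6.posUnipotent K).subgroupOf (twistedE6 K q) with hU0
  have hcard : Nat.card ↥U0 = q ^ 36 := by
    rw [← hu, hU0, ← Subgroup.inf_subgroupOf_right]
    exact Nat.card_congr (Subgroup.subgroupOfEquivOfLe inf_le_right).toEquiv
  refine ⟨IsPGroup.of_card (n := f * 36) (by rw [hcard, hf, pow_mul]), fun hd => ?_⟩
  have hq := S.hq
  have hpq : p ∣ q := by
    rw [hf]; refine dvd_pow_self p ?_
    rintro rfl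
    simp at hf
    omega
  have hi : Nat.gcd 3 (q + 1) * U0.index =
      (q ^ 2 - 1) * (q ^ 5 + 1) * (q ^ 6 - 1) * (q ^ 8 - 1) * (q ^ 9 + 1) * (q ^ 12 - 1) := by
    refine Nat.eq_of_mul_eq_mul_left (pow_pos (by omega : 0 < q) 36) ?_
    have h := U0.index_mul_card
    rw [hcard] at h
    have h' := S.card_group
    rw [← h] at h'
    simp only [mul_assoc] at h' ⊢
    rw [← h']
    ring
  have hk : ∀ k, 1 ≤ k → ¬ p ∣ q ^ k - 1 ∧ ¬ p ∣ q ^ k + 1 := fun k hk => by
    have h4 : p ∣ q ^ k := hpq.trans (dvd_pow_self q (by omega))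
    have h5 : 1 ≤ q ^ k := Nat.one_le_pow _ _ (by omega)
    refine ⟨fun h => hp.out.not_dvd_one ?_, fun h => hp.out.not_dvd_one ((Nat.dvd_add_right h4).1 h)⟩
    refine (Nat.dvd_add_right h).1 ?_
    rwa [Nat.sub_add_cancel h5]
  have h6 := dvd_mul_of_dvd_right hd (Nat.gcd 3 (q + 1))
  rw [hi] at h6
  simp only [hp.out.dvd_mul] at h6
  rcases h6 with ((((h6 | h6) | h6) | h6) | h6) | h6
  exacts [(hk 2 (by norm_num)).1 h6, (hk 5 (by norm_num)).2 h6, (hk 6 (by norm_num)).1 h6,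
    (hk 8 (by norm_num)).1 h6, (hk 9 (by norm_num)).2 h6, (hk 12 (by norm_num)).1 h6]

include S in
/-- Kernels of stem extensions of ²E₆(q), q > 2, have order dividing (3, q + 1). -/
theorem card_ker_dvd (hq : IsPrimePow q) (hq2 : q ≠ 2) {Γ : Type*} [Group Γ] [Finite Γ]
    (σ : Γ →* ↥(twistedE6 K q)) (hσ : Cfsg.IsStemExtension σ) :
    Nat.card σ.ker ∣ Nat.gcd 3 (q + 1) := by
  obtain ⟨p, f, hp, hf0, hpf⟩ := hq
  haveI : Fact p.Prime := ⟨Nat.prime_iff.2 hp⟩
  have hpK : (p : K) = 0 := by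
    have h : ((Fintype.card K : ℕ) : K) = 0 := Nat.cast_card_eq_zero K
    rw [← Nat.card_eq_fintype_card, S.hK, ← hpf, Nat.cast_pow, Nat.cast_pow] at h
    exact eq_zero_of_pow_eq_zero (eq_zero_of_pow_eq_zero h)
  obtain ⟨hUp, hUi⟩ := U_sylow S (p := p) hpf.symm
  have hp' : ¬ p ∣ Nat.card σ.ker :=
    Solv.SplitBNStem.not_dvd_card_ker σ hσ _ hUp hUi (commutator_inf_ker S hq2 ⟨σ, hσ.1, hσ.2.1⟩)
  have hM : Nat.card MF.Group = 1152 := by
    rw [← card_coxF4]
    exact Nat.card_congr (CoxeterMatrix.F₄.reindexGroupEquiv pF4).toEquiv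
  haveI : Finite MF.Group := Nat.finite_of_card_ne_zero (by rw [hM]; norm_num)
  have hW : Nat.card ↥S.data.piW = 1152 := (S.data.card_piW_vec okPiVec_E6).trans len_vecE6
  have h := RankOrbit.card_ker_mul_dvd (ranks S) (hM.trans hW.symm).le σ hσ hpK (Usub_eq S ▸ hUp) hp'
  have hH : Nat.card ↥(RankOrbit.Hsub S.data) =
      Nat.card ↥(chevE6.diagonalSubgroup K ⊓ twistedE6 K q) := by
    rw [RankOrbit.Hsub, factsE6.tsys_H, ← Subgroup.inf_subgroupOf_right]
    exact Nat.card_congr (Subgroup.subgroupOfEquivOfLe inf_le_right).toEquiv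
  rw [Fin.prod_univ_four, card_kk, card_kk, card_kk, card_kk, hH] at h
  simp only [Fin.val_zero, Fin.val_one, Fin.val_two, show ((3 : Fin 4) : ℕ) = 3 from rfl, Nat.reduceLT, if_true,
    if_false] at h
  have hq1 : q ^ 2 - 1 = (q - 1) * (q + 1) := by
    rw [mul_comm]; simpa using Nat.sq_sub_sq q 1
  have h2 : (q - 1) * (q - 1) * (q ^ 2 - 1) * (q ^ 2 - 1) = (q - 1) ^ 4 * (q + 1) ^ 2 := by rw [hq1]; ring
  rw [h2, ← S.card_H, mul_comm, mul_comm (Nat.gcd 3 (q + 1))] at h
  exact Nat.dvd_of_mul_dvd_mul_left Nat.card_pos h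

end Mult

end Cfsg.Agent.Lie.E6
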