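import Cfsg.Agent.Lib.Lie.XMat
import Cfsg.Agent.Lib.Lie.TwistF4H
import Cfsg.Agent.Lib.Lie.SuzukiGroup

/-!
The four dimensional weight block on which the rank one subgroup of type ²B₂ of ²F₄(q) acts naturally.
-/

set_option autoImplicit false
set_option maxRecDepth 4000
set_option linter.unusedSectionVars false

namespace Cfsg.Agent.Lie.TwistMult.F4

open Cfsg.Lie Cfsg.Agent.Lie Matrix
open Cfsg.Agent.Lie.F4 (Setup)
open scoped MatrixGroups

/-- The roots of the block. -/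
def blkRoot (i : Fin 4) : Fin chevF4.nroots :=
  ⟨[37, 35, 34, 33].getD i.val 0, by revert i; decide +kernel⟩

/-- The positions of the block. -/
def blkIds : List ℕ := [41, 39, 38, 37]

theorem blk_num : ∀ i : Fin 4, chevF4.rank + (blkRoot i).val = blkIds.getD i.val 0 := by decide +kernel

/-- The embedding of the block. -/
def blk (i : Fin 4) : chevF4.Idx := Sum.inr (blkRoot i)

theorem blk_inj : Function.Injective blk := fun i j h => by
  have : (blkRoot i).val = (blkRoot j).val := congrArg Fin.val (Sum.inr.inj h)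
  revert this; revert i j; decide +kernel

theorem blk_idx (i : Fin 4) : (idxEquiv chevF4 (blk i) : ℕ) = blkIds.getD i.val 0 := by
  rw [blk, idx_inr, blk_num]

theorem mem_range_blk {p : chevF4.Idx} : p ∈ Set.range blk ↔ (idxEquiv chevF4 p : ℕ) ∈ blkIds := by
  constructor
  · rintro ⟨i, rfl⟩
    rw [blk_idx]
    revert i; decide +kernel
  · intro h
    obtain ⟨i, hi⟩ : ∃ i : Fin 4, blkIds.getD i.val 0 = (idxEquiv chevF4 p : ℕ) := by
      simp only [blkIds, List.mem_cons, List.not_mem_nil, or_false] at h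
      rcases h with h | h | h | h <;> rw [h]
      exacts [⟨0, rfl⟩, ⟨1, rfl⟩, ⟨2, rfl⟩, ⟨3, rfl⟩]
    exact ⟨i, (idxEquiv chevF4).injective (Fin.ext ((blk_idx i).trans hi))⟩

/-- The terms inside the block. -/
def blkTm (r : ℕ) : List (ℕ × ℕ × ℕ) :=
  ((ent chevF4 r).filter fun m => blkIds.contains m.row && m.c % 2 != 0).map fun m => (m.row, m.col, m.a)

theorem blk_ok : ∀ r ∈ ([27, 25, 28, 30, 20, 22, 19, 17] : List ℕ),
    (ent chevF4 r).all (fun m => (blkIds.contains m.row == blkIds.contains m.col) && m.b == 0) = true := by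
  decide +kernel

theorem blk_tab : ([27, 25, 28, 30, 20, 22, 19, 17] : List ℕ).map blkTm =
    [[(38, 37, 1), (41, 39, 1)], [(39, 38, 1)], [(39, 37, 1), (41, 38, 1)], [(41, 37, 1)],
      [(37, 38, 1), (39, 41, 1)], [(38, 39, 1)], [(37, 39, 1), (38, 41, 1)], [(37, 41, 1)]] := by
  decide +kernel

variable {K : Type*} [Field K]

/-- Matrices preserving the block and a complement. -/
def Keeps (A : Matrix chevF4.Idx chevF4.Idx K) : Prop :=
  ∀ p q, A p q ≠ 0 → (p ∈ Set.range blk ↔ q ∈ Set.range blk)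

theorem keeps_one : Keeps (1 : Matrix chevF4.Idx chevF4.Idx K) := fun p q h => by
  by_cases e : p = q
  · rw [e]
  · exact absurd (Matrix.one_apply_ne e) h

theorem keeps_mul {A B : Matrix chevF4.Idx chevF4.Idx K} (hA : Keeps A) (hB : Keeps B) : Keeps (A * B) := by
  intro p q h
  rw [Matrix.mul_apply] at h
  obtain ⟨k, -, hk⟩ := Finset.exists_ne_zero_of_sum_ne_zero h
  exact (hA p k (left_ne_zero_of_mul hk)).trans (hB k q (right_ne_zero_of_mul hk))

/-- The block of a matrix. -/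
def blkMat (A : Matrix chevF4.Idx chevF4.Idx K) : Matrix (Fin 4) (Fin 4) K := A.submatrix blk blk

theorem blkMat_one : blkMat (1 : Matrix chevF4.Idx chevF4.Idx K) = 1 := Matrix.submatrix_one _ blk_inj

theorem blkMat_mul {A B : Matrix chevF4.Idx chevF4.Idx K} (hA : Keeps A) :
    blkMat (A * B) = blkMat A * blkMat B := by
  classical
  ext i j
  simp only [blkMat, Matrix.submatrix_apply, Matrix.mul_apply]
  rw [← Finset.sum_image (s := Finset.univ) (g := blk) (f := fun k => A (blk i) k * B k (blk j))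
    (fun x _ y _ h => blk_inj h)]
  refine (Finset.sum_subset (Finset.subset_univ _) fun k _ hk => ?_).symm
  by_contra h
  obtain ⟨j', hj⟩ := (hA _ _ (left_ne_zero_of_mul h)).1 ⟨i, rfl⟩
  exact hk (Finset.mem_image.2 ⟨j', Finset.mem_univ _, hj⟩)

theorem blk_getD : ∀ i : Fin 4, blkIds.getD i.val 0 ∈ blkIds := by decide +kernel

/-- The value of the block terms. -/
def blkVal (t : K) (L : List (ℕ × ℕ × ℕ)) : Matrix (Fin 4) (Fin 4) K :=
  1 + Matrix.of fun i j => (L.map fun m => if blkIds.getD i.val 0 = m.1 ∧ blkIds.getD j.val 0 = m.2.1 then t ^ m.2.2 else 0).sum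

theorem keeps_x {r : ℕ} (hr : r ∈ ([27, 25, 28, 30, 20, 22, 19, 17] : List ℕ)) (t : K) :
    Keeps (factsF4.xg r t : Matrix chevF4.Idx chevF4.Idx K) := by
  have hok := blk_ok r hr
  simp only [List.all_eq_true, Bool.and_eq_true, beq_iff_eq] at hok
  intro p q h
  rw [factsF4.coe_xg, x_eq chevF4 K r t 0, Matrix.add_apply] at h
  by_cases e : p = q
  · rw [e]
  rw [Matrix.one_apply_ne e, zero_add] at h
  unfold ev at h
  rw [evL_apply] at h
  obtain ⟨m, hm, hne⟩ : ∃ m ∈ ent chevF4 r, m.ev (idxEquiv chevF4) t 0 p q ≠ 0 := by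
    by_contra hc
    push Not at hc
    exact h (sum_eq_zero_of _ _ hc)
  rw [tm_ev_apply] at hne
  obtain ⟨⟨h1, h2⟩, -⟩ := ite_ne_right_iff.1 hne
  rw [mem_range_blk, mem_range_blk, h1, h2, ← List.contains_iff_mem, ← List.contains_iff_mem, (hok m hm).1]

variable [CharP K 2]

theorem blk_x {r : ℕ} (hr : r ∈ ([27, 25, 28, 30, 20, 22, 19, 17] : List ℕ)) (t : K) :
    blkMat (factsF4.xg r t : Matrix chevF4.Idx chevF4.Idx K) = blkVal t (blkTm r) := by
  have hok := blk_ok r hr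
  simp only [List.all_eq_true, Bool.and_eq_true, beq_iff_eq] at hok
  ext i j
  simp only [blkMat, Matrix.submatrix_apply, blkVal, Matrix.add_apply, Matrix.of_apply]
  rw [factsF4.coe_xg, x_eq chevF4 K r t 0, Matrix.add_apply]
  unfold ev
  rw [evL_apply]
  congr 1
  · show (1 : Matrix chevF4.Idx chevF4.Idx K) (blk i) (blk j) = (1 : Matrix (Fin 4) (Fin 4) K) i j
    simp only [Matrix.one_apply, blk_inj.eq_iff]
  simp only [blkTm, List.map_map]
  generalize ent chevF4 r = L at hok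
  induction L with
  | nil => rfl
  | cons m L ih =>
    have ih := ih fun x hx => hok x (List.mem_cons_of_mem _ hx)
    obtain ⟨-, hb⟩ := hok m List.mem_cons_self
    rw [List.map_cons, List.sum_cons, ih, tm_ev_apply, blk_idx, blk_idx, hb, pow_zero, mul_one]
    have hrow := blk_getD i
    by_cases hc : (blkIds.contains m.row && m.c % 2 != 0) = true
    · simp only [List.filter_cons, hc, if_true, List.map_cons, List.sum_cons]
      congr 1
      simp only [Bool.and_eq_true, bne_iff_ne, ne_eq] at hc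
      obtain ⟨k, hk⟩ : ∃ k, m.c = 2 * k + 1 := ⟨m.c / 2, by omega⟩
      simp only [Function.comp_apply]
      rw [hk, Int.cast_add, Int.cast_mul, Int.cast_ofNat, Int.cast_one, CharTwo.two_eq_zero, zero_mul, zero_add,
        one_mul]
    · simp only [List.filter_cons, hc, Bool.false_eq_true, if_false, add_eq_right, ite_eq_right_iff]
      rintro ⟨h1, -⟩
      simp only [Bool.and_eq_true, bne_iff_ne, ne_eq, not_and, not_not] at hc
      have hmem : m.row ∈ blkIds := h1 ▸ hrow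
      obtain ⟨k, hk⟩ : ∃ k, m.c = 2 * k := ⟨m.c / 2, by have := hc (List.contains_iff_mem.2 hmem); omega⟩
      rw [hk, Int.cast_mul, Int.cast_ofNat, CharTwo.two_eq_zero, zero_mul, zero_mul]

theorem blk_prod_up (A B C E : K) :
    blkVal A [(38, 37, 1), (41, 39, 1)] * blkVal B [(39, 38, 1)] * blkVal C [(39, 37, 1), (41, 38, 1)] *
      blkVal E [(41, 37, 1)] =
      !![1, A, A * B + C, A * C + E; 0, 1, B, C; 0, 0, 1, A; 0, 0, 0, 1] := by
  have e1 : blkVal A [(38, 37, 1), (41, 39, 1)] = !![1, A, 0, 0; 0, 1, 0, 0; 0, 0, 1, A; 0, 0, 0, 1] := by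
    ext i j; fin_cases i <;> fin_cases j <;> simp [blkVal, blkIds]
  have e2 : blkVal B [(39, 38, 1)] = !![1, 0, 0, 0; 0, 1, B, 0; 0, 0, 1, 0; 0, 0, 0, 1] := by
    ext i j; fin_cases i <;> fin_cases j <;> simp [blkVal, blkIds]
  have e3 : blkVal C [(39, 37, 1), (41, 38, 1)] = !![1, 0, C, 0; 0, 1, 0, C; 0, 0, 1, 0; 0, 0, 0, 1] := by
    ext i j; fin_cases i <;> fin_cases j <;> simp [blkVal, blkIds]
  have e4 : blkVal E [(41, 37, 1)] = !![1, 0, 0, E; 0, 1, 0, 0; 0, 0, 1, 0; 0, 0, 0, 1] := by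
    ext i j; fin_cases i <;> fin_cases j <;> simp [blkVal, blkIds]
  rw [e1, e2, e3, e4]
  ext i j
  fin_cases i <;> fin_cases j <;> simp [Matrix.mul_apply, Fin.sum_univ_four, add_comm]

theorem blk_prod_lo (A B C E : K) :
    blkVal A [(37, 38, 1), (39, 41, 1)] * blkVal B [(38, 39, 1)] * blkVal C [(37, 39, 1), (38, 41, 1)] *
      blkVal E [(37, 41, 1)] =
      !![1, 0, 0, 0; A, 1, 0, 0; C, B, 1, 0; A * C + E, A * B + C, A, 1] := by
  have e1 : blkVal A [(37, 38, 1), (39, 41, 1)] = !![1, 0, 0, 0; A, 1, 0, 0; 0, 0, 1, 0; 0, 0, A, 1] := by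
    ext i j; fin_cases i <;> fin_cases j <;> simp [blkVal, blkIds]
  have e2 : blkVal B [(38, 39, 1)] = !![1, 0, 0, 0; 0, 1, 0, 0; 0, B, 1, 0; 0, 0, 0, 1] := by
    ext i j; fin_cases i <;> fin_cases j <;> simp [blkVal, blkIds]
  have e3 : blkVal C [(37, 39, 1), (38, 41, 1)] = !![1, 0, 0, 0; 0, 1, 0, 0; C, 0, 1, 0; 0, C, 0, 1] := by
    ext i j; fin_cases i <;> fin_cases j <;> simp [blkVal, blkIds]
  have e4 : blkVal E [(37, 41, 1)] = !![1, 0, 0, 0; 0, 1, 0, 0; 0, 0, 1, 0; E, 0, 0, 1] := by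
    ext i j; fin_cases i <;> fin_cases j <;> simp [blkVal, blkIds]
  rw [e1, e2, e3, e4]
  ext i j
  fin_cases i <;> fin_cases j <;> simp [Matrix.mul_apply, Fin.sum_univ_four, add_comm]

open Cfsg.Agent.Lie.Suzuki in
theorem blk_w4 [Fintype K] {m : ℕ} (S : Setup K m) (t u : K) :
    Keeps (S.w4F 27 25 28 30 t u : Matrix chevF4.Idx chevF4.Idx K) ∧
    blkMat (S.w4F 27 25 28 30 t u : Matrix chevF4.Idx chevF4.Idx K) =
      tMat m (t ^ 2 ^ m) (t ^ (2 ^ m + 1) + u) ∧
    Keeps (S.w4F 20 22 19 17 t u : Matrix chevF4.Idx chevF4.Idx K) ∧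
    blkMat (S.w4F 20 22 19 17 t u : Matrix chevF4.Idx chevF4.Idx K) =
      (wM K : Matrix (Fin 4) (Fin 4) K) * tMat m (t ^ 2 ^ m) (t ^ (2 ^ m + 1) + u) *
        (wM K : Matrix (Fin 4) (Fin 4) K) := by
  have k := fun r hr (s : K) => keeps_x (r := r) hr s
  have hh := blk_tab
  simp only [List.map_cons, List.map_nil, List.cons.injEq, and_true] at hh
  obtain ⟨e27, e25, e28, e30, e20, e22, e19, e17⟩ := hh
  have h2 := S.h2
  obtain ⟨A, hA⟩ : ∃ A, A = t ^ 2 ^ m := ⟨_, rfl⟩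
  obtain ⟨C, hC⟩ : ∃ C, C = t ^ (2 ^ m + 1) + u := ⟨_, rfl⟩
  obtain ⟨E, hE⟩ : ∃ E, E = u ^ (2 * 2 ^ m) := ⟨_, rfl⟩
  have hC' : C = A * t + u := by rw [hC, pow_succ, hA]
  have hs : A ^ 2 ^ (m + 1) = t := by rw [hA, pow_succ']; exact (S.pow_twist t).1
  have hb : C ^ 2 ^ (m + 1) = t * t ^ (2 * 2 ^ m) + E := by
    rw [hC', add_pow_char_pow, mul_pow, hs, hE, pow_succ']
  have hA2 : A ^ 2 = t ^ (2 * 2 ^ m) := by rw [hA, ← pow_mul, mul_comm]
  have hg : C + A ^ (2 ^ (m + 1) + 1) = A * t + C := by rw [pow_succ A (2 ^ (m + 1)), hs]; ring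
  have hf : fv m A C = A * C + E := by
    rw [fv, hb, pow_add, hs, hA2]
    linear_combination (t * t ^ (2 * 2 ^ m)) * h2
  have hup : !![1, A, A * t + C, A * C + E; 0, 1, t, C; 0, 0, 1, A; 0, 0, 0, 1] = tMat m A C := by
    rw [tMat, hg, hs, hf]
  have hlo : !![1, 0, 0, 0; A, 1, 0, 0; C, t, 1, 0; A * C + E, A * t + C, A, 1] =
      (wM K : Matrix (Fin 4) (Fin 4) K) * tMat m A C * (wM K : Matrix (Fin 4) (Fin 4) K) := by
    rw [← hup]
    ext i j
    fin_cases i <;> fin_cases j <;> simp [wM, Matrix.mul_apply, Fin.sum_univ_four]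
  refine ⟨?_, ?_, ?_, ?_⟩
  · simp only [Lie.F4.Setup.w4F, Facts.w4, Units.val_mul]
    exact keeps_mul (keeps_mul (keeps_mul (k 27 (by simp) _) (k 25 (by simp) _)) (k 28 (by simp) _)) (k 30 (by simp) _)
  · simp only [Lie.F4.Setup.w4F, Facts.w4, Units.val_mul]
    rw [blkMat_mul (keeps_mul (keeps_mul (k 27 (by simp) _) (k 25 (by simp) _)) (k 28 (by simp) _)),
      blkMat_mul (keeps_mul (k 27 (by simp) _) (k 25 (by simp) _)), blkMat_mul (k 27 (by simp) _),
      blk_x (by simp), blk_x (by simp), blk_x (by simp), blk_x (by simp), e27, e25, e28, e30,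
      ← hA, ← hC, ← hE, blk_prod_up, hup]
  · simp only [Lie.F4.Setup.w4F, Facts.w4, Units.val_mul]
    exact keeps_mul (keeps_mul (keeps_mul (k 20 (by simp) _) (k 22 (by simp) _)) (k 19 (by simp) _)) (k 17 (by simp) _)
  · simp only [Lie.F4.Setup.w4F, Facts.w4, Units.val_mul]
    rw [blkMat_mul (keeps_mul (keeps_mul (k 20 (by simp) _) (k 22 (by simp) _)) (k 19 (by simp) _)),
      blkMat_mul (keeps_mul (k 20 (by simp) _) (k 22 (by simp) _)), blkMat_mul (k 20 (by simp) _),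
      blk_x (by simp), blk_x (by simp), blk_x (by simp), blk_x (by simp), e20, e22, e19, e17,
      ← hA, ← hC, ← hE, blk_prod_lo, hlo]

end Cfsg.Agent.Lie.TwistMult.F4
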