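import Cfsg.Agent.Lib.Small.Char2Invol.F4.Struct
import Cfsg.Agent.Lib.Solv.WeightSeries

/-!
The weight series of the unipotent subgroup of ²F₄(q) and the commutators of its lifts.
-/

set_option autoImplicit false
set_option maxRecDepth 4000
set_option linter.unusedSectionVars false
set_option maxHeartbeats 1000000

namespace Cfsg.Agent.Lie.TwistMult.F4

open Cfsg.Lie Cfsg.Agent.Lie Matrix
open Cfsg.Agent.Lie.F4 (Setup torChar_eval)
open Cfsg.Agent.Small.C2Inv.F4
open Cfsg.Agent.Small.SchurLifts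
open Cfsg.Agent.Solv.WeightSeries
open scoped MatrixGroups commutatorElement

/-- The coordinates from the lowest weight space upwards. -/
def ord (i : ℕ) : ℕ := [5, 8, 6, 3, 9, 2, 4, 7, 1, 11, 10, 0].getD i 12

/-- A single coordinate. -/
def sgl {A : Type*} (z : A) (k : ℕ) (p : A) : List A := (List.range 12).map fun i => if i = k then p else z

/-- The word of a single coordinate. -/
def sW (k : ℕ) (p : Poly) : Word := wEl (sgl [] k p)

/-- The word of a product of single coordinates. -/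
def prodW (L : List (ℕ × Poly)) : Word := L.flatMap fun a => sW (ord a.1) a.2

def commTab : List ((ℕ × ℕ) × List (ℕ × Poly)) :=
  [((5, 4), [(0, [[0, 2]])]),
   ((6, 4), [(1, [[0, 2]])]),
   ((7, 3), [(0, [[0, 2]])]),
   ((7, 6), [(2, [[0, 2]])]),
   ((8, 2), [(0, [[0, 2]])]),
   ((8, 4), [(1, [[0, 3]]), (2, [[1, 2]])]),
   ((8, 6), [(3, [[0, 2]])]),
   ((9, 3), [(1, [[0, 2]])]),
   ((9, 5), [(1, [[1, 2]]), (2, [[0, 2]]), (0, [[0, 3]])]),
   ((9, 8), [(4, [[0, 2]]), (2, [[0, 2, 3]]), (0, [[0, 2, 2, 3]])]),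
   ((10, 2), [(1, [[0, 2]])]),
   ((10, 3), [(2, [[1, 2]]), (0, [[0, 3]])]),
   ((10, 5), [(1, [[0, 0, 1, 2]]), (2, [[0, 1, 2]]), (3, [[0, 2]])]),
   ((10, 7), [(4, [[0, 2]])]),
   ((10, 8), [(7, [[1, 2]]), (2, [[0, 1, 2, 3]]), (6, [[0, 3]]), (0, [[0, 1, 2, 2, 3]])]),
   ((11, 1), [(0, [[0, 2]])]),
   ((11, 4), [(2, [[0, 3]]), (3, [[1, 2]])]),
   ((11, 6), [(5, [[0, 2]])]),
   ((11, 7), [(3, [[0, 3]]), (5, [[1, 2]])]),
   ((11, 9), [(4, [[0, 3]]), (7, [[0, 2]]), (1, [[0, 1, 2, 3]]), (6, [[1, 2]]), (0, [[0, 0, 1, 2, 3]]), (3, [[0, 1, 3]]), (5, [[0, 1, 2]])]),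
   ((11, 10), [(4, [[0, 2, 2, 3]]), (7, [[0, 2, 3]]), (0, [[0, 0, 1, 2, 2, 2, 3, 3]]), (3, [[0, 1, 2, 2, 3]]), (8, [[0, 2]])])]

def addTab : List (ℕ × List (ℕ × Poly)) :=
  [(6, [(0, [[0, 3]])]), (7, [(1, [[0, 3]])]), (8, [(5, [[0, 3]])]), (10, [(9, [[0, 3]])])]

/-- An entry of a table. -/
def entry {A B : Type} [BEq A] (T : List (A × List B)) (a : A) : List B := ((T.find? fun e => e.1 == a).map (·.2)).getD []

theorem comm_ok : ∀ i : Fin 12, ∀ j : Fin 12, j.val < i.val →
    ((entry commTab (i.val, j.val)).all fun a => decide (a.1 < i.val)) = true ∧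
    eqv 4000 (sW (ord i.val) (pv 0) ++ sW (ord j.val) (pv 2) ++ (sW (ord i.val) (pv 0)).reverse ++
      (sW (ord j.val) (pv 2)).reverse) (prodW (entry commTab (i.val, j.val))) = true := by
  decide +kernel

theorem add_ok : ∀ i : Fin 12,
    ((entry addTab i.val).all fun a => decide (a.1 < i.val)) = true ∧
    eqv 4000 (sW (ord i.val) (pv 0) ++ sW (ord i.val) (pv 2) ++ (sW (ord i.val) (padd (pv 0) (pv 2))).reverse)
      (prodW (entry addTab i.val)) = true := by
  decide +kernel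

/-- The coordinates in the order in which they occur in an element. -/
def elOrder : List ℕ := [10, 11, 9, 7, 8, 6, 4, 5, 3, 1, 2, 0]

theorem gen_ok : eqv 4000 (wEl gen) (elOrder.flatMap fun k => sW k (pv (2 * k))) = true := by decide +kernel

theorem elOrder_ord : ∀ k ∈ elOrder, ∃ i < 12, ord i = k := by decide +kernel

theorem ord_lt : ∀ i < 12, ord i < 12 := by decide +kernel

/-- The root giving the character of a coordinate. -/
def cRoot (k : ℕ) : ℕ := [33, 34, 36, 38, 29, 44, 39, 35, 40, 37, 27, 28].getD k 0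

theorem cRoot_lt : ∀ k < 12, cRoot k < 48 := by decide +kernel

/-- The cartan integers of the character of a coordinate. -/
def cw (k : ℕ) : List ℤ := wList chevF4 (cRoot k)

/-- Two characters have kernels in general position. -/
def sepOK (i j : ℕ) : Bool :=
  let a := (cw i).getD 0 0
  let b := (cw i).getD 1 0
  let c := (cw i).getD 2 0
  let e := (cw i).getD 3 0
  let a' := (cw j).getD 0 0
  let b' := (cw j).getD 1 0
  let c' := (cw j).getD 2 0
  let e' := (cw j).getD 3 0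
  decide ((((a' * b - b' * a) + 2 * (e' * c - c' * e)) ^ 2 -
    2 * (a' * c + e' * b - b' * e - c' * a) ^ 2).natAbs ∣ 2 ^ 20)

/-- The pairs of coordinates in one direction. -/
def oddPairs : List (ℕ × ℕ) := [(1, 2), (4, 5), (7, 8), (10, 11)]

theorem sep_ok : ∀ i : Fin 12, ∀ j : Fin 12, j.val < i.val →
    sepOK (ord i.val) (ord j.val) = true ∨ (ord i.val, ord j.val) ∈ oddPairs := by
  decide +kernel

theorem onto_ok : ∀ i : Fin 12, ∃ j : Fin 12, sepOK (ord j.val) (ord i.val) = true := by decide +kernel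

section Coord

variable {K : Type*} [Field K] [Fintype K] [CharP K 2] {m : ℕ} (S : Setup K m)

/-- The group. -/
abbrev GF (K : Type*) [Field K] (m : ℕ) : Type _ := ↥(twistedF4 K (2 ^ m))

/-- A single coordinate of the group. -/
noncomputable def gc (k : ℕ) (x : K) : GF K m := ⟨El m (sgl 0 k x), (El_mem S _).2⟩

/-- The weight spaces. -/
noncomputable def gs (i : ℕ) (x : K) : GF K m := gc S (ord i) x

include S in
theorem ev_sW (l : List K) (k : ℕ) (p : Poly) :
    evW (envL m l) (sW k p) = El m (sgl 0 k (evP (envL m l) p)) := by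
  rw [sW, ev_wEl S, sgl, sgl, List.map_map]
  congr 1
  refine List.map_congr_left fun i _ => ?_
  simp only [Function.comp_apply]
  split
  · rfl
  · rfl

theorem prodW_mem (l : List K) (L : List (ℕ × Poly)) {i : ℕ} (hL : ∀ a ∈ L, a.1 < i) :
    ∃ g ∈ N (gs S) i, (g : GL chevF4.Idx K) = evW (envL m l) (prodW L) := by
  induction L with
  | nil => exact ⟨1, one_mem _, rfl⟩
  | cons a L ih =>
    obtain ⟨g, hg, e⟩ := ih fun b hb => hL b (List.mem_cons_of_mem _ hb)
    refine ⟨gs S a.1 (evP (envL m l) a.2) * g, mul_mem (N_mem (hL a List.mem_cons_self) _) hg, ?_⟩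
    rw [Subgroup.coe_mul, e, prodW, prodW, List.flatMap_cons, evW_append, ev_sW S]
    rfl

theorem ev_two (x y : K) : evP (envL m [x, y]) (pv 0) = x ∧ evP (envL m [x, y]) (pv 2) = y := by
  simp [pv, evP, evM, envL]

theorem comm_mem {i j : ℕ} (hi : i < 12) (hj : j < i) (x y : K) :
    gs S i x * gs S j y * (gs S i x)⁻¹ * (gs S j y)⁻¹ ∈ N (gs S) i := by
  obtain ⟨hL, he⟩ := comm_ok ⟨i, hi⟩ ⟨j, hj.trans hi⟩ hj
  simp only [List.all_eq_true, decide_eq_true_eq] at hL
  obtain ⟨g, hg, e⟩ := prodW_mem S [x, y] _ hL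
  have h := eqv_sound he (envL m [x, y])
  simp only [evW_append, evW_reverse, ev_sW S, (ev_two (m := m) x y).1, (ev_two (m := m) x y).2] at h
  convert hg using 1
  exact Subtype.ext (h.trans e.symm)

theorem add_mem' {i : ℕ} (hi : i < 12) (x y : K) :
    gs S i x * gs S i y * (gs S i (x + y))⁻¹ ∈ N (gs S) i := by
  obtain ⟨hL, he⟩ := add_ok ⟨i, hi⟩
  simp only [List.all_eq_true, decide_eq_true_eq] at hL
  obtain ⟨g, hg, e⟩ := prodW_mem S [x, y] _ hL
  have h := eqv_sound he (envL m [x, y])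
  simp only [evW_append, evW_reverse, ev_sW S, evP_padd, (ev_two (m := m) x y).1, (ev_two (m := m) x y).2] at h
  convert hg using 1
  exact Subtype.ext (h.trans e.symm)

theorem U_le : (chevF4.posUnipotent K).subgroupOf (twistedF4 K (2 ^ m)) ≤ N (gs S) 12 := by
  intro g hg
  obtain ⟨l, hl, e⟩ := exists_El S (u := (g : GL chevF4.Idx K)) (by rw [factsF4.tsys_U]; exact hg) (S.le_fix g.2)
  have h := eqv_sound gen_ok (envL m l)
  rw [ev_wEl S, gen_eval S hl, ← e] at h
  have hprod : ∀ L : List ℕ, (∀ k ∈ L, ∃ i < 12, ord i = k) → ∃ z ∈ N (gs S) 12,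
      (z : GL chevF4.Idx K) = evW (envL m l) (L.flatMap fun k => sW k (pv (2 * k))) := by
    intro L hL
    induction L with
    | nil => exact ⟨1, one_mem _, rfl⟩
    | cons k L ih =>
      obtain ⟨z, hz, ez⟩ := ih fun b hb => hL b (List.mem_cons_of_mem _ hb)
      obtain ⟨i, hi, hik⟩ := hL k List.mem_cons_self
      refine ⟨gs S i (evP (envL m l) (pv (2 * k))) * z, mul_mem (N_mem hi _) hz, ?_⟩
      rw [Subgroup.coe_mul, ez, List.flatMap_cons, evW_append, ev_sW S, gs, hik]
      rfl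
  obtain ⟨z, hz, ez⟩ := hprod elOrder elOrder_ord
  rw [show g = z from Subtype.ext (h.trans ez.symm)]
  exact hz

end Coord

end Cfsg.Agent.Lie.TwistMult.F4
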