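import Cfsg.Agent.Lib.Lie.TwistMult.F4Weight
import Cfsg.Agent.Lib.Solv.SplitBNStem
import Cfsg.Agent.Lib.Small.Char2Invol.F4.Steps
import Cfsg.Agent.Lib.Lie.TwistF4S

/-!
In a stem extension of ²F₄(q) the kernel has odd order.
-/

set_option autoImplicit false
set_option maxRecDepth 4000
set_option linter.unusedSectionVars false
set_option maxHeartbeats 1000000

namespace Cfsg.Agent.Lie.TwistMult.F4

open Cfsg.Lie Cfsg.Agent.Lie Matrix
open Cfsg.Agent.Lie.F4 (Setup)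
open Cfsg.Agent.Small.C2Inv.F4
open Cfsg.Agent.Small.SchurLifts
open Cfsg.Agent.Solv.WeightSeries
open scoped MatrixGroups commutatorElement

/-- Products of single coordinates. -/
def prodC (L : List (ℕ × Poly)) : Word := L.flatMap fun a => sW a.1 a.2

theorem spec_ok : ∀ x ∈ ([(1, 0, 4, 3, 2), (4, 3, 7, 6, 5), (7, 9, 4, 6, 8)] : List (ℕ × ℕ × ℕ × ℕ × ℕ)),
    eqv 4000 (sW x.1 (pv 0) ++ sW x.2.1 (pv 2)) (sW x.2.1 (pv 2) ++ sW x.1 (pv 0)) = true ∧
    eqv 4000 (sW x.1 (pv 0) ++ sW x.2.2.1 (pv 2) ++ (sW x.1 (pv 0)).reverse)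
      (prodC [(x.2.2.2.1, pmul (pv 0) (pv 2)), (x.2.2.1, pv 2)]) = true ∧
    eqv 4000 (sW x.2.1 (pv 0) ++ sW x.2.2.1 (pv 2) ++ (sW x.2.1 (pv 0)).reverse ++ (sW x.2.2.1 (pv 2)).reverse)
      (sW x.2.2.2.2 (pmul (pv 0) (pv 2))) = true ∧
    eqv 4000 (sW x.2.1 (pv 0) ++ sW x.2.1 (pv 2)) (sW x.2.1 (padd (pv 0) (pv 2))) = true ∧
    eqv 4000 (sW x.2.2.2.2 (pv 0) ++ sW x.2.2.2.2 (pv 2)) (sW x.2.2.2.2 (padd (pv 0) (pv 2))) = true ∧
    eqv 4000 (sW x.2.2.2.1 (pv 0) ++ sW x.2.1 (pv 2)) (sW x.2.1 (pv 2) ++ sW x.2.2.2.1 (pv 0)) = true ∧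
    eqv 4000 (sW x.2.2.2.1 (pv 0) ++ sW x.2.2.2.2 (pv 2)) (sW x.2.2.2.2 (pv 2) ++ sW x.2.2.2.1 (pv 0)) = true ∧
    sepOK x.2.2.2.1 x.2.1 = true ∧ sepOK x.2.2.2.1 x.2.2.2.2 = true ∧
    x.2.1 < 12 ∧ x.2.2.2.1 < 12 ∧ x.2.2.2.2 < 12 := by
  decide +kernel

theorem move_ok : ∀ z ∈ ([(1, 10), (2, 11)] : List (ℕ × ℕ)),
    ((trimW (sW z.1 (pv 0))).all fun a => decide (a.1 < 48)) = true ∧
    eqv 4000 (wW 0 (trimW (sW z.1 (pv 0)))) (sW z.2 (pv 0)) = true := by
  decide +kernel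

variable {K : Type*} [Field K] [Fintype K] [CharP K 2] {m : ℕ} (S : Setup K m)

theorem coe_gc (k : ℕ) (x : K) : (gc S k x : GL chevF4.Idx K) = El m (sgl 0 k x) := rfl

theorem ev_val (x y : K) (k : ℕ) :
    evW (envL m [x, y]) (sW k (pv 0)) = (gc S k x : GL chevF4.Idx K) ∧
    evW (envL m [x, y]) (sW k (pv 2)) = (gc S k y : GL chevF4.Idx K) ∧
    evW (envL m [x, y]) (sW k (padd (pv 0) (pv 2))) = (gc S k (x + y) : GL chevF4.Idx K) ∧
    evW (envL m [x, y]) (sW k (pmul (pv 0) (pv 2))) = (gc S k (x * y) : GL chevF4.Idx K) := by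
  simp only [ev_sW S, evP_padd, evP_pmul, (ev_two (m := m) x y).1, (ev_two (m := m) x y).2, coe_gc, and_self]

include S in
theorem exists_move (hm : 1 ≤ m) : ∃ c : Kˣ, c ≠ 1 := S.exists_unit hm

variable {Γ : Type*} [Group Γ] (C : Central Γ (GF K m))

include S in
/-- Lifts of commuting weight spaces in general position commute. -/
theorem commute_sep (hm : 1 ≤ m) {i j : ℕ} (hi : i < 12) (hj : j < 12) (hs : sepOK i j = true)
    (hc : ∀ x y, Commute (gc S i x) (gc S j y)) (hadd : ∀ x y, gc S j x * gc S j y = gc S j (x + y))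
    {a b : Γ} {x y : K} (ha : C.π a = gc S i x) (hb : C.π b = gc S j y) : Commute a b := by
  obtain ⟨c, hc1⟩ := exists_move S hm
  obtain ⟨p, hp1, hp2⟩ := sep S hi hj hs c
  have h := C.pair_eq_one (f := gc S i) (g := gc S j) hc hadd (tor S p) (c : K)
    (fun h => hc1 (Units.ext h)) (fun t => by rw [conj_gc S hi, hp1, Units.val_one, one_mul])
    (fun u => by rw [conj_gc S hj, hp2]) x y
  refine C.commute_indep (a' := C.L (gc S i x)) (b' := C.L (gc S j y)) (by rw [ha, C.π_L]) (by rw [hb, C.π_L]) ?_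
  exact commutatorElement_eq_one_iff_mul_comm.1 h

/-- An element moving the second entry of a commutator by one centralising both entries lifts to one fixing it. -/
theorem commute_of_comm {G : Type*} [Group G] (C : Central Γ G) {t a b w c : Γ}
    (hta : Commute (C.π t) (C.π a)) (htb : C.π t * C.π b * (C.π t)⁻¹ = C.π w * C.π b)
    (hwa : Commute w a) (hwc : Commute w ⁅a, b⁆) (hc : C.π c = C.π ⁅a, b⁆) : Commute t c := by
  refine C.commute_indep (a' := t) (b' := ⁅a, b⁆) rfl hc (mul_inv_eq_iff_eq_mul.1 ?_)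
  rw [C.conj_comm (a' := a) (b' := w * b)
    (by rw [map_mul, map_mul, map_inv, hta.eq, mul_inv_cancel_right]) (by rw [map_mul, map_mul, map_inv, htb, map_mul]),
    show ⁅a, w * b⁆ = ⁅a, w⁆ * (w * ⁅a, b⁆ * w⁻¹) by simp only [commutatorElement_def]; group,
    hwc.eq, mul_inv_cancel_right, commutatorElement_eq_one_iff_mul_comm.2 hwa.symm, one_mul]

include S in
theorem special_low (hm : 1 ≤ m) {x : ℕ × ℕ × ℕ × ℕ × ℕ}
    (hx : x ∈ ([(1, 0, 4, 3, 2), (4, 3, 7, 6, 5), (7, 9, 4, 6, 8)] : List (ℕ × ℕ × ℕ × ℕ × ℕ)))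
    {a b : Γ} {s u : K} (ha : C.π a = gc S x.1 s) (hb : C.π b = gc S x.2.2.2.2 u) : Commute a b := by
  obtain ⟨h1, h2, h3, hA, hC, hwa, hwc, s1, s2, la, lw, lc⟩ := spec_ok x hx
  obtain ⟨t, ia, ib, iw, ic⟩ := x
  dsimp only at *
  have cm : ∀ {i j : ℕ}, eqv 4000 (sW i (pv 0) ++ sW j (pv 2)) (sW j (pv 2) ++ sW i (pv 0)) = true →
      ∀ x y : K, Commute (gc S i x) (gc S j y) := fun {i j} h x y => by
    have e := eqv_sound h (envL m [x, y])
    simp only [evW_append, (ev_val S x y i).1, (ev_val S x y j).2.1] at e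
    exact Subtype.ext e
  have ad : ∀ {i : ℕ}, eqv 4000 (sW i (pv 0) ++ sW i (pv 2)) (sW i (padd (pv 0) (pv 2))) = true →
      ∀ x y : K, gc S i x * gc S i y = gc S i (x + y) := fun {i} h x y => by
    have e := eqv_sound h (envL m [x, y])
    simp only [evW_append, (ev_val S x y i).1, (ev_val S x y i).2.1, (ev_val S x y i).2.2.1] at e
    exact Subtype.ext e
  have e2 : ∀ x y : K, gc S t x * gc S ib y * (gc S t x)⁻¹ = gc S iw (x * y) * gc S ib y := fun x y => by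
    have e := eqv_sound h2 (envL m [x, y])
    simp only [prodC, List.flatMap_cons, List.flatMap_nil, List.append_nil, evW_append, evW_reverse,
      (ev_val S x y t).1, (ev_val S x y ib).2.1, (ev_val S x y iw).2.2.2] at e
    exact Subtype.ext e
  have e3 : ∀ x y : K, ⁅gc S ia x, gc S ib y⁆ = gc S ic (x * y) := fun x y => by
    have e := eqv_sound h3 (envL m [x, y])
    simp only [evW_append, evW_reverse, (ev_val S x y ia).1, (ev_val S x y ib).2.1, (ev_val S x y ic).2.2.2] at e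
    exact Subtype.ext e
  have hc : C.π ⁅C.L (gc S ia 1), C.L (gc S ib u)⁆ = gc S ic u := by
    rw [map_commutatorElement, C.π_L, C.π_L, e3, one_mul]
  refine commute_of_comm C (a := C.L (gc S ia 1)) (b := C.L (gc S ib u)) (w := C.L (gc S iw (s * u)))
    ?_ ?_ ?_ ?_ (hb.trans hc.symm)
  · rw [ha, C.π_L]; exact cm h1 s 1
  · rw [ha, C.π_L, C.π_L]; exact e2 s u
  · exact commute_sep S C hm lw la s1 (cm hwa) (ad hA) (C.π_L _) (C.π_L _)
  · exact commute_sep S C hm lw lc s2 (cm hwc) (ad hC) (C.π_L _) hc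

include S in
theorem special_top (hm : 1 ≤ m) {a b : Γ} {s u : K} (ha : C.π a = gc S 10 s) (hb : C.π b = gc S 11 u) :
    Commute a b := by
  obtain ⟨g, hg⟩ : ∃ g : GF K m, (g : GL chevF4.Idx K) = nO 0 := ⟨⟨nO 0, nO_mem S (by norm_num)⟩, rfl⟩
  obtain ⟨γ, hγ⟩ := C.surj g
  have mv : ∀ z ∈ ([(1, 10), (2, 11)] : List (ℕ × ℕ)), ∀ x : K, g * gc S z.1 x * g⁻¹ = gc S z.2 x := by
    intro z hz x
    obtain ⟨h1, h2⟩ := move_ok z hz
    refine Subtype.ext ?_
    show (g : GL chevF4.Idx K) * (gc S z.1 x : GL chevF4.Idx K) * (g : GL chevF4.Idx K)⁻¹ = _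
    rw [hg, ← (ev_val S x x z.1).1, ← evW_trim, nO_word 0 _ _ h1, eqv_sound h2, (ev_val S x x z.2).1]
  have h : Commute (C.L (gc S 1 s)) (C.L (gc S 2 u)) :=
    special_low S C hm (x := (1, 0, 4, 3, 2)) (by simp) (C.π_L _) (C.π_L _)
  refine C.commute_indep (a' := γ * C.L (gc S 1 s) * γ⁻¹) (b' := γ * C.L (gc S 2 u) * γ⁻¹) ?_ ?_
    (h.map (MulAut.conj γ).toMonoidHom)
  · rw [map_mul, map_mul, map_inv, hγ, C.π_L, mv (1, 10) (by simp), ha]
  · rw [map_mul, map_mul, map_inv, hγ, C.π_L, mv (2, 11) (by simp), hb]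

include S in
theorem series (hm : 1 ≤ m) : Series C (gs S) (tor S) (fun i p => chr S (ord i) p) 12 where
  tor_comm := tor_comm S
  conj := fun i hi p x => conj_gc S (ord_lt i hi) p x
  add := fun i hi x y => add_mem' S hi x y
  comm := fun i hi j hj x y => comm_mem S hi hj x y
  pairs := fun i hi j hj => by
    rcases sep_ok ⟨i, hi⟩ ⟨j, hj.trans hi⟩ hj with h | h
    · obtain ⟨c, hc⟩ := exists_move S hm
      obtain ⟨p, hp1, hp2⟩ := sep S (ord_lt i hi) (ord_lt j (hj.trans hi)) h c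
      exact Or.inl ⟨p, hp1, by rw [hp2]; exact hc⟩
    · refine Or.inr fun a b x y ha hb => ?_
      simp only [oddPairs, List.mem_cons, Prod.mk.injEq, List.not_mem_nil, or_false] at h
      rw [gs] at ha hb
      rcases h with ⟨h1, h2⟩ | ⟨h1, h2⟩ | ⟨h1, h2⟩ | ⟨h1, h2⟩ <;> rw [h1] at ha <;> rw [h2] at hb
      · exact special_low S C hm (x := (1, 0, 4, 3, 2)) (by simp) ha hb
      · exact special_low S C hm (x := (4, 3, 7, 6, 5)) (by simp) ha hb
      · exact special_low S C hm (x := (7, 9, 4, 6, 8)) (by simp) ha hb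
      · exact special_top S C hm ha hb
  onto := fun i hi c => by
    obtain ⟨j, hj⟩ := onto_ok ⟨i, hi⟩
    obtain ⟨p, -, hp⟩ := sep S (ord_lt j j.2) (ord_lt i hi) hj c
    exact ⟨p, hp⟩

include S in
theorem Usub_card : IsPGroup 2 ↥((chevF4.posUnipotent K).subgroupOf (twistedF4 K (2 ^ m))) ∧
    ¬ 2 ∣ ((chevF4.posUnipotent K).subgroupOf (twistedF4 K (2 ^ m))).index := by
  have hu := S.data.card_U
  change Nat.card ↥(chevF4.posUnipotent K ⊓ twistedF4 K (2 ^ m)) ^ 2 =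
    (2 ^ (2 * m + 1)) ^ (chevF4.nroots / 2) at hu
  rw [show chevF4.nroots / 2 = 12 * 2 from rfl, pow_mul _ 12 2] at hu
  have hu' := Nat.pow_left_injective two_ne_zero hu
  have e : Nat.card ↥((chevF4.posUnipotent K).subgroupOf (twistedF4 K (2 ^ m))) = (2 ^ (2 * m + 1)) ^ 12 := by
    rw [← Subgroup.inf_subgroupOf_right, Nat.card_congr
      (Subgroup.subgroupOfEquivOfLe (inf_le_right : chevF4.posUnipotent K ⊓ twistedF4 K (2 ^ m) ≤ _)).toEquiv, hu']
  refine ⟨IsPGroup.of_card (n := (2 * m + 1) * 12) (by rw [e, ← pow_mul]), fun h => ?_⟩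
  have hc := Subgroup.card_mul_index ((chevF4.posUnipotent K).subgroupOf (twistedF4 K (2 ^ m)))
  rw [e, S.card_group] at hc
  generalize hQ : 2 ^ (2 * m + 1) = Q at hc
  have hQ0 : 0 < Q := hQ ▸ Nat.two_pow_pos _
  have hQe : Even Q := hQ ▸ (Nat.even_pow' (by omega)).2 even_two
  rw [mul_assoc, mul_assoc, mul_assoc] at hc
  have hidx := Nat.eq_of_mul_eq_mul_left (pow_pos hQ0 12) hc
  rw [hidx, ← even_iff_two_dvd] at h
  have h1 : ¬ Even (Q - 1) := by
    rw [Nat.even_sub (by omega)]; simp [hQe]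
  have h4 : ¬ Even (Q ^ 4 - 1) := by
    rw [Nat.even_sub (Nat.one_le_pow _ _ hQ0)]; simp [Nat.even_pow' (by norm_num : 4 ≠ 0), hQe]
  simp [Nat.even_mul, Nat.even_add, Nat.even_pow' (by norm_num : 3 ≠ 0), Nat.even_pow' (by norm_num : 6 ≠ 0),
    hQe, h1, h4] at h

include S in
/-- The kernel of a stem extension has odd order. -/
theorem not_dvd_ker [Finite Γ] (hm : 1 ≤ m) (hσ : Cfsg.IsStemExtension C.π) : ¬ 2 ∣ Nat.card C.π.ker := by
  haveI : Fact (Nat.Prime 2) := ⟨Nat.prime_two⟩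
  obtain ⟨hU, hidx⟩ := Usub_card S
  haveI : Finite (GF K m) := Finite.of_surjective _ C.surj
  refine Cfsg.Agent.Solv.SplitBNStem.not_dvd_card_ker C.π hσ _ hU hidx ?_
  refine commutator_inf_ker (series S C hm) CharTwo.two_eq_zero ?_ (U_le S)
  rw [← Nat.card_eq_fintype_card, S.hK]
  calc 4 < 2 ^ 3 := by norm_num
    _ ≤ _ := Nat.pow_le_pow_right (by norm_num) (by omega)

end Cfsg.Agent.Lie.TwistMult.F4
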