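import Cfsg.Agent.Lib.Lie.TwistMult.F4Roots
import Cfsg.Agent.Lib.Lie.TwistMult.F4Sylow

/-!
Stem extensions of ²F₄(q) have trivial kernel.
-/

set_option autoImplicit false
set_option maxRecDepth 4000
set_option linter.unusedSectionVars false

namespace Cfsg.Agent.Lie.TwistMult.F4

open Cfsg.Lie Cfsg.Agent.Lie Matrix
open Cfsg.Agent.Lie.F4 (Setup Os)
open Cfsg.Agent.Lie.F4.Setup (cP)
open Cfsg.Agent.Small.C2Inv.F4
open Cfsg.Agent.Lie.TwistMult.D4 (dgS ant_up_eq lo_eq upS_zero')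
open Cfsg.Agent.Solv.SplitBN16
open Cfsg.Agent.Solv.SplitBNStem (IsP Data lift_unique lift_exists conj_range exists_sl2Lift exists_section)
open scoped MatrixGroups

variable {K : Type*} [Field K] [Fintype K] [CharP K 2] {m : ℕ} (S : Setup K m)

/-- The root group of a reflection. -/
noncomputable def Xg (K : Type*) [Field K] (m : ℕ) (e : Bool) : Subgroup (GF K m) :=
  ((factsF4.tsys K).US (rootsOf e)).subgroupOf (twistedF4 K (2 ^ m))

theorem closedA (S : Setup K m) : ClosedList chevF4 [24, 33] := by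
  obtain ⟨ω, hω, hω'⟩ := List.mem_map.1 (Cfsg.Agent.Lie.F4.orbLs ▸ (by simp) :
    [24, 33] ∈ Os.map fun ω => orbL chevF4 (ω.map Fin.val))
  exact hω' ▸ S.closed hω

theorem Xg_A {x : GF K m} (hx : x ∈ Xg K m true) : ∃ s, x = phA S (upS s) := by
  obtain ⟨s, e⟩ := S.fix_pair (closedA S) hx (S.le_fix x.2)
  exact ⟨s, Subtype.ext (e.trans (phP_up S s).symm)⟩

theorem Xg_B {x : GF K m} (hx : x ∈ Xg K m false) : ∃ a v, x = xW S a v := exists_xW S hx

theorem mem_Xg_A (s : K) : phA S (upS s) ∈ Xg K m true := by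
  show phP S (upS s) ∈ (factsF4.tsys K).US [24, 33]
  rw [phP_up]
  exact CommSys.US_mono _ (fun r hr => by simp at hr ⊢; omega) (CommSys.prodOver_mem _ [33, 24] _)

theorem mem_Xg_B (a v : K) : xW S a v ∈ Xg K m false := S.w4F_mem_US a v

theorem Xg_norm {e : Bool} {h x : GF K m} (hh : h ∈ Hsub K m) (hx : x ∈ Xg K m e) : h * x * h⁻¹ ∈ Xg K m e :=
  torus_US (mem_Hsub.1 hh) (fun r hr => (rootsOf_lt e r hr).2) hx

theorem nw_conj_H (ω : List (Fin chevF4.rank)) {g : GF K m} {c : GL chevF4.Idx K} (hc : c ∈ (factsF4.tsys K).H)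
    (hg : (g : GL chevF4.Idx K) = c * (factsF4.tsys K).nw ω) {h : GF K m} (hh : h ∈ Hsub K m) :
    g * h * g⁻¹ ∈ Hsub K m := by
  rw [mem_Hsub] at hh ⊢
  show (g : GL chevF4.Idx K) * (h : GL chevF4.Idx K) * (g : GL chevF4.Idx K)⁻¹ ∈ _
  rw [hg, show c * (factsF4.tsys K).nw ω * (h : GL chevF4.Idx K) * (c * (factsF4.tsys K).nw ω)⁻¹ =
    c * ((factsF4.tsys K).nw ω * (h : GL chevF4.Idx K) * ((factsF4.tsys K).nw ω)⁻¹) * c⁻¹ by group]
  exact mul_mem (mul_mem hc ((factsF4.tsys K).nw_H ω hh)) (inv_mem hc)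

section Lift

variable {Γ : Type*} [Group Γ] [Finite Γ] (σ : Γ →* GF K m)

/-- The rank one lifts. -/
structure Lifts where
  ψA : Matrix.SpecialLinearGroup (Fin 2) K →* Γ
  nB : Γ
  hA : (∀ g, σ (ψA g) = phA S g) ∧ (∀ t, IsP 2 (ψA (upS t))) ∧ ∀ t, IsP 2 (ψA (loS t))
  nB_mem : nB ∈ RB S σ
  nB_eq : ∃ h ∈ Hsub K m, σ nB = h * n0 S

variable {S σ}

/-- The lifted rank one subgroups. -/
noncomputable def Lifts.R (L : Lifts S σ) : Bool → Subgroup Γ
  | true => L.ψA.range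
  | false => RB S σ

/-- The lifted reflections. -/
def Lifts.n (L : Lifts S σ) : Bool → Γ
  | true => L.ψA antS
  | false => L.nB

theorem Lifts.coe_n (L : Lifts S σ) (e : Bool) :
    ∃ c ∈ (factsF4.tsys K).H, (σ (L.n e) : GL chevF4.Idx K) = c * (factsF4.tsys K).nw (nodeOf e) := by
  cases e
  · obtain ⟨h, hh, e⟩ := L.nB_eq
    refine ⟨h, mem_Hsub.1 hh, ?_⟩
    show (σ L.nB : GL chevF4.Idx K) = _
    rw [e, Subgroup.coe_mul]
    show _ * nO 1 = _ * (factsF4.tsys K).nw ωB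
    rw [nO, ωB_tab.1]
  · exact ⟨1, one_mem _, by show (σ (L.ψA antS) : GL chevF4.Idx K) = _; rw [L.hA.1, coe_phA_ant, one_mul]; rfl⟩

theorem Lifts.coe_word (L : Lifts S σ) (w : List Bool) :
    ∃ c ∈ (factsF4.tsys K).H, (σ (w.map L.n).prod : GL chevF4.Idx K) = c * (factsF4.tsys K).nw (wd w) := by
  induction w with
  | nil => exact ⟨1, one_mem _, by rw [List.map_nil, List.prod_nil, map_one, one_mul]; rfl⟩
  | cons e w ih =>
    obtain ⟨c, hc, e1⟩ := L.coe_n e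
    obtain ⟨d, hd, e2⟩ := ih
    refine ⟨c * ((factsF4.tsys K).nw (nodeOf e) * d * ((factsF4.tsys K).nw (nodeOf e))⁻¹),
      mul_mem hc ((factsF4.tsys K).nw_H _ hd), ?_⟩
    rw [List.map_cons, List.prod_cons, map_mul, Subgroup.coe_mul, e1, e2,
      show wd (e :: w) = nodeOf e ++ wd w from rfl, TorusSys.nw_append]
    group

theorem Lifts.same_word (L : Lifts S σ) {w w' : List Bool}
    (h : wKey chevF4 ((wd w).map Fin.val) = wKey chevF4 ((wd w').map Fin.val)) :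
    σ ((w.map L.n).prod * ((w'.map L.n).prod)⁻¹) ∈ Hsub K m := by
  obtain ⟨c, hc, e⟩ := L.coe_word w
  obtain ⟨c', hc', e'⟩ := L.coe_word w'
  rw [mem_Hsub, map_mul, map_inv, Subgroup.coe_mul, InvMemClass.coe_inv, e, e', _root_.mul_inv_rev, mul_assoc,
    ← mul_assoc ((factsF4.tsys K).nw _)]
  exact mul_mem hc (mul_mem (nw_same h) (inv_mem hc'))

variable (hc : σ.ker ≤ Subgroup.center Γ) (hp' : ¬ 2 ∣ Nat.card σ.ker) (hs : Function.Surjective σ) (hm : 1 ≤ m)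

include hc hp' hs hm in
theorem Lifts.twoTori (L : Lifts S σ) : TwoTori σ (Hsub K m) L.R L.n := by
  haveI : Fact (Nat.Prime 2) := ⟨Nat.prime_two⟩
  have hbw : bw L.n = (wB.map L.n).prod := by simp [bw, wB, mul_assoc]
  have hbH : σ (bw L.n * L.n false * (bw L.n)⁻¹ * (L.n false)⁻¹) ∈ Hsub K m := by
    convert L.same_word braid16_tab.1 using 2
    rw [List.map_append, List.map_append, List.prod_append, List.prod_append, hbw]
    simp [mul_assoc]
  refine ⟨fun e => ?_, fun e => ?_, fun a ha b hb => H_comm S ha hb, fun e g hg h => ?_, fun e g hg a ha => ?_,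
    fun e a ha => ?_, fun a ha b hb hH hH' hab => ?_, fun a ha => ?_, hbH⟩
  · cases e
    · exact L.nB_mem
    · exact ⟨_, rfl⟩
  · have := L.same_word (w' := []) (sq_tab e)
    simpa using this
  · cases e
    · exact RB_inj S σ hs hc hp' hm hg h
    · obtain ⟨x, rfl⟩ := hg
      have hx : x = 1 := phA_inj S (by rw [← L.hA.1, h, map_one])
      rw [hx, map_one]
  · cases e
    · refine RB_norm S σ hc hp' (fun b w => ?_) a ha
      obtain ⟨b1, w1, e1⟩ := H_xW S hg b w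
      obtain ⟨b2, w2, e2⟩ := H_qW S hg b w
      exact ⟨⟨b1, w1, Or.inl e1⟩, b2, w2, Or.inr e2⟩
    · have hup : ∀ h ∈ Hsub K m, ∀ t, ∃ t', h * phA S (upS t) * h⁻¹ = phA S (upS t') := fun h hh t =>
        Xg_A S (Xg_norm hh (mem_Xg_A S t))
      refine conj_range hc hp' L.hA L.hA (fun t => ?_) (fun t => ?_) a ha
      · obtain ⟨t', h⟩ := hup _ hg t; exact ⟨t', Or.inl h⟩
      · obtain ⟨v, hv⟩ := hup _ hg (-t)
        have hn : ∀ k ∈ Hsub K m, phA S antS * k * (phA S antS)⁻¹ ∈ Hsub K m ∧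
            (phA S antS)⁻¹ * k * phA S antS ∈ Hsub K m := fun k hk => by
          rw [mem_Hsub] at hk ⊢
          rw [mem_Hsub]
          refine ⟨?_, ?_⟩
          · show (phA S antS : GL chevF4.Idx K) * _ * (phA S antS : GL chevF4.Idx K)⁻¹ ∈ _
            rw [coe_phA_ant]; exact (factsF4.tsys K).nw_H ωA hk
          · show (phA S antS : GL chevF4.Idx K)⁻¹ * _ * (phA S antS : GL chevF4.Idx K) ∈ _
            rw [coe_phA_ant]; exact (factsF4.tsys K).nw_H' ωA hk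
        obtain ⟨w, hw⟩ := hup _ (hn _ (mul_mem hg (inv_mem (hn _ hg).1))).2 v
        refine ⟨-w, Or.inr ?_⟩
        rw [lo_eq, lo_eq, map_mul, map_mul, map_inv, map_mul, map_mul, map_inv, neg_neg, ← hw, ← hv]
        group
  · obtain ⟨c, hcH, e1⟩ := L.coe_n e
    exact nw_conj_H _ hcH e1 ha
  · obtain ⟨x, rfl⟩ := ha
    rw [L.hA.1] at hH hab ⊢
    obtain ⟨e, rfl⟩ := phA_H S hH
    rw [phA_dg] at hab ⊢
    have he : tor S (e, 1) ∈ Msub S := by
      rw [eq_inv_of_mul_eq_one_left hab]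
      exact inv_mem (RB_map S σ hb)
    rw [tor_meet S he, tor_one]
  · obtain ⟨c, hcH, e1⟩ := L.coe_word wB
    rw [← hbw] at e1
    obtain ⟨h0, hh0, eB⟩ := L.nB_eq
    obtain ⟨g, hg⟩ : ∃ g, g = σ (bw L.n) := ⟨_, rfl⟩
    rw [← hg] at e1
    have hX : ∀ b w, ∃ b' w', g * xW S b w * g⁻¹ = xW S b' w' := fun b w => by
      refine exists_xW S ?_
      show (g : GL chevF4.Idx K) * (xW S b w : GL chevF4.Idx K) * (g : GL chevF4.Idx K)⁻¹ ∈ _
      rw [e1, show c * (factsF4.tsys K).nw (wd wB) * (xW S b w : GL chevF4.Idx K) *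
        (c * (factsF4.tsys K).nw (wd wB))⁻¹ = c * ((factsF4.tsys K).nw (wd wB) * (xW S b w : GL chevF4.Idx K) *
          ((factsF4.tsys K).nw (wd wB))⁻¹) * c⁻¹ by group]
      exact torus_US hcH (L := rootsOf false) (fun r hr => (rootsOf_lt _ r hr).2)
        (nw_US _ (L := rootsOf false) (fun r hr => (rootsOf_lt _ r hr).2) braid16_tab.2 (mem_Xg_B S b w))
    obtain ⟨k, hk, ek⟩ : ∃ k ∈ Hsub K m, g * n0 S * g⁻¹ = k * n0 S := by
      refine ⟨g * h0⁻¹ * g⁻¹ * (g * σ (L.n false) * g⁻¹ * (σ (L.n false))⁻¹) * h0, ?_, ?_⟩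
      · refine mul_mem (mul_mem (nw_conj_H _ hcH e1 (inv_mem hh0)) ?_) hh0
        have := hbH
        rw [map_mul, map_mul, map_mul, map_inv, map_inv, ← hg] at this
        exact this
      · show _ = g * h0⁻¹ * g⁻¹ * (g * σ L.nB * g⁻¹ * (σ L.nB)⁻¹) * h0 * n0 S
        rw [eB]; group
    refine RB_norm S σ hc hp' (fun b w => ?_) a ha
    rw [← hg]
    obtain ⟨b', w', e2⟩ := hX b w
    obtain ⟨b'', w'', e3⟩ := H_qW S hk b' w'
    refine ⟨⟨b', w', Or.inl e2⟩, b'', w'', Or.inr ?_⟩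
    rw [← e3, qW_eq, qW_eq, ← e2,
      show g * (n0 S * xW S b w * (n0 S)⁻¹) * g⁻¹ = g * n0 S * g⁻¹ * (g * xW S b w * g⁻¹) * (g * n0 S * g⁻¹)⁻¹ by
        group, ek]
    group

end Lift

/-- The unipotent subgroup. -/
noncomputable def Usub (K : Type*) [Field K] (m : ℕ) : Subgroup (GF K m) :=
  (chevF4.posUnipotent K).subgroupOf (twistedF4 K (2 ^ m))

theorem gen_top (S : Setup K m) (T : Subgroup (GF K m)) (hA : ∀ t, phA S (upS t) ∈ T)
    (hA' : ∀ t, phA S (loS t) ∈ T) (hB : ∀ a v, xW S a v ∈ T) (hB' : ∀ a v, qW S a v ∈ T) : T = ⊤ := by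
  have hle : twistedF4 K (2 ^ m) ≤ T.map (twistedF4 K (2 ^ m)).subtype := by
    refine (Subgroup.closure_le _).2 ?_
    rintro g ⟨w, hw, hg⟩
    rw [show g = factsF4.wg w from Units.ext (by rw [hg, factsF4.coe_wg])]
    rcases hw with ⟨t, rfl | rfl⟩ | ⟨t, u, rfl | rfl⟩
    · refine ⟨_, hA t, (phP_up S t).trans ?_⟩
      simp [f4PairWord, f4p1, f4p4, Facts.wg, CommSys.prodOver, Facts.sys_x, cP]
    · refine ⟨_, hA' t, (phP_lo S t).trans ?_⟩
      simp [f4PairWord, f4m1, f4m4, Facts.wg, CommSys.prodOver, Facts.sys_x, cP]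
    · refine ⟨_, hB t u, ?_⟩
      show S.w4F 27 25 28 30 t u = _
      simp [b2ClassWord, f4a, f4b, f4ab, f4aab, Facts.wg, Lie.F4.Setup.w4F, Facts.w4, mul_assoc]
    · refine ⟨_, hB' t u, ?_⟩
      show S.w4F 20 22 19 17 t u = _
      simp [b2ClassWord, f4ma, f4mb, f4mab, f4maab, Facts.wg, Lie.F4.Setup.w4F, Facts.w4, mul_assoc]
  rw [eq_top_iff]
  intro g _
  obtain ⟨g', hg', he⟩ := hle g.2
  obtain rfl : g' = g := Subtype.ext he
  exact hg'

theorem split_U (S : Setup K m) (e : Bool) {u : GF K m} (hu : u ∈ Usub K m) :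
    ∃ u' ∈ Usub K m, ∃ x ∈ Xg K m e, u = u' * x ∧
      (u' : GL chevF4.Idx K) ∈ (factsF4.tsys K).US (restOf e) := by
  obtain ⟨l, hl, e1⟩ := exists_El S (u := (u : GL chevF4.Idx K)) (by rw [factsF4.tsys_U]; exact hu) (S.le_fix u.2)
  obtain ⟨tE, tO, tO', a1, a2, a3, a4, b1, b2, b3, b4⟩ := El_tab
  have mE : ∀ d (s : K) (L : List ℕ), (sE d).1 ∈ L → (sE d).2 ∈ L → E m d s ∈ (factsF4.tsys K).US L :=
    fun d s L h1 h2 => mul_mem (mem_US_X h1 _) (mem_US_X h2 _)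
  have mO : ∀ d (s v : K) (L : List ℕ), (sO d).1 ∈ L → (sO d).2.1 ∈ L → (sO d).2.2.1 ∈ L → (sO d).2.2.2 ∈ L →
      O m d s v ∈ (factsF4.tsys K).US L :=
    fun d s v L h1 h2 h3 h4 => mul_mem (mul_mem (mul_mem (mem_US_X h1 _) (mem_US_X h2 _)) (mem_US_X h3 _)) (mem_US_X h4 _)
  have oe := fun d hd s => mE d s (restOf true) (tE d hd).1 (tE d hd).2.1
  have oe' := fun d hd s => mE d s (restOf false) (tE d hd).2.2.1 (tE d hd).2.2.2
  have oo' := fun d hd s v => mO d s v (restOf false) (tO d hd).1 (tO d hd).2.1 (tO d hd).2.2.1 (tO d hd).2.2.2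
  have oo := fun d hd s v => mO d s v (restOf true) (tO' d hd).1 (tO' d hd).2.1 (tO' d hd).2.2.1 (tO' d hd).2.2.2
  suffices h : ∃ g x : GF K m, (g : GL chevF4.Idx K) ∈ (factsF4.tsys K).US (restOf e) ∧ x ∈ Xg K m e ∧ u = g * x by
    obtain ⟨g, x, hg, hx, e2⟩ := h
    exact ⟨g, US_pos (restOf_lt e) hg, x, hx, e2, hg⟩
  cases e
  · obtain ⟨x, hx⟩ : ∃ x : GF K m, (x : GL chevF4.Idx K) = O m 7 (l.getD 10 0) (l.getD 11 0) :=
      ⟨⟨_, (O_mem S 7 _ _).2⟩, rfl⟩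
    have hxX : (x : GL chevF4.Idx K) ∈ (factsF4.tsys K).US (rootsOf false) :=
      hx ▸ mO 7 _ _ _ b1 b2 b3 b4
    refine ⟨u * x⁻¹, x, ?_, hxX, by group⟩
    have e3 : ((u * x⁻¹ : GF K m) : GL chevF4.Idx K) =
        (x : GL chevF4.Idx K) * ((x : GL chevF4.Idx K)⁻¹ * El m l) * (x : GL chevF4.Idx K)⁻¹ := by
      rw [Subgroup.coe_mul, InvMemClass.coe_inv, e1]; group
    rw [e3]
    refine rest_norm hxX ?_
    rw [hx, El]
    simp only [mul_assoc, inv_mul_cancel_left]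
    exact mul_mem (oe' 6 (by simp) _) (mul_mem (oo' 5 (by simp) _ _) (mul_mem (oe' 4 (by simp) _)
      (mul_mem (oo' 3 (by simp) _ _) (mul_mem (oe' 2 (by simp) _) (mul_mem (oo' 1 (by simp) _ _)
        (mE 0 _ _ a3 a4))))))
  · obtain ⟨x, hx⟩ : ∃ x : GF K m, (x : GL chevF4.Idx K) = E m 0 (l.getD 0 0) := ⟨⟨_, (E_mem S 0 _).2⟩, rfl⟩
    refine ⟨u * x⁻¹, x, ?_, (show (x : GL chevF4.Idx K) ∈ (factsF4.tsys K).US (rootsOf true) from hx ▸ mE 0 _ _ a1 a2),
      by group⟩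
    rw [Subgroup.coe_mul, InvMemClass.coe_inv, e1, hx, El, mul_inv_cancel_right]
    exact mul_mem (mul_mem (mul_mem (mul_mem (mul_mem (mul_mem (oo 7 (by simp) _ _) (oe 6 (by simp) _))
      (oo 5 (by simp) _ _)) (oe 4 (by simp) _)) (oo 3 (by simp) _ _)) (oe 2 (by simp) _)) (oo 1 (by simp) _ _)

theorem exists_nB {Γ : Type*} [Group Γ] [Finite Γ] {σ : Γ →* GF K m} (hs : Function.Surjective σ)
    (hc : σ.ker ≤ Subgroup.center Γ) (hp' : ¬ 2 ∣ Nat.card σ.ker) :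
    ∃ n ∈ RB S σ, ∃ h ∈ Hsub K m, σ n = h * n0 S := by
  have hne : qW S 0 1 ≠ 1 := fun h => by
    rw [qW_eq, conj_eq_one_iff] at h
    obtain ⟨-, h01⟩ := blkHom_mX_inj S (a := 0) (v := 1) (a' := 0) (v' := 0)
      (congrArg (blkHom S) (Subtype.ext (h.trans (xW_zero S).symm)))
    exact one_ne_zero h01
  obtain ⟨p, r, h0, hh0, e⟩ := rank_one S hne
  obtain ⟨⟨x, hx, ex, -⟩, -⟩ := RB_lift S σ hs hc hp' p.1 p.2
  obtain ⟨⟨z, hz, ez, -⟩, -⟩ := RB_lift S σ hs hc hp' r.1 r.2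
  obtain ⟨-, ⟨y, hy, ey, -⟩⟩ := RB_lift S σ hs hc hp' (0 : K) 1
  refine ⟨x⁻¹ * y * z⁻¹, mul_mem (mul_mem (inv_mem hx) hy) (inv_mem hz), h0, hh0, ?_⟩
  rw [map_mul, map_mul, map_inv, map_inv, ex, ey, ez, e]
  group

theorem ker_eq_bot {Γ : Type*} [Group Γ] [Finite Γ] (S : Setup K m) (hm : 1 ≤ m) (σ : Γ →* GF K m)
    (hσ : Cfsg.IsStemExtension σ) : σ.ker = ⊥ := by
  haveI : Fact (Nat.Prime 2) := ⟨Nat.prime_two⟩
  obtain ⟨hUp, -⟩ := Usub_card S
  obtain ⟨hs, hc, hd⟩ := hσ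
  have hp' : ¬ 2 ∣ Nat.card σ.ker := not_dvd_ker S ⟨σ, hs, hc⟩ hm ⟨hs, hc, hd⟩
  obtain ⟨s, hsec⟩ := exists_section σ hs hc hp' (Usub K m) hUp
  obtain ⟨ψA, hψA⟩ := exists_sl2Lift hs hc hp' (by exact_mod_cast S.h2) (phA S)
  obtain ⟨nB, hnB, hnB'⟩ := exists_nB S hs hc hp'
  let L : Lifts S σ := ⟨ψA, nB, hψA, hnB, hnB'⟩
  have T := L.twoTori hc hp' hs hm
  have hTH : ∀ x ∈ Tor σ (Hsub K m) L.R, σ x ∈ Hsub K m := fun x hx => Tor_le_comap (σ := σ) hx
  have hword : ∀ w ∈ words16, ∀ h : Γ, σ h ∈ Hsub K m → σ (h * (w.map L.n).prod) ∈ Usub K m → w = [] := by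
    intro w hw h hh hu
    refine word_tab w hw (nw_B (K := K) ?_)
    obtain ⟨c, hcH, e⟩ := L.coe_word w
    have hB : (σ (h * (w.map L.n).prod) : GL chevF4.Idx K) ∈ (factsF4.tsys K).B :=
      (factsF4.tsys K).U_le_B (by rw [factsF4.tsys_U]; exact hu)
    rw [map_mul, Subgroup.coe_mul, e, ← mul_assoc] at hB
    exact (Subgroup.mul_mem_cancel_left _ ((factsF4.tsys K).H_le_B (mul_mem (mem_Hsub.1 hh) hcH))).1 hB
  have hXU : ∀ e, Xg K m e ≤ Usub K m := fun e x hx => US_pos (rootsOf_lt e) hx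
  refine Data.ker_eq_bot σ (s := s) (Ht := Tor σ (Hsub K m) L.R)
    (Nt := Subgroup.closure (Set.range L.n ∪ (Tor σ (Hsub K m) L.R : Set Γ))) (n := L.n) (X := Xg K m)
    { σs := fun u => (hsec u).1
      conj_s := fun g u v h => lift_unique σ hc hp' (by simp [(hsec u).1, (hsec v).1, h]) ((hsec u).2.conj g) (hsec v).2
      X_le := hXU
      n_mem := fun e => Subgroup.subset_closure (Or.inl ⟨e, rfl⟩)
      H_le := fun x hx => Subgroup.subset_closure (Or.inr hx)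
      H_norm := ?_
      split := ?_
      side := ?_
      rank_one := ?_
      disj := ?_
      gen := ?_
      Nt_gen := le_rfl } hc hd
  · intro g hg u hu
    have hl : ∀ r ∈ Facts.posL chevF4, 24 ≤ r ∧ r < 48 := fun r hr => by
      rw [posL_eq, List.mem_range'_1] at hr; omega
    refine US_pos hl (torus_US (mem_Hsub.1 (hTH g hg)) (fun r hr => (hl r hr).2) ?_)
    show (u : GL chevF4.Idx K) ∈ (factsF4.tsys K).U
    rw [factsF4.tsys_U]; exact hu
  · intro e u hu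
    obtain ⟨u', hu', x, hx, e1, h1⟩ := split_U S e hu
    refine ⟨u', hu', x, hx, e1, ?_⟩
    obtain ⟨c, hcH, e2⟩ := L.coe_n e
    show (σ (L.n e) : GL chevF4.Idx K) * (u' : GL chevF4.Idx K) * (σ (L.n e) : GL chevF4.Idx K)⁻¹ ∈
      chevF4.posUnipotent K
    rw [e2, show c * (factsF4.tsys K).nw (nodeOf e) * (u' : GL chevF4.Idx K) *
      (c * (factsF4.tsys K).nw (nodeOf e))⁻¹ = c * ((factsF4.tsys K).nw (nodeOf e) * (u' : GL chevF4.Idx K) *
        ((factsF4.tsys K).nw (nodeOf e))⁻¹) * c⁻¹ by group]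
    refine US_pos (L := List.range' 24 24) (fun r hr => by rw [List.mem_range'_1] at hr; omega)
      (torus_US hcH (fun r hr => by rw [List.mem_range'_1] at hr; omega)
        (nw_US _ (fun r hr => (restOf_lt e r hr).2) (fun r hr => ?_) h1))
    rw [List.mem_range'_1]
    exact ⟨rest_moved e r hr, actL_lt _ (restOf_lt e r hr).2⟩
  · intro e g hg
    obtain ⟨h, hh, w, hw, rfl⟩ := T.normal_form hg
    have hhH := hTH h hh
    have key : ∀ w' : List Bool, posBack w' e = true → ∀ k ∈ Hsub K m, ∀ x ∈ Xg K m e,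
        (k * σ (w'.map L.n).prod)⁻¹ * x * (k * σ (w'.map L.n).prod) ∈ Usub K m := by
      intro w' h1 k hk x hx
      obtain ⟨c, hcH, e1⟩ := L.coe_word w'
      show ((k : GL chevF4.Idx K) * (σ (w'.map L.n).prod : GL chevF4.Idx K))⁻¹ * (x : GL chevF4.Idx K) *
        ((k : GL chevF4.Idx K) * (σ (w'.map L.n).prod : GL chevF4.Idx K)) ∈ chevF4.posUnipotent K
      rw [e1, show ((k : GL chevF4.Idx K) * (c * (factsF4.tsys K).nw (wd w')))⁻¹ * (x : GL chevF4.Idx K) *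
          ((k : GL chevF4.Idx K) * (c * (factsF4.tsys K).nw (wd w'))) = ((factsF4.tsys K).nw (wd w'))⁻¹ *
            (((k : GL chevF4.Idx K) * c)⁻¹ * (x : GL chevF4.Idx K) * ((k : GL chevF4.Idx K) * c)⁻¹⁻¹) *
              (factsF4.tsys K).nw (wd w') by group]
      exact back_U h1 (torus_US (inv_mem (mul_mem (mem_Hsub.1 hk) hcH)) (fun r hr => (rootsOf_lt e r hr).2) hx)
    rcases side_ok w hw e with h1 | h1
    · refine Or.inl fun x hx => ?_
      rw [map_mul]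
      exact key w h1 _ hhH x hx
    · refine Or.inr fun x hx => ?_
      rw [show σ (L.n e) * σ (h * (w.map L.n).prod) = σ (L.n e) * σ h * (σ (L.n e))⁻¹ * σ ((e :: w).map L.n).prod by
        rw [List.map_cons, List.prod_cons, map_mul, map_mul]; group]
      exact key _ h1 _ (T.nH e _ hhH) x hx
  · intro e x hx hne
    cases e
    · obtain ⟨a, v, ha⟩ := Xg_B S hx
      obtain ⟨hn, hhn, eB⟩ := L.nB_eq
      obtain ⟨b, w, e1⟩ := H_qW S hhn a v
      have hq : qW S b w ≠ 1 := fun h => hne (Subtype.ext (by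
        rw [← e1, conj_eq_one_iff, qW_eq, conj_eq_one_iff, ← ha] at h
        exact h))
      obtain ⟨p, r, h0, hh0, e2⟩ := rank_one S hq
      obtain ⟨x1, hx1⟩ : ∃ x1 : Usub K m, (x1 : GF K m) = xW S p.1 p.2 := ⟨⟨_, hXU false (mem_Xg_B S _ _)⟩, rfl⟩
      obtain ⟨x2, hx2⟩ : ∃ x2 : Usub K m, (x2 : GF K m) = xW S r.1 r.2 := ⟨⟨_, hXU false (mem_Xg_B S _ _)⟩, rfl⟩
      have hsR : ∀ (y : Usub K m) (a v : K), (y : GF K m) = xW S a v → s y ∈ RB S σ := fun y a v hy =>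
        Subgroup.subset_closure ⟨(hsec y).2, a, v, Or.inl (by rw [(hsec y).1, hy])⟩
      refine ⟨x1, x2, (s x1)⁻¹ * (L.n false * s x * (L.n false)⁻¹) * (s x2)⁻¹ * (L.n false)⁻¹, ?_,
        hx2 ▸ mem_Xg_B S _ _, by group⟩
      refine part_le_Tor false ⟨?_, ?_⟩
      · show _ ∈ RB S σ
        exact mul_mem (mul_mem (mul_mem (inv_mem (hsR _ _ _ hx1))
          (mul_mem (mul_mem L.nB_mem (hsR _ _ _ ha)) (inv_mem L.nB_mem))) (inv_mem (hsR _ _ _ hx2))) (inv_mem L.nB_mem)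
      · show σ _ ∈ Hsub K m
        show σ ((s x1)⁻¹ * (L.nB * s x * L.nB⁻¹) * (s x2)⁻¹ * L.nB⁻¹) ∈ Hsub K m
        simp only [map_mul, map_inv, (hsec _).1, eB, ha, hx1, hx2]
        rw [show (xW S p.1 p.2)⁻¹ * (hn * n0 S * xW S a v * (hn * n0 S)⁻¹) * (xW S r.1 r.2)⁻¹ * (hn * n0 S)⁻¹ =
          h0 * hn⁻¹ by
          rw [show hn * n0 S * xW S a v * (hn * n0 S)⁻¹ = hn * qW S a v * hn⁻¹ by rw [qW_eq]; group, e1, e2]
          group]
        exact mul_mem hh0 (inv_mem hhn)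
    · obtain ⟨t, hxt⟩ := Xg_A S hx
      have hst : s x = ψA (upS t) :=
        lift_unique σ hc hp' (by rw [(hsec x).1, hψA.1, hxt]) (hsec x).2 (hψA.2.1 t)
      have ht : t ≠ 0 := by
        rintro rfl
        exact hne (Subtype.ext (hxt.trans (by rw [upS_zero', map_one, Subgroup.coe_one])))
      obtain ⟨x1, hx1⟩ : ∃ x1 : Usub K m, (x1 : GF K m) = phA S (upS (-t⁻¹)) :=
        ⟨⟨_, hXU true (mem_Xg_A S _)⟩, rfl⟩
      have hs1 : s x1 = ψA (upS (-t⁻¹)) :=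
        lift_unique σ hc hp' (by rw [(hsec x1).1, hψA.1, hx1]) (hsec x1).2 (hψA.2.1 _)
      refine ⟨x1, x1, ψA (dgS (Units.mk0 t ht)⁻¹), part_le_Tor true ⟨⟨_, rfl⟩, ?_⟩, hx1 ▸ mem_Xg_A S _, ?_⟩
      · show σ (ψA _) ∈ Hsub K m
        rw [hψA.1, phA_dg]
        exact tor_mem S _
      · show ψA antS * s x * (ψA antS)⁻¹ = s x1 * ψA _ * ψA antS * s x1
        rw [hst, hs1, ← map_inv, ← map_mul, ← map_mul, ← map_mul, ← map_mul, ← map_mul]
        congr 1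
        have := ant_up_eq (Units.mk0 t ht)
        simpa using this
  · intro g hg hgU
    obtain ⟨h, hh, w, hw, rfl⟩ := T.normal_form hg
    obtain rfl := hword w hw h (hTH h hh) hgU
    rw [List.map_nil, List.prod_nil, mul_one] at hgU ⊢
    refine T.Tor_inj hh (Subtype.ext ?_)
    exact factsF4.U_inter_H (by rw [factsF4.tsys_U]; exact hgU) (mem_Hsub.1 (hTH h hh))
  · obtain ⟨V, hV⟩ : ∃ V, V = Subgroup.closure ((Usub K m : Set (GF K m)) ∪
        σ '' (Subgroup.closure (Set.range L.n ∪ (Tor σ (Hsub K m) L.R : Set Γ)) : Set Γ)) := ⟨_, rfl⟩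
    rw [← hV]
    have hu : ∀ e, Xg K m e ≤ V := fun e x hx => hV ▸ Subgroup.subset_closure (Or.inl (hXU e hx))
    have hn : ∀ e, σ (L.n e) ∈ V := fun e => hV ▸ Subgroup.subset_closure
      (Or.inr ⟨_, Subgroup.subset_closure (Or.inl ⟨e, rfl⟩), rfl⟩)
    refine gen_top S V (fun t => hu true (mem_Xg_A S t)) (fun t => ?_) (fun a v => hu false (mem_Xg_B S a v))
      (fun a v => ?_)
    · rw [lo_eq, map_mul, map_mul, map_inv, ← hψA.1]
      exact mul_mem (mul_mem (hn true) (hu true (mem_Xg_A S _))) (inv_mem (hn true))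
    · obtain ⟨h, hh, eB⟩ := L.nB_eq
      obtain ⟨b, w, e1⟩ := H_qW S (inv_mem hh) a v
      have e3 : h * qW S b w * h⁻¹ = qW S a v := by rw [← e1]; group
      have e2 : qW S a v = σ L.nB * xW S b w * (σ L.nB)⁻¹ := by
        rw [eB, ← e3, qW_eq S b w]; group
      rw [e2]
      exact mul_mem (mul_mem (hn false) (hu false (mem_Xg_B S _ _))) (inv_mem (hn false))

end Cfsg.Agent.Lie.TwistMult.F4
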