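import Cfsg.Agent.Lib.Lie.TwistMult.F4Suz
import Cfsg.Agent.Lib.Lie.TwistMult.D4Lift

/-!
The rank one subgroup of type A₁ of ²F₄(q) and the separation of the two tori.
-/

set_option autoImplicit false
set_option maxRecDepth 4000
set_option linter.unusedSectionVars false

namespace Cfsg.Agent.Lie.TwistMult.F4

open Cfsg.Lie Cfsg.Agent.Lie Matrix
open Cfsg.Agent.Lie.F4 (Setup Os torChar_eval)
open Cfsg.Agent.Lie.F4.Setup (cP)
open Cfsg.Agent.Small.C2Inv.F4
open Cfsg.Agent.Small.AltSec.D4 (commute_gens mem_of_gens map_upS map_loS map_antS)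
open Cfsg.Agent.Lie.TwistMult.D4 (dgS dgS_eq sl_cases map_dgS dgS_one upS_zero')
open scoped MatrixGroups

/-- The nodes of the pair. -/
def ωA : List (Fin chevF4.rank) := fnodes chevF4 [0, 3]

theorem ωA_tab : orbWord chevF4 Os [0] = ωA ∧ chevF4.simple 0 = 33 ∧ chevF4.simple 3 = 24 ∧
    chevF4.neg 33 = 14 ∧ chevF4.neg 24 = 23 ∧ okComm2 chevF4 [33, 24] = true := by decide +kernel

variable {K : Type*} [Field K] [Fintype K]

/-- The rank one subgroup of a node. -/
noncomputable def phiN (i : ℕ) (hi : i < chevF4.rank) :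
    Matrix.SpecialLinearGroup (Fin 2) K →* GL chevF4.Idx K :=
  (factsF4.rankOneRel_simple (F := K) i hi).hom

theorem phiN_up (i : ℕ) (hi : i < chevF4.rank) (t : K) :
    phiN i hi (upS t) = factsF4.xg (chevF4.simple i) t := by
  rw [phiN, RankOneRel.hom_up]

theorem phiN_lo (i : ℕ) (hi : i < chevF4.rank) (t : K) :
    phiN i hi (loS t) = factsF4.xg (chevF4.neg (chevF4.simple i)) t := by
  rw [phiN, RankOneRel.hom_lo]

theorem phiN_ant (i : Fin chevF4.rank) :
    phiN (K := K) i.val i.isLt antS = (factsF4.tsys K).nS i := by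
  rw [Cfsg.Agent.Small.D4Torus.antS_eq, map_mul, map_mul, phiN_up, phiN_lo, factsF4.tsys_nS, factsF4.ng_eq,
    inv_one]

theorem phiN_dg (i : Fin chevF4.rank) (e : Kˣ) :
    phiN i.val i.isLt (dgS e) = torus chevF4 K (Pi.mulSingle i e) := by
  rw [dgS_eq, map_mul, map_inv, map_mul, map_mul, map_mul, map_mul, phiN_up, phiN_up, phiN_lo, phiN_lo,
    factsF4.torus_single, factsF4.hg_eq, factsF4.ng_eq, factsF4.ng_eq]
  simp only [inv_one, Units.val_inv_eq_inv_val]
  rw [_root_.mul_inv_rev, _root_.mul_inv_rev]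
  have hn : ∀ r (t : K), (factsF4.xg r t)⁻¹ = factsF4.xg r (-t) := fun r t =>
    inv_eq_of_mul_eq_one_right (by rw [← factsF4.xg_add, add_neg_cancel, factsF4.xg_zero])
  simp only [hn, inv_neg, inv_one, neg_neg, mul_assoc]

theorem phiN_commute (g g' : Matrix.SpecialLinearGroup (Fin 2) K) :
    Commute (phiN 3 (by decide +kernel) g) (phiN 0 (by decide +kernel) g') := by
  obtain ⟨-, a, b, c, d, hk⟩ := ωA_tab
  have key : ∀ r r', (r = 24 ∨ r = chevF4.neg 24) → (r' = 33 ∨ r' = chevF4.neg 33) → ∀ x y : K,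
      Commute (factsF4.xg r x) (factsF4.xg r' y) := fun r r' h h' x y =>
    factsF4.xg_commute2 hk (r := 24) (s := 33) (by simp) (by simp) (by decide) h h' x y
  refine commute_gens _ _ (fun s t => ?_) (fun s t => ?_) (fun s t => ?_) (fun s t => ?_) g g' <;>
    simp only [phiN_up, phiN_lo, a, b] <;> exact key _ _ (by simp [c, d]) (by simp [c, d]) _ _

variable [CharP K 2] {m : ℕ} (S : Setup K m)

/-- The product over the two nodes. -/
noncomputable def phP : Matrix.SpecialLinearGroup (Fin 2) K →* GL chevF4.Idx K :=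
  MonoidHom.mk' (fun g => phiN 0 (by decide +kernel) (Matrix.SpecialLinearGroup.map S.T.fr g) *
      phiN 3 (by decide +kernel) g)
    fun g h => by
      simp only [map_mul, mul_assoc]
      congr 1
      rw [← mul_assoc, ← mul_assoc, (phiN_commute g _).eq, mul_assoc]

theorem phP_up (t : K) : phP S (upS t) = (factsF4.sys K).prodOver [33, 24] (cP m t) := by
  obtain ⟨-, a, b, -, -, -⟩ := ωA_tab
  show phiN 0 _ _ * phiN 3 _ _ = _
  rw [map_upS, phiN_up, phiN_up, a, b, S.hfr]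
  simp [CommSys.prodOver, Facts.sys_x, cP]

theorem phP_lo (t : K) : phP S (loS t) = (factsF4.sys K).prodOver [14, 23] (cP m t) := by
  obtain ⟨-, a, b, c, d, -⟩ := ωA_tab
  show phiN 0 _ _ * phiN 3 _ _ = _
  rw [map_loS, phiN_lo, phiN_lo, a, b, c, d, S.hfr]
  simp [CommSys.prodOver, Facts.sys_x, cP]

/-- The rank one homomorphism of the pair. -/
noncomputable def phA : Matrix.SpecialLinearGroup (Fin 2) K →* GF K m :=
  (phP S).codRestrict _ (mem_of_gens _
    (fun t => by rw [phP_up]; exact S.pair_mem (by simp) t)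
    (fun t => by rw [phP_lo]; exact S.pair_mem (by simp) t))

theorem phA_up (t : K) : phA S (upS t) = gc S 0 (t ^ 2 ^ m) := by
  refine Subtype.ext ((phP_up S t).trans ?_)
  show _ = El m (sgl 0 0 (t ^ 2 ^ m))
  simp [El, E, O, sgl, List.range_succ, ph, sE, CommSys.prodOver, Facts.sys_x, cP, (S.pow_twist t).1,
    factsF4.xg_zero, zero_pow, X]

theorem gc0_eq (x : K) : gc S 0 x = phA S (upS (x ^ (2 * 2 ^ m))) := by
  rw [phA_up, (S.pow_twist x).2]

theorem phA_dg (e : Kˣ) : phA S (dgS e) = tor S (e, 1) := by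
  refine Subtype.ext ?_
  show phiN 0 _ _ * phiN 3 _ _ = torus chevF4 K (S.crd e 1)
  rw [map_dgS]
  refine Eq.trans (congrArg₂ (· * ·) (phiN_dg (0 : Fin chevF4.rank) _) (phiN_dg (3 : Fin chevF4.rank) _)) ?_
  rw [← map_mul]
  congr 1
  rw [show Units.map S.T.fr.toMonoidHom e = e ^ 2 ^ m from Units.ext (by simp [S.hfr])]
  funext j
  match j with
  | ⟨0, _⟩ => show e ^ 2 ^ m * 1 = e ^ 2 ^ m; simp
  | ⟨1, _⟩ => show 1 * 1 = (1 : Kˣ) ^ 2 ^ m; simp
  | ⟨2, _⟩ => show 1 * 1 = (1 : Kˣ); simp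
  | ⟨3, _⟩ => show 1 * e = e; simp

theorem coe_phA_ant : (phA S antS : GL chevF4.Idx K) = (factsF4.tsys K).nw ωA := by
  show phiN 0 _ _ * phiN 3 _ _ = _
  rw [map_antS, show ωA = [(0 : Fin chevF4.rank), 3] by decide +kernel, TorusSys.nw_cons, TorusSys.nw_singleton]
  exact congrArg₂ (· * ·) (phiN_ant (0 : Fin chevF4.rank)) (phiN_ant (3 : Fin chevF4.rank))

theorem nw_B {ω : List (Fin chevF4.rank)} (h : (factsF4.tsys K).nw ω ∈ (factsF4.tsys K).B) :
    wKey chevF4 (ω.map Fin.val) = wKey chevF4 [] := by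
  obtain ⟨g, hg, he⟩ := (factsF4.tsys K).nw_eq (ω := ω) rfl
  obtain ⟨g1, hg1, he1⟩ := (factsF4.tsys K).nw_eq (ω := []) rfl
  rw [TorusSys.nw_nil] at he1
  obtain ⟨hw, -, -⟩ := factsF4.bruhat_unique (F := K) (w := factsF4.refSys.pr ω) (v := factsF4.refSys.pr [])
    ((factsF4.tsys K).H_le_B hg) (mul_mem h ((factsF4.tsys K).H_le_B hg1))
    (one_mem _) (one_mem _) (by rw [mul_one, mul_one, ← he, mul_assoc, ← he1, mul_one])
  exact factsF4.key_eq (ω' := []) hw

theorem ωA_key : wKey chevF4 (ωA.map Fin.val) ≠ wKey chevF4 [] := by decide +kernel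

theorem gc_mem_U (k : ℕ) (x : K) : (gc S k x : GL chevF4.Idx K) ∈ (factsF4.tsys K).U := (El_mem S _).1

theorem tor_mem (p : Kˣ × Kˣ) : tor S p ∈ Hsub K m := by
  rw [mem_Hsub]
  exact factsF4.tsys_H (F := K) ▸ (show torus chevF4 K _ ∈ chevF4.diagonalSubgroup K by
    rw [factsF4.diagonalSubgroup_eq]; exact ⟨_, rfl⟩)

theorem phA_H {g : Matrix.SpecialLinearGroup (Fin 2) K} (h : phA S g ∈ Hsub K m) : ∃ e, g = dgS e := by
  rw [mem_Hsub] at h
  have hdg : ∀ e, (phA S (dgS e) : GL chevF4.Idx K) ∈ (factsF4.tsys K).H := fun e => by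
    rw [phA_dg]; exact mem_Hsub.1 (tor_mem S _)
  have hup : ∀ x, (phA S (upS x) : GL chevF4.Idx K) ∈ (factsF4.tsys K).U := fun x => by
    rw [phA_up]; exact gc_mem_U S 0 _
  rcases sl_cases g with ⟨e, x, rfl⟩ | ⟨a, e, b, rfl⟩
  · refine ⟨e, ?_⟩
    rw [map_mul, Subgroup.coe_mul] at h
    have h1 := factsF4.U_inter_H (hup x) ((Subgroup.mul_mem_cancel_left _ (hdg e)).1 h)
    rw [phA_up] at h1
    have h0 : El m (sgl 0 0 (x ^ 2 ^ m)) = El m (List.replicate 12 (0 : K)) := by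
      refine (h1.trans ?_)
      simp [El, E, O, ph, factsF4.xg_zero, zero_pow, X]
    have := El_inj S (by simp [sgl]) (by simp) h0
    have hx : x = 0 := by
      have h2 := congrArg (fun l => l.getD 0 0) this
      simpa [sgl, List.range_succ] using h2
    rw [hx, upS_zero', mul_one]
  · exfalso
    rw [map_mul, map_mul, map_mul, Subgroup.coe_mul, Subgroup.coe_mul, Subgroup.coe_mul] at h
    have hB : ∀ x ∈ (factsF4.tsys K).U, x ∈ (factsF4.tsys K).B := fun x hx => (factsF4.tsys K).U_le_B hx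
    have hn : (phA S antS : GL chevF4.Idx K) ∈ (factsF4.tsys K).B := by
      refine (Subgroup.mul_mem_cancel_left _ (mul_mem (hB _ (hup a)) ((factsF4.tsys K).H_le_B (hdg e)))).1 ?_
      exact (Subgroup.mul_mem_cancel_right _ (hB _ (hup b))).1 ((factsF4.tsys K).H_le_B h)
    rw [coe_phA_ant] at hn
    exact ωA_key (nw_B hn)

theorem tor_one : tor S (1, 1) = 1 := by
  refine Subtype.ext ?_
  show torus chevF4 K (S.crd 1 1) = 1
  rw [show S.crd 1 1 = 1 from ?_, map_one]
  funext j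
  match j with
  | ⟨0, _⟩ => exact one_pow _
  | ⟨1, _⟩ => exact one_pow _
  | ⟨2, _⟩ => rfl
  | ⟨3, _⟩ => rfl

theorem tor_inj {p p' : Kˣ × Kˣ} (h : tor S p = tor S p') : p = p' := by
  have e := factsF4.torus_injective (F := K) kerCertF4 (congrArg Subtype.val h)
  exact Prod.ext (congrFun e 3) (congrFun e 2)

theorem phA_inj : Function.Injective (phA S) := by
  rw [injective_iff_map_eq_one]
  intro g hg
  obtain ⟨e, rfl⟩ := phA_H S (g := g) (by rw [hg]; exact one_mem _)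
  rw [phA_dg, ← tor_one S] at hg
  rw [show e = 1 from congrArg Prod.fst (tor_inj S hg), dgS_one]

open Cfsg.Agent.Lie.Suzuki in
theorem form_t (m : ℕ) (a b : K) :
    (tMat m a b)ᵀ * (wM K : Matrix (Fin 4) (Fin 4) K) * tMat m a b = (wM K : Matrix (Fin 4) (Fin 4) K) := by
  have h2 : (2 : K) = 0 := CharTwo.two_eq_zero
  ext i j
  fin_cases i <;> fin_cases j <;> simp [tMat, wM, fv, Matrix.mul_apply, Fin.sum_univ_four, Matrix.transpose_apply]
  all_goals ring_nf
  all_goals simp [h2, show (4 : K) = 0 by linear_combination (2 : K) * h2]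

open Cfsg.Agent.Lie.Suzuki in
theorem form_M {g : ↥(Msub S)} :
    (blkHom S g : Matrix (Fin 4) (Fin 4) K)ᵀ * (wM K : Matrix (Fin 4) (Fin 4) K) *
      (blkHom S g : Matrix (Fin 4) (Fin 4) K) = (wM K : Matrix (Fin 4) (Fin 4) K) := by
  obtain ⟨J, hJ⟩ : ∃ J, J = (wM K : Matrix (Fin 4) (Fin 4) K) := ⟨_, rfl⟩
  have hJJ : J * J = 1 := hJ ▸ congrArg Subtype.val wM_mul_self
  have hJT : Jᵀ = J := by
    rw [hJ]; ext i j; fin_cases i <;> fin_cases j <;> simp [wM]
  have hw : Jᵀ * J * J = J := by rw [mul_assoc, hJJ, mul_one, hJT]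
  have hmul : ∀ A B : Matrix (Fin 4) (Fin 4) K, Aᵀ * J * A = J → Bᵀ * J * B = J → (A * B)ᵀ * J * (A * B) = J := by
    intro A B hA hB
    rw [Matrix.transpose_mul, show Bᵀ * Aᵀ * J * (A * B) = Bᵀ * (Aᵀ * J * A) * B by simp only [mul_assoc], hA, hB]
  rw [← hJ]
  obtain ⟨g, hg⟩ := g
  revert hg
  suffices h : ∀ g ∈ Msub S, (blkMat ((g : GL chevF4.Idx K) : Matrix chevF4.Idx chevF4.Idx K))ᵀ * J *
      blkMat ((g : GL chevF4.Idx K) : Matrix chevF4.Idx chevF4.Idx K) = J by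
    intro hg; exact h g hg
  intro g hg
  rw [Msub, ← Subgroup.mem_toSubmonoid, Subgroup.closure_toSubmonoid_of_finite] at hg
  induction hg using Submonoid.closure_induction with
  | mem x hx =>
    obtain ⟨a, v, rfl | rfl⟩ := hx
    · rw [(blk_xW S a v).2.1]; exact hJ ▸ form_t m _ _
    · rw [(blk_xW S a v).2.2.2, ← hJ]
      exact hmul _ _ (hmul _ _ hw (hJ ▸ form_t m _ _)) hw
  | one => rw [Subgroup.coe_one, Units.val_one, blkMat_one, Matrix.transpose_one, one_mul, mul_one]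
  | mul x y hx hy ihx ihy =>
    rw [Subgroup.coe_mul, Units.val_mul, blkMat_mul (keeps_M S (by
      rw [Msub, ← Subgroup.mem_toSubmonoid, Subgroup.closure_toSubmonoid_of_finite]; exact hx))]
    exact hmul _ _ ihx ihy

theorem blk_wt : wList chevF4 37 = [0, 1, 0, -1] ∧ wList chevF4 33 = [2, -1, 0, 0] ∧ (blkRoot 0).val = 37 ∧
    (blkRoot 3).val = 33 := by decide +kernel

include S in
open Cfsg.Agent.Lie.Suzuki in
/-- The rank one subgroup meets the torus of the pair trivially. -/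
theorem tor_meet {e : Kˣ} (h : tor S (e, 1) ∈ Msub S) : e = 1 := by
  obtain ⟨w37, w33, r0, r3⟩ := blk_wt
  have hf := form_M S (g := ⟨_, h⟩)
  rw [coe_blkHom] at hf
  have hd : blkMat ((tor S (e, 1) : GL chevF4.Idx K) : Matrix chevF4.Idx chevF4.Idx K) =
      Matrix.diagonal fun i => (torChar chevF4 (S.crd e 1) (blkRoot i).val : K) := by
    show blkMat ((torus chevF4 K (S.crd e 1) : GL chevF4.Idx K) : Matrix chevF4.Idx chevF4.Idx K) = _
    rw [coe_torus]
    exact Matrix.submatrix_diagonal _ _ blk_inj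
  rw [hd] at hf
  have h03 := congrFun (congrFun hf 0) 3
  simp [wM, Matrix.mul_apply, Fin.sum_univ_four, Matrix.diagonal] at h03
  rw [r0, r3, ← Units.val_mul, Units.val_eq_one, torChar_eval _ (by norm_num) w37,
    torChar_eval _ (by norm_num) w33] at h03
  simp [Lie.F4.Setup.crd] at h03
  rw [← pow_mul, inv_mul_eq_one] at h03
  obtain ⟨θ, hθ⟩ : ∃ θ, θ = 2 ^ m := ⟨_, rfl⟩
  rw [← hθ] at h03
  have hp : (e ^ (θ * 2)) ^ θ = e := Units.ext (by
    rw [Units.val_pow_eq_pow_val, Units.val_pow_eq_pow_val, hθ, mul_comm]; exact (S.pow_twist (e : K)).2)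
  rw [← h03] at hp
  have h2 : e * e = e := by
    calc e * e = e ^ θ * e ^ θ := by rw [hp]
      _ = e := by rw [← pow_add, ← mul_two, ← h03]
  exact mul_eq_left.1 h2

end Cfsg.Agent.Lie.TwistMult.F4
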