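import Cfsg.Agent.Lib.Lie.TwistMult.F4RankA
import Cfsg.Agent.Lib.Solv.SplitBNTwo16

/-!
The root groups of the two orbits of ²F₄(q) under the twisted Weyl group.
-/

set_option autoImplicit false
set_option maxRecDepth 4000
set_option linter.unusedSectionVars false

namespace Cfsg.Agent.Lie.TwistMult.F4

open Cfsg.Lie Cfsg.Agent.Lie Matrix
open Cfsg.Agent.Lie.F4 (Setup Os)
open Cfsg.Agent.Lie.F4.Setup (cP)
open Cfsg.Agent.Small.C2Inv.F4
open scoped MatrixGroups

/-- The nodes of a reflection. -/
def nodeOf : Bool → List (Fin chevF4.rank)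
  | true => ωA
  | false => ωB

/-- The nodes of a word in the reflections. -/
def wd (w : List Bool) : List (Fin chevF4.rank) := w.flatMap nodeOf

/-- The roots of the root group of a reflection. -/
def rootsOf : Bool → List ℕ
  | true => [24, 33]
  | false => [25, 27, 28, 30]

/-- The positive roots outside the orbit of a reflection. -/
def restOf (e : Bool) : List ℕ := (List.range' 24 24).filter fun r => !(rootsOf e).contains r

theorem rootsOf_lt : ∀ e, ∀ r ∈ rootsOf e, 24 ≤ r ∧ r < 48 := by decide +kernel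

theorem restOf_lt : ∀ e, ∀ r ∈ restOf e, 24 ≤ r ∧ r < 48 := by decide +kernel

theorem rest_moved : ∀ e, ∀ r ∈ restOf e, 24 ≤ actL (nodeOf e) r := by decide +kernel

theorem rest_tab : ∀ r ∈ rootsOf false, ∀ s ∈ restOf false, s ≠ chevF4.neg r ∧
    ∀ c ∈ chevF4.commTerms r s, c.1 ∈ restOf false := by decide +kernel

theorem El_tab : (∀ d ∈ [2, 4, 6], (sE d).1 ∈ restOf true ∧ (sE d).2 ∈ restOf true ∧
      (sE d).1 ∈ restOf false ∧ (sE d).2 ∈ restOf false) ∧
    (∀ d ∈ [1, 3, 5], (sO d).1 ∈ restOf false ∧ (sO d).2.1 ∈ restOf false ∧ (sO d).2.2.1 ∈ restOf false ∧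
      (sO d).2.2.2 ∈ restOf false) ∧
    (∀ d ∈ [1, 3, 5, 7], (sO d).1 ∈ restOf true ∧ (sO d).2.1 ∈ restOf true ∧ (sO d).2.2.1 ∈ restOf true ∧
      (sO d).2.2.2 ∈ restOf true) ∧
    (sE 0).1 ∈ rootsOf true ∧ (sE 0).2 ∈ rootsOf true ∧ (sE 0).1 ∈ restOf false ∧ (sE 0).2 ∈ restOf false ∧
    (sO 7).1 ∈ rootsOf false ∧ (sO 7).2.1 ∈ rootsOf false ∧ (sO 7).2.2.1 ∈ rootsOf false ∧
      (sO 7).2.2.2 ∈ rootsOf false := by decide +kernel

/-- Roots moved into the positive ones by the inverse of a word. -/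
def posBack (w : List Bool) (e : Bool) : Bool :=
  (rootsOf e).all fun r => (List.range' 24 24).any fun s => actL (wd w) s == r

open Cfsg.Agent.Solv.SplitBN16 (words16) in
theorem side_ok : ∀ w ∈ words16, ∀ e, posBack w e = true ∨ posBack (e :: w) e = true := by decide +kernel

/-- The word conjugating the middle orbit to itself. -/
def wB : List Bool := [true, false, true, false, true, false, true]

theorem braid16_tab :
    wKey chevF4 ((wd (wB ++ [false])).map Fin.val) = wKey chevF4 ((wd ([false] ++ wB)).map Fin.val) ∧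
    ∀ r ∈ rootsOf false, actL (wd wB) r ∈ rootsOf false := by decide +kernel

open Cfsg.Agent.Solv.SplitBN16 (words16) in
theorem word_tab : ∀ w ∈ words16, wKey chevF4 ((wd w).map Fin.val) = wKey chevF4 [] → w = [] := by decide +kernel

theorem sq_tab : ∀ e, wKey chevF4 ((wd [e, e]).map Fin.val) =
    wKey chevF4 (([] : List (Fin chevF4.rank)).map Fin.val) := by decide +kernel

variable {K : Type*} [Field K]

theorem posL_eq : Facts.posL chevF4 = List.range' 24 24 := by decide +kernel

theorem mem_US_X {L : List ℕ} {r : ℕ} (h : r ∈ L) (t : K) : X r t ∈ (factsF4.tsys K).US L :=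
  CommSys.x_mem_US _ h t

theorem US_pos {L : List ℕ} (h : ∀ r ∈ L, 24 ≤ r ∧ r < 48) {g : GL chevF4.Idx K} (hg : g ∈ (factsF4.tsys K).US L) :
    g ∈ chevF4.posUnipotent K := by
  rw [← factsF4.tsys_U]
  exact CommSys.US_mono _ (fun r hr => Facts.mem_posL.2 (show chevF4.nroots / 2 ≤ r ∧ r < chevF4.nroots from h r hr)) hg

/-- A torus element normalises every subgroup spanned by root groups. -/
theorem torus_US {c : GL chevF4.Idx K} (hc : c ∈ (factsF4.tsys K).H) {L : List ℕ} (hL : ∀ r ∈ L, r < 48)
    {g : GL chevF4.Idx K} (hg : g ∈ (factsF4.tsys K).US L) : c * g * c⁻¹ ∈ (factsF4.tsys K).US L := by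
  rw [factsF4.tsys_H, factsF4.diagonalSubgroup_eq] at hc
  obtain ⟨z, rfl⟩ := hc
  have hle : (factsF4.tsys K).US L ≤ ((factsF4.tsys K).US L).comap (MulAut.conj (torus chevF4 K z)).toMonoidHom :=
    CommSys.US_le (factsF4.tsys K).toCommSys fun r hr t => by
      show torus chevF4 K z * factsF4.xg r t * (torus chevF4 K z)⁻¹ ∈ (factsF4.tsys K).US L
      rw [factsF4.torus_conj _ (show r < chevF4.nroots from hL r hr)]
      exact mem_US_X hr _
  exact hle hg

variable [CharP K 2]

/-- The action of a word on the subgroups spanned by root groups. -/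
theorem nw_US (ω : List (Fin chevF4.rank)) {L L' : List ℕ} (hL : ∀ r ∈ L, r < 48) (h : ∀ r ∈ L, actL ω r ∈ L')
    {g : GL chevF4.Idx K} (hg : g ∈ (factsF4.tsys K).US L) :
    (factsF4.tsys K).nw ω * g * ((factsF4.tsys K).nw ω)⁻¹ ∈ (factsF4.tsys K).US L' := by
  have hle : (factsF4.tsys K).US L ≤
      ((factsF4.tsys K).US L').comap (MulAut.conj ((factsF4.tsys K).nw ω)).toMonoidHom :=
    CommSys.US_le (factsF4.tsys K).toCommSys fun r hr t => by
      show (factsF4.tsys K).nw ω * X r t * ((factsF4.tsys K).nw ω)⁻¹ ∈ (factsF4.tsys K).US L'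
      rw [nw_X ω (hL r hr)]
      exact mem_US_X (h r hr) _
  exact hle hg

theorem back_U {w : List Bool} {e : Bool} (h : posBack w e = true) {g : GL chevF4.Idx K}
    (hg : g ∈ (factsF4.tsys K).US (rootsOf e)) :
    ((factsF4.tsys K).nw (wd w))⁻¹ * g * (factsF4.tsys K).nw (wd w) ∈ chevF4.posUnipotent K := by
  simp only [posBack, List.all_eq_true, List.any_eq_true, beq_iff_eq] at h
  have hle : (factsF4.tsys K).US (rootsOf e) ≤
      (chevF4.posUnipotent K).comap (MulAut.conj ((factsF4.tsys K).nw (wd w))⁻¹).toMonoidHom :=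
    CommSys.US_le (factsF4.tsys K).toCommSys fun r hr t => by
      obtain ⟨s, hs, hsr⟩ := h r hr
      rw [List.mem_range'_1] at hs
      show ((factsF4.tsys K).nw (wd w))⁻¹ * X r t * ((factsF4.tsys K).nw (wd w))⁻¹⁻¹ ∈ chevF4.posUnipotent K
      rw [← hsr, ← nw_X (wd w) (by omega : s < 48) t]
      refine US_pos (L := [s]) (fun i hi => by simp at hi; omega) ?_
      convert mem_US_X (K := K) (L := [s]) (List.mem_singleton_self s) t using 1
      group
  have := hle hg
  simpa using this

variable [Fintype K]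

/-- The middle orbit normalises the span of the other positive root groups. -/
theorem rest_norm {g x : GL chevF4.Idx K} (hx : x ∈ (factsF4.tsys K).US (rootsOf false))
    (hg : g ∈ (factsF4.tsys K).US (restOf false)) : x * g * x⁻¹ ∈ (factsF4.tsys K).US (restOf false) := by
  revert g
  induction hx using Subgroup.closure_induction with
  | mem y hy =>
    intro g hg
    obtain ⟨r, hr, t, rfl⟩ := hy
    have h1 := CommSys.conj_mem_US (factsF4.tsys K).toCommSys (r := r) (L := restOf false)
      (show r < chevF4.nroots from (rootsOf_lt _ r hr).2)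
      (fun s hs => ⟨(restOf_lt _ s hs).2, (rest_tab r hr s hs).1, fun _ c hc => (rest_tab r hr s hs).2 c hc⟩) (-t) hg
    rwa [(factsF4.tsys K).x_neg, inv_inv] at h1
  | one => intro g hg; simpa using hg
  | mul a b _ _ iha ihb =>
    intro g hg
    have := iha (ihb hg)
    simpa [mul_assoc] using this
  | inv a ha ih =>
    intro g hg
    have e : a⁻¹ = a ^ (orderOf a - 1) := by
      rw [eq_comm, eq_inv_iff_mul_eq_one, ← pow_succ,
        Nat.sub_add_cancel (orderOf_pos a), pow_orderOf_eq_one]
    rw [e]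
    have hp : ∀ n : ℕ, a ^ n * g * (a ^ n)⁻¹ ∈ (factsF4.tsys K).US (restOf false) := by
      intro n
      induction n with
      | zero => simpa using hg
      | succ n ihn => simpa [pow_succ', mul_assoc] using ih ihn
    exact hp _

end Cfsg.Agent.Lie.TwistMult.F4
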