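import Cfsg.Agent.Lib.Small.SuzukiMult

/-!
Stem extensions of the Suzuki groups with kernel of odd order are trivial, and two opposite translation groups
generate.
-/

set_option autoImplicit false

namespace Cfsg.Agent.Lie.TwistMult

open Cfsg.Agent.Lie.Suzuki
open scoped commutatorElement

variable {F : Type*} [Field F] [Fintype F] {m : ℕ} (hF : Fintype.card F = 2 ^ (2 * m + 1)) (hm : 1 ≤ m)

include hm

theorem sz_stem_odd {Γ : Type*} [Group Γ] [Finite Γ] (σ : Γ →* Cfsg.Sz F m) (hσ : Cfsg.IsStemExtension σ)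
    (hodd : ¬ 2 ∣ Nat.card σ.ker) (hF : Fintype.card F = 2 ^ (2 * m + 1)) : σ.ker = ⊥ := by
  classical
  obtain ⟨-, hc, -⟩ := id hσ
  refine Cfsg.Agent.Solv.StemLocal.ker_eq_bot σ hσ fun p hp R x hx hσx => ?_
  haveI : Fact p.Prime := ⟨hp⟩
  have hx' : (x : Γ) ∈ ⁅(R : Subgroup Γ), (R : Subgroup Γ)⁆ := by
    rw [← Subgroup.map_subtype_commutator]; exact ⟨x, hx, rfl⟩
  refine Subtype.ext ?_
  show (x : Γ) = 1
  rcases eq_or_ne p 2 with rfl | hp2
  · obtain ⟨k, hk⟩ := R.2 x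
    have h1 : orderOf (x : Γ) ∣ 2 ^ k := orderOf_dvd_of_pow_eq_one (congrArg Subtype.val hk)
    have h2 : orderOf (x : Γ) ∣ Nat.card σ.ker :=
      Subgroup.orderOf_coe (⟨_, hσx⟩ : σ.ker) ▸ orderOf_dvd_natCard _
    exact orderOf_eq_one_iff.1 (Nat.eq_one_of_dvd_coprimes
      ((Nat.prime_two.coprime_iff_not_dvd.2 hodd).pow_left k) h1 h2)
  · obtain ⟨Q, hQ⟩ := (R.2.map σ).exists_le_sylow
    haveI := sylow_cyclic hF (by omega) hp2 Q
    haveI : IsCyclic ↥((R : Subgroup Γ).map σ) := Subgroup.isCyclic_of_le hQ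
    have := Cfsg.Agent.Lie.StemSylow.comm_of_cyclic_image σ hc (R : Subgroup Γ) inferInstance
    have hbot : ⁅(R : Subgroup Γ), (R : Subgroup Γ)⁆ = ⊥ := Subgroup.commutator_eq_bot_iff_le_centralizer.2
      fun a ha => Subgroup.mem_centralizer_iff.2 fun b hb => congrArg Subtype.val (this.1.1 ⟨b, hb⟩ ⟨a, ha⟩)
    rwa [hbot, Subgroup.mem_bot] at hx'

theorem sz_closure : Subgroup.closure ((uSub (m := m) hF : Set (Cfsg.Sz F m)) ∪
    (fun g => wS hF * g * wS hF) '' (uSub (m := m) hF : Set (Cfsg.Sz F m))) = ⊤ := by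
  obtain ⟨N, hN⟩ : ∃ N, N = Subgroup.closure ((uSub (m := m) hF : Set (Cfsg.Sz F m)) ∪
    (fun g => wS hF * g * wS hF) '' (uSub (m := m) hF : Set (Cfsg.Sz F m))) := ⟨_, rfl⟩
  rw [← hN]
  have hU : uSub hF ≤ N := fun x hx => hN ▸ Subgroup.subset_closure (Or.inl hx)
  have hw2 := wS_mul_self (m := m) hF
  have hconj : ∀ g : Cfsg.Sz F m,
      (∀ x ∈ ((uSub (m := m) hF : Set (Cfsg.Sz F m)) ∪
        (fun g => wS hF * g * wS hF) '' (uSub (m := m) hF : Set (Cfsg.Sz F m))), g * x * g⁻¹ ∈ N) →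
      g ∈ Subgroup.normalizer (N : Set (Cfsg.Sz F m)) := fun g h => by
    refine Subgroup.mem_normalizer_fintype fun x hx => ?_
    show g * x * g⁻¹ ∈ N
    have : N ≤ N.comap (MulAut.conj g).toMonoidHom := by
      nth_rewrite 1 [hN]
      exact (Subgroup.closure_le _).2 h
    exact this hx
  have hnU : ∀ u ∈ uSub hF, u ∈ Subgroup.normalizer (N : Set (Cfsg.Sz F m)) := fun u hu =>
    Subgroup.le_normalizer (hU hu)
  have hnw : wS hF ∈ Subgroup.normalizer (N : Set (Cfsg.Sz F m)) := hconj _ fun x hx => by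
    rcases hx with hx | ⟨y, hy, rfl⟩ <;> rw [wS_inv (m := m) hF]
    · exact hN ▸ Subgroup.subset_closure (Or.inr ⟨x, hx, rfl⟩)
    · refine hU ?_
      rw [show wS hF * (wS hF * y * wS hF) * wS hF = (wS hF * wS hF) * y * (wS hF * wS hF) by group, hw2, one_mul,
        mul_one]
      exact hy
  have hdU : ∀ (k : Fˣ), ∀ y ∈ uSub (m := m) hF, dS hF k * y * (dS hF k)⁻¹ ∈ uSub hF := by
    rintro k _ ⟨a, b, rfl⟩
    rw [dS_mul_tS hF hm, mul_inv_cancel_right]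
    exact ⟨_, _, rfl⟩
  have hwd : ∀ k : Fˣ, wS hF * dS hF k * wS hF = dS (m := m) hF k⁻¹ := fun k =>
    Subtype.ext (wM_dM_wM k)
  have hnd : ∀ k, dS hF k ∈ Subgroup.normalizer (N : Set (Cfsg.Sz F m)) := fun k => hconj _ fun x hx => by
    rcases hx with hx | ⟨y, hy, rfl⟩
    · exact hU (hdU k x hx)
    · refine hN ▸ Subgroup.subset_closure (Or.inr ⟨_, hdU k⁻¹ y hy, ?_⟩)
      show wS hF * (dS hF k⁻¹ * y * (dS hF k⁻¹)⁻¹) * wS hF = dS hF k * (wS hF * y * wS hF) * (dS hF k)⁻¹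
      have e1 : wS hF * dS hF k⁻¹ = dS (m := m) hF k * wS hF := by
        calc wS hF * dS hF k⁻¹ = wS hF * dS hF k⁻¹ * (wS hF * wS hF) := by rw [hw2, mul_one]
          _ = (wS hF * dS hF k⁻¹ * wS hF) * wS hF := by simp only [mul_assoc]
          _ = _ := by rw [hwd, inv_inv]
      have e2 : (dS (m := m) hF k⁻¹)⁻¹ * wS hF = wS hF * (dS hF k)⁻¹ := by
        rw [← map_inv, ← map_inv, inv_inv]
        calc dS hF k * wS hF = (wS hF * wS hF) * (dS hF k * wS hF) := by rw [hw2, one_mul]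
          _ = wS hF * (wS hF * dS hF k * wS hF) := by simp only [mul_assoc]
          _ = _ := by rw [hwd]
      calc wS hF * (dS hF k⁻¹ * y * (dS hF k⁻¹)⁻¹) * wS hF
          = (wS hF * dS hF k⁻¹) * y * ((dS hF k⁻¹)⁻¹ * wS hF) := by simp only [mul_assoc]
        _ = _ := by rw [e1, e2]; simp only [mul_assoc]
  have hnorm : N.Normal := Subgroup.normalizer_eq_top_iff.1 (top_le_iff.1 fun g _ => by
    rcases sz_decomp hF hm g with ⟨a, b, k, rfl⟩ | ⟨a, b, c, d, k, rfl⟩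
    · exact mul_mem (hnU _ ⟨a, b, rfl⟩) (hnd k)
    · exact mul_mem (mul_mem (hnU _ ⟨a, b, rfl⟩) hnw) (mul_mem (hnU _ ⟨c, d, rfl⟩) (hnd k)))
  haveI := sz_simple hF hm
  refine (hnorm.eq_bot_or_eq_top).resolve_left fun h => ?_
  have h1 : tS hF 1 0 ∈ N := hU ⟨1, 0, rfl⟩
  rw [h, Subgroup.mem_bot, ← tS_zero hF] at h1
  exact one_ne_zero (tM_injective (congrArg Subtype.val h1)).1

end Cfsg.Agent.Lie.TwistMult
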