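import Cfsg.Agent.Lib.Lie.TwistMult.F4Weight
import Cfsg.Agent.Lib.Lie.TwistMult.F4Block
import Cfsg.Agent.Lib.Lie.TwistMult.SzOdd
import Cfsg.Agent.Lib.Solv.SplitBNStem
import Cfsg.Agent.Lib.Lie.TwistF4S

/-!
The rank one subgroup of type ²B₂ of ²F₄(q) lifts through a central kernel of odd order.
-/

set_option autoImplicit false
set_option maxRecDepth 4000
set_option linter.unusedSectionVars false
set_option linter.style.haveILetI false

namespace Cfsg.Agent.Lie.TwistMult.F4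

open Cfsg.Lie Cfsg.Agent.Lie Matrix
open Cfsg.Agent.Lie.F4 (Setup Os b2_mem_Os)
open Cfsg.Agent.Small.C2Inv.F4
open Cfsg.Agent.Solv.SplitBNStem (IsP lift_unique lift_exists)
open scoped MatrixGroups

/-- The nodes of the middle orbit. -/
def ωB : List (Fin chevF4.rank) := fnodes chevF4 [1, 2, 1, 2]

theorem ωB_tab : orbWord chevF4 Os [1] = ωB ∧ orbL chevF4 (ωB.map Fin.val) = [25, 27, 28, 30] ∧
    Twist.negL chevF4 ωB = [22, 20, 19, 17] ∧
    actL ωB 27 = 20 ∧ actL ωB 25 = 22 ∧ actL ωB 28 = 19 ∧ actL ωB 30 = 17 ∧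
    wKey chevF4 ((ωB ++ ωB).map Fin.val) = wKey chevF4 (([] : List (Fin chevF4.rank)).map Fin.val) := by
  decide +kernel

variable {K : Type*} [Field K]

theorem nw_same {ω ω' : List (Fin chevF4.rank)}
    (h : wKey chevF4 (ω.map Fin.val) = wKey chevF4 (ω'.map Fin.val)) :
    (factsF4.tsys K).nw ω * ((factsF4.tsys K).nw ω')⁻¹ ∈ (factsF4.tsys K).H := by
  obtain ⟨g, hg, he⟩ := (factsF4.tsys K).nw_eq (ω := ω) rfl
  obtain ⟨g', hg', he'⟩ := (factsF4.tsys K).nw_eq (ω := ω') (w := factsF4.refSys.pr ω)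
    (factsF4.pr_eq_of_key h).symm
  rw [he, he', _root_.mul_inv_rev, mul_assoc, mul_inv_cancel_left]
  exact mul_mem hg (inv_mem hg')

variable [Fintype K] [CharP K 2] {m : ℕ} (S : Setup K m)

/-- The root group of the middle orbit. -/
noncomputable def xW (a v : K) : GF K m := ⟨S.w4F 27 25 28 30 a v, S.b2_mem (Or.inl ⟨rfl, rfl, rfl, rfl⟩) a v⟩

/-- The opposite root group of the middle orbit. -/
noncomputable def qW (a v : K) : GF K m := ⟨S.w4F 20 22 19 17 a v, S.b2_mem (Or.inr ⟨rfl, rfl, rfl, rfl⟩) a v⟩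

/-- The reflection of the middle orbit. -/
noncomputable def n0 : GF K m := ⟨nO 1, nO_mem S (by norm_num)⟩

/-- The torus. -/
noncomputable def Hsub (K : Type*) [Field K] (m : ℕ) : Subgroup (GF K m) :=
  (chevF4.diagonalSubgroup K).subgroupOf (twistedF4 K (2 ^ m))

theorem mem_Hsub {h : GF K m} : h ∈ Hsub K m ↔ (h : GL chevF4.Idx K) ∈ (factsF4.tsys K).H := by
  rw [factsF4.tsys_H]; rfl

include S in
theorem exists_tor {h : GF K m} (hh : h ∈ Hsub K m) : ∃ p, h = tor S p := by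
  obtain ⟨t, u, e⟩ := S.exists_crd hh (S.le_fix h.2)
  exact ⟨(t, u), Subtype.ext e⟩

include S in
theorem H_comm {a b : GF K m} (ha : a ∈ Hsub K m) (hb : b ∈ Hsub K m) : a * b = b * a := by
  obtain ⟨p, rfl⟩ := exists_tor S ha
  obtain ⟨p', rfl⟩ := exists_tor S hb
  exact tor_comm S p p'

include S in
theorem H_pow {h : GF K m} (hh : h ∈ Hsub K m) : h ^ (2 ^ (2 * m + 1) - 1) = 1 := by
  obtain ⟨⟨t, u⟩, rfl⟩ := exists_tor S hh
  refine Subtype.ext ?_
  have hk : ∀ x : Kˣ, x ^ (2 ^ (2 * m + 1) - 1) = 1 := fun x => by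
    rw [← S.hK, ← Nat.card_units]; exact pow_card_eq_one'
  show torus chevF4 K (S.crd t u) ^ (2 ^ (2 * m + 1) - 1) = 1
  rw [← map_pow, show S.crd t u ^ (2 ^ (2 * m + 1) - 1) = 1 from funext fun j => hk _, map_one]

theorem coe_qW (a v : K) : (qW S a v : GL chevF4.Idx K) = nO 1 * S.w4F 27 25 28 30 a v * (nO (K := K) 1)⁻¹ := by
  obtain ⟨hw, -, -, h27, h25, h28, h30, -⟩ := ωB_tab
  rw [nO, hw, ← MulAut.conj_apply]
  show S.w4F 20 22 19 17 a v = _
  simp only [Lie.F4.Setup.w4F, Facts.w4, map_mul, MulAut.conj_apply]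
  rw [nw_X ωB (by norm_num : 27 < 48), nw_X ωB (by norm_num : 25 < 48), nw_X ωB (by norm_num : 28 < 48),
    nw_X ωB (by norm_num : 30 < 48), h27, h25, h28, h30]

theorem qW_eq (a v : K) : qW S a v = n0 S * xW S a v * (n0 S)⁻¹ := Subtype.ext (coe_qW S a v)

theorem n0_sq : n0 S * n0 S ∈ Hsub K m := by
  obtain ⟨hw, -, -, -, -, -, -, hk⟩ := ωB_tab
  rw [mem_Hsub]
  show nO 1 * nO 1 ∈ _
  have := nw_same (K := K) hk
  rw [TorusSys.nw_append, TorusSys.nw_nil, inv_one, mul_one] at this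
  rw [nO, hw]
  exact this

theorem n0_H {h : GF K m} (hh : h ∈ Hsub K m) :
    n0 S * h * (n0 S)⁻¹ ∈ Hsub K m ∧ (n0 S)⁻¹ * h * n0 S ∈ Hsub K m := by
  rw [mem_Hsub] at hh ⊢
  rw [mem_Hsub]
  exact ⟨(factsF4.tsys K).nw_H _ hh, (factsF4.tsys K).nw_H' _ hh⟩

theorem closedB (S : Setup K m) : ClosedList chevF4 [25, 27, 28, 30] := by
  have := S.closed b2_mem_Os
  rwa [show fnodes chevF4 [1, 2, 1, 2] = ωB from rfl, ωB_tab.2.1] at this

theorem exists_xW {g : GF K m} (hg : (g : GL chevF4.Idx K) ∈ (factsF4.tsys K).US [25, 27, 28, 30]) :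
    ∃ a v, g = xW S a v := by
  obtain ⟨a, v, e⟩ := S.fix_b2 (closedB S) hg (S.le_fix g.2)
  exact ⟨a, v, Subtype.ext e⟩

theorem xW_mul (a v a' v' : K) : xW S a v * xW S a' v' = xW S (a + a') (v + v' + a ^ 2 ^ m * a') :=
  Subtype.ext (S.w4F_mul a v a' v')

theorem xW_zero : xW S 0 0 = 1 :=
  Subtype.ext (by simp [xW, Lie.F4.Setup.w4F, Facts.w4, factsF4.xg_zero, zero_pow])

theorem H_xW {h : GF K m} (hh : h ∈ Hsub K m) (a v : K) : ∃ a' v', h * xW S a v * h⁻¹ = xW S a' v' := by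
  obtain ⟨p, rfl⟩ := exists_tor S hh
  refine exists_xW S ?_
  show torus chevF4 K (S.crd p.1 p.2) * S.w4F 27 25 28 30 a v * (torus chevF4 K (S.crd p.1 p.2))⁻¹ ∈ _
  rw [← MulAut.conj_apply, Lie.F4.Setup.w4F, Facts.w4, map_mul, map_mul, map_mul]
  simp only [MulAut.conj_apply]
  rw [factsF4.torus_conj _ (by decide +kernel), factsF4.torus_conj _ (by decide +kernel),
    factsF4.torus_conj _ (by decide +kernel), factsF4.torus_conj _ (by decide +kernel)]
  exact mul_mem (mul_mem (mul_mem (CommSys.x_mem_US _ (by simp) _) (CommSys.x_mem_US _ (by simp) _))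
    (CommSys.x_mem_US _ (by simp) _)) (CommSys.x_mem_US _ (by simp) _)

theorem H_qW {h : GF K m} (hh : h ∈ Hsub K m) (a v : K) : ∃ a' v', h * qW S a v * h⁻¹ = qW S a' v' := by
  obtain ⟨a', v', e⟩ := H_xW S (n0_H S hh).2 a v
  refine ⟨a', v', ?_⟩
  rw [qW_eq, qW_eq, ← e]
  group

/-- The Bruhat decomposition of the rank one subgroup. -/
theorem rank_one {a v : K} (h : qW S a v ≠ 1) :
    ∃ p r : K × K, ∃ h0 ∈ Hsub K m, qW S a v = xW S p.1 p.2 * h0 * n0 S * xW S r.1 r.2 := by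
  obtain ⟨hw, hL, hN, -, -, -, -, -⟩ := ωB_tab
  have hx : ∀ r ∈ ([22, 20, 19, 17] : List ℕ), ∀ z : K, factsF4.xg r z ∈ (factsF4.tsys K).US [22, 20, 19, 17] :=
    fun r hr z => CommSys.x_mem_US _ hr z
  have hmem : S.w4F 20 22 19 17 a v ∈ (factsF4.tsys K).US (Twist.negL chevF4 ωB) := by
    rw [hN]
    exact mul_mem (mul_mem (mul_mem (hx 20 (by simp) _) (hx 22 (by simp) _)) (hx 19 (by simp) _)) (hx 17 (by simp) _)
  obtain ⟨u, hu, huf, c, hc, hcf, u', hu', huf', he⟩ := S.T.rank_one S.hOs S.data.hl (ω := ωB) b2_mem_Os hmem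
    (S.le_fix (qW S a v).2) (fun e => h (Subtype.ext e))
  rw [hL] at hu hu'
  obtain ⟨p1, p2, rfl⟩ := S.fix_b2 (closedB S) hu huf
  obtain ⟨r1, r2, rfl⟩ := S.fix_b2 (closedB S) hu' huf'
  obtain ⟨g, hg, hge⟩ := (factsF4.tsys K).nw_eq (ω := ωB) (w := S.T.wO ωB) rfl
  refine ⟨(p1, p2), (r1, r2), (xW S p1 p2)⁻¹ * qW S a v * (xW S r1 r2)⁻¹ * (n0 S)⁻¹, ?_, by group⟩
  rw [mem_Hsub]
  show (S.w4F 27 25 28 30 p1 p2)⁻¹ * S.w4F 20 22 19 17 a v * (S.w4F 27 25 28 30 r1 r2)⁻¹ * (nO (K := K) 1)⁻¹ ∈ _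
  rw [nO, hw, hge, he]
  convert mul_mem hc (inv_mem hg) using 1
  group

/-- The rank one subgroup. -/
noncomputable def Msub : Subgroup (GF K m) :=
  Subgroup.closure {g | ∃ a v, g = xW S a v ∨ g = qW S a v}

theorem M_form {g : GF K m} (hg : g ∈ Msub S) :
    (∃ a v : K, ∃ h ∈ Hsub K m, g = xW S a v * h) ∨
    ∃ a v : K, ∃ h ∈ Hsub K m, ∃ a' v' : K, g = xW S a v * h * n0 S * xW S a' v' := by
  let P : Set (GF K m) := {g | (∃ a v : K, ∃ h ∈ Hsub K m, g = xW S a v * h) ∨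
    ∃ a v : K, ∃ h ∈ Hsub K m, ∃ a' v' : K, g = xW S a v * h * n0 S * xW S a' v'}
  have hX : ∀ (a v : K), ∀ g ∈ P, xW S a v * g ∈ P := by
    rintro a v g (⟨b, w, h, hh, rfl⟩ | ⟨b, w, h, hh, b', w', rfl⟩)
    · exact Or.inl ⟨_, _, h, hh, by rw [← mul_assoc, xW_mul]⟩
    · exact Or.inr ⟨_, _, h, hh, b', w', by rw [← mul_assoc, ← mul_assoc, ← mul_assoc, xW_mul]⟩
  have hn : ∀ g ∈ P, n0 S * g ∈ P ∧ (n0 S)⁻¹ * g ∈ P := by
    have hH : ∀ k ∈ Hsub K m, ∀ g ∈ P, k * g ∈ P := by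
      rintro k hk g (⟨b, w, h, hh, rfl⟩ | ⟨b, w, h, hh, b', w', rfl⟩) <;>
        obtain ⟨c, z, e⟩ := H_xW S hk b w
      · exact Or.inl ⟨c, z, k * h, mul_mem hk hh, by rw [← e]; group⟩
      · exact Or.inr ⟨c, z, k * h, mul_mem hk hh, b', w', by rw [← e]; group⟩
    have step : ∀ g ∈ P, n0 S * g ∈ P := by
      rintro g (⟨b, w, h, hh, rfl⟩ | ⟨b, w, h, hh, b', w', rfl⟩)
      · obtain ⟨c, z, e⟩ := H_xW S (inv_mem hh) b w
        refine Or.inr ⟨0, 0, n0 S * h * (n0 S)⁻¹, (n0_H S hh).1, c, z, ?_⟩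
        rw [xW_zero, ← e]; group
      · by_cases hq : qW S b w = 1
        · have hx : xW S b w = 1 := by
            rw [qW_eq, conj_eq_one_iff] at hq; exact hq
          refine hH (n0 S * h * n0 S) ?_ (xW S b' w') ?_ |> fun h' => by
            rw [hx, one_mul]
            simpa [mul_assoc] using h'
          · rw [show n0 S * h * n0 S = n0 S * h * (n0 S)⁻¹ * (n0 S * n0 S) by group]
            exact mul_mem (n0_H S hh).1 (n0_sq S)
          · exact Or.inl ⟨b', w', 1, one_mem _, (mul_one _).symm⟩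
        · obtain ⟨p, r, h0, hh0, e⟩ := rank_one S hq
          have hk : n0 S * h * n0 S ∈ Hsub K m := by
            rw [show n0 S * h * n0 S = n0 S * h * (n0 S)⁻¹ * (n0 S * n0 S) by group]
            exact mul_mem (n0_H S hh).1 (n0_sq S)
          obtain ⟨c, z, ec⟩ := H_xW S (inv_mem hk) r.1 r.2
          refine Or.inr ⟨p.1, p.2, h0 * (n0 S * (n0 S * h * n0 S) * (n0 S)⁻¹), mul_mem hh0 (n0_H S hk).1,
            c + b', z + w' + c ^ 2 ^ m * b', ?_⟩
          rw [← xW_mul, ← ec, show n0 S * (xW S b w * h * n0 S * xW S b' w') =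
            (n0 S * xW S b w * (n0 S)⁻¹) * (n0 S * h * n0 S) * xW S b' w' by group, ← qW_eq, e]
          group
    intro g hg
    refine ⟨step g hg, ?_⟩
    have := hH _ (inv_mem (n0_sq S)) _ (step g hg)
    rwa [show (n0 S * n0 S)⁻¹ * (n0 S * g) = (n0 S)⁻¹ * g by group] at this
  have h1 : (1 : GF K m) ∈ P := Or.inl ⟨0, 0, 1, one_mem _, by rw [xW_zero, mul_one]⟩
  rw [Msub, ← Subgroup.mem_toSubmonoid, Subgroup.closure_toSubmonoid_of_finite] at hg
  suffices h : ∀ p ∈ P, g * p ∈ P by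
    have := h 1 h1
    rwa [mul_one] at this
  induction hg using Submonoid.closure_induction with
  | mem x hx =>
    intro p hp
    obtain ⟨a, v, rfl | rfl⟩ := hx
    · exact hX a v p hp
    · rw [qW_eq, mul_assoc, mul_assoc]
      exact (hn _ (hX a v _ (hn p hp).2)).1
  | one => intro p hp; rwa [one_mul]
  | mul x y _ _ ihx ihy => intro p hp; rw [mul_assoc]; exact ihx _ (ihy p hp)

open Cfsg.Agent.Lie.Suzuki in
theorem blk_xW (a v : K) :
    Keeps ((xW S a v : GL chevF4.Idx K) : Matrix chevF4.Idx chevF4.Idx K) ∧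
    blkMat ((xW S a v : GL chevF4.Idx K) : Matrix chevF4.Idx chevF4.Idx K) =
      tMat m (a ^ 2 ^ m) (a ^ (2 ^ m + 1) + v) ∧
    Keeps ((qW S a v : GL chevF4.Idx K) : Matrix chevF4.Idx chevF4.Idx K) ∧
    blkMat ((qW S a v : GL chevF4.Idx K) : Matrix chevF4.Idx chevF4.Idx K) =
      (wM K : Matrix (Fin 4) (Fin 4) K) * tMat m (a ^ 2 ^ m) (a ^ (2 ^ m + 1) + v) *
        (wM K : Matrix (Fin 4) (Fin 4) K) := blk_w4 S a v

theorem keeps_M {g : GF K m} (hg : g ∈ Msub S) :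
    Keeps ((g : GL chevF4.Idx K) : Matrix chevF4.Idx chevF4.Idx K) := by
  rw [Msub, ← Subgroup.mem_toSubmonoid, Subgroup.closure_toSubmonoid_of_finite] at hg
  induction hg using Submonoid.closure_induction with
  | mem x hx =>
    obtain ⟨a, v, rfl | rfl⟩ := hx
    exacts [(blk_xW S a v).1, (blk_xW S a v).2.2.1]
  | one => exact keeps_one
  | mul x y _ _ ihx ihy => exact keeps_mul ihx ihy

/-- The action on the block. -/
noncomputable def blkHom : ↥(Msub S) →* GL (Fin 4) K :=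
  MonoidHom.toHomUnits
    { toFun := fun g => blkMat (((g : GF K m) : GL chevF4.Idx K) : Matrix chevF4.Idx chevF4.Idx K)
      map_one' := blkMat_one
      map_mul' := fun g h => blkMat_mul (keeps_M S g.2) }

theorem coe_blkHom (g : ↥(Msub S)) : (blkHom S g : Matrix (Fin 4) (Fin 4) K) =
    blkMat (((g : GF K m) : GL chevF4.Idx K) : Matrix chevF4.Idx chevF4.Idx K) := rfl

/-- An element of the rank one subgroup. -/
noncomputable def mX (a v : K) : ↥(Msub S) := ⟨xW S a v, Subgroup.subset_closure ⟨a, v, Or.inl rfl⟩⟩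

/-- An element of the rank one subgroup. -/
noncomputable def mQ (a v : K) : ↥(Msub S) := ⟨qW S a v, Subgroup.subset_closure ⟨a, v, Or.inr rfl⟩⟩

include S in
open Cfsg.Agent.Lie.Suzuki in
theorem blk_inj' {a v a' v' : K}
    (h : tMat m (a ^ 2 ^ m) (a ^ (2 ^ m + 1) + v) = tMat m (a' ^ 2 ^ m) (a' ^ (2 ^ m + 1) + v')) :
    a = a' ∧ v = v' := by
  obtain ⟨h1, h2⟩ := tM_injective (m := m) (a := a ^ 2 ^ m) (c := a' ^ 2 ^ m) (Subtype.ext h)
  have ha : a = a' := by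
    have := congrArg (· ^ (2 * 2 ^ m)) h1
    simpa [(S.pow_twist _).1] using this
  subst ha
  exact ⟨rfl, add_left_cancel h2⟩

open Cfsg.Agent.Lie.Suzuki in
theorem blkHom_mX_inj {a v a' v' : K} (h : blkHom S (mX S a v) = blkHom S (mX S a' v')) : a = a' ∧ v = v' := by
  have h' := congrArg Units.val h
  rw [coe_blkHom, coe_blkHom] at h'
  exact blk_inj' S ((blk_xW S a v).2.1.symm.trans (h'.trans (blk_xW S a' v').2.1))

open Cfsg.Agent.Lie.Suzuki in
theorem blkHom_mQ_inj {a v a' v' : K} (h : blkHom S (mQ S a v) = blkHom S (mQ S a' v')) : a = a' ∧ v = v' := by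
  have h' := congrArg Units.val h
  rw [coe_blkHom, coe_blkHom] at h'
  have h'' := congrArg (fun A => (wM K : Matrix (Fin 4) (Fin 4) K) * A * (wM K : Matrix (Fin 4) (Fin 4) K))
    ((blk_xW S a v).2.2.2.symm.trans (h'.trans (blk_xW S a' v').2.2.2))
  have hw : (wM K : Matrix (Fin 4) (Fin 4) K) * (wM K : Matrix (Fin 4) (Fin 4) K) = 1 :=
    congrArg Subtype.val wM_mul_self
  simp only [← mul_assoc, hw, one_mul] at h''
  simp only [mul_assoc, hw, mul_one] at h''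
  exact blk_inj' S h''

open Cfsg.Agent.Lie.Suzuki in
theorem blk_upper (a v : K) (i j : Fin 4) (hij : j < i) : tMat m (a ^ 2 ^ m) (a ^ (2 ^ m + 1) + v) i j = 0 := by
  fin_cases i <;> fin_cases j <;> first | exact absurd hij (by decide) | simp [tMat]

open Cfsg.Agent.Lie.Suzuki in
theorem blk_meet {a v a' v' : K} (h : blkHom S (mX S a v) = blkHom S (mQ S a' v')) : qW S a' v' = 1 := by
  have h' : tMat m (a ^ 2 ^ m) (a ^ (2 ^ m + 1) + v) = (wM K : Matrix (Fin 4) (Fin 4) K) *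
      tMat m (a' ^ 2 ^ m) (a' ^ (2 ^ m + 1) + v') * (wM K : Matrix (Fin 4) (Fin 4) K) :=
    (blk_xW S a v).2.1.symm.trans ((congrArg Units.val h).trans (blk_xW S a' v').2.2.2)
  have e1 := (congrFun (congrFun h' 1) 0).symm.trans (blk_upper a v 1 0 (by decide))
  have e2 := (congrFun (congrFun h' 2) 0).symm.trans (blk_upper a v 2 0 (by decide))
  simp [wM, tMat, Matrix.vecMul, dotProduct, Fin.sum_univ_four, Matrix.mul_apply] at e1 e2
  subst e1
  have ev : v' = 0 := by simpa [zero_pow] using e2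
  subst ev
  rw [qW_eq, xW_zero, mul_one, mul_inv_cancel]

theorem blk_ker {g : ↥(Msub S)} (h : blkHom S g = 1) :
    (g : GF K m) ∈ Hsub K m ∧ (∀ a v, (g : GF K m) * xW S a v = xW S a v * g) ∧
      ∀ a v, (g : GF K m) * qW S a v = qW S a v * g := by
  rcases M_form S g.2 with ⟨a, v, k, hk, e⟩ | ⟨a, v, k, hk, a', v', e⟩
  · have hkM : k ∈ Msub S := by
      rw [show k = (xW S a v)⁻¹ * g by rw [e]; group]
      exact mul_mem (inv_mem (mX S a v).2) g.2
    have eg : g = mX S a v * ⟨k, hkM⟩ := Subtype.ext e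
    rw [eg, map_mul] at h
    have hB : blkHom S ⟨k, hkM⟩ = 1 := by
      have h4 : mX S a v ^ 4 = 1 := Subtype.ext (by
        show xW S a v ^ 4 = 1
        rw [show xW S a v ^ 4 = (xW S a v * xW S a v) * (xW S a v * xW S a v) by
          simp only [pow_succ, pow_zero, one_mul, mul_assoc], xW_mul, xW_mul]
        simp [CharTwo.add_self_eq_zero, zero_pow, xW_zero])
      have h1 : blkHom S ⟨k, hkM⟩ ^ 4 = 1 := by
        rw [show blkHom S ⟨k, hkM⟩ = (blkHom S (mX S a v))⁻¹ from (inv_eq_of_mul_eq_one_right h).symm, inv_pow,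
          ← map_pow, h4, map_one, inv_one]
      have h2 : blkHom S ⟨k, hkM⟩ ^ (2 ^ (2 * m + 1) - 1) = 1 := by
        rw [← map_pow, show (⟨k, hkM⟩ : ↥(Msub S)) ^ (2 ^ (2 * m + 1) - 1) = 1 from
          Subtype.ext (H_pow S hk), map_one]
      refine orderOf_eq_one_iff.1 (Nat.eq_one_of_dvd_coprimes ?_ (orderOf_dvd_of_pow_eq_one h1)
        (orderOf_dvd_of_pow_eq_one h2))
      show Nat.Coprime (2 ^ 2) _
      refine Nat.Coprime.pow_left 2 (Nat.prime_two.coprime_iff_not_dvd.2 fun hd => ?_)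
      have h1 : 1 ≤ 2 ^ (2 * m + 1) := Nat.one_le_two_pow
      have h2 : 2 ∣ 2 ^ (2 * m + 1) := dvd_pow_self 2 (by omega)
      omega
    rw [hB, mul_one] at h
    obtain ⟨rfl, rfl⟩ := blkHom_mX_inj S (a' := 0) (v' := 0)
      (h.trans (by rw [show mX S 0 0 = 1 from Subtype.ext (xW_zero S), map_one]))
    rw [xW_zero, one_mul] at e
    rw [e]
    refine ⟨hk, fun b w => ?_, fun b w => ?_⟩
    · obtain ⟨b', w', ec⟩ := H_xW S hk b w
      have hh : blkHom S (mX S b' w') = blkHom S (mX S b w) := by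
        rw [show mX S b' w' = ⟨k, hkM⟩ * mX S b w * (⟨k, hkM⟩ : ↥(Msub S))⁻¹ from Subtype.ext ec.symm, map_mul,
          map_mul, map_inv, hB, one_mul, inv_one, mul_one]
      obtain ⟨rfl, rfl⟩ := blkHom_mX_inj S hh
      exact mul_inv_eq_iff_eq_mul.1 ec
    · obtain ⟨b', w', ec⟩ := H_qW S hk b w
      have hh : blkHom S (mQ S b' w') = blkHom S (mQ S b w) := by
        rw [show mQ S b' w' = ⟨k, hkM⟩ * mQ S b w * (⟨k, hkM⟩ : ↥(Msub S))⁻¹ from Subtype.ext ec.symm, map_mul,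
          map_mul, map_inv, hB, one_mul, inv_one, mul_one]
      obtain ⟨rfl, rfl⟩ := blkHom_mQ_inj S hh
      exact mul_inv_eq_iff_eq_mul.1 ec
  · exfalso
    have hkM : k * n0 S ∈ Msub S := by
      rw [show k * n0 S = (xW S a v)⁻¹ * g * (xW S a' v')⁻¹ by rw [e]; group]
      exact mul_mem (mul_mem (inv_mem (mX S a v).2) g.2) (inv_mem (mX S a' v').2)
    have eg : g = mX S a v * ⟨k * n0 S, hkM⟩ * mX S a' v' := Subtype.ext (by
      show (g : GF K m) = xW S a v * (k * n0 S) * xW S a' v'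
      rw [e]; group)
    rw [eg, map_mul, map_mul] at h
    obtain ⟨b, w, ec⟩ := H_qW S hk 0 1
    obtain ⟨c, z, hcz⟩ : ∃ c z, (mX S a v)⁻¹ * (mX S a' v')⁻¹ = mX S c z := by
      have hinv : ∀ p r : K, (xW S p r)⁻¹ = xW S p (r + p ^ 2 ^ m * p) := fun p r => by
        refine inv_eq_of_mul_eq_one_right ?_
        rw [xW_mul, CharTwo.add_self_eq_zero, ← xW_zero S]
        congr 1
        rw [← add_assoc, CharTwo.add_self_eq_zero, zero_add, CharTwo.add_self_eq_zero]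
      exact ⟨_, _, Subtype.ext (by
        show (xW S a v)⁻¹ * (xW S a' v')⁻¹ = xW S _ _
        rw [hinv, hinv, xW_mul])⟩
    have hN : blkHom S ⟨k * n0 S, hkM⟩ = blkHom S (mX S c z) := by
      rw [← hcz, map_mul, map_inv, map_inv, eq_mul_inv_iff_mul_eq, eq_inv_iff_mul_eq_one]
      have := congrArg (fun u => (blkHom S (mX S a v))⁻¹ * u * blkHom S (mX S a v)) h
      simp only [mul_one, inv_mul_cancel] at this
      rw [← this]
      group
    have e1 : blkHom S (mQ S b w) = blkHom S (mX S 0 1) := by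
      rw [show mQ S b w = ⟨k * n0 S, hkM⟩ * mX S 0 1 * (⟨k * n0 S, hkM⟩ : ↥(Msub S))⁻¹ from Subtype.ext (by
        show qW S b w = k * n0 S * xW S 0 1 * (k * n0 S)⁻¹
        rw [← ec, qW_eq]; group), map_mul, map_mul, map_inv, hN, ← map_inv, ← map_mul, ← map_mul]
      refine congrArg _ (Subtype.ext ?_)
      show xW S c z * xW S 0 1 * (xW S c z)⁻¹ = xW S 0 1
      rw [mul_inv_eq_iff_eq_mul, xW_mul, xW_mul]
      congr 1
      · rw [add_zero, zero_add]
      · simp [zero_pow, add_comm]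
    have e2 := blk_meet S e1.symm
    rw [← ec, conj_eq_one_iff, qW_eq, conj_eq_one_iff] at e2
    obtain ⟨-, h01⟩ := blkHom_mX_inj S (a := 0) (v := 1) (a' := 0) (v' := 0)
      (congrArg (blkHom S) (Subtype.ext (e2.trans (xW_zero S).symm)))
    exact one_ne_zero h01

section Lift

variable {Γ : Type*} [Group Γ] [Finite Γ] (σ : Γ →* GF K m)

/-- The generators of the lifted rank one subgroup. -/
def genB : Set Γ := {g | IsP 2 g ∧ ∃ a v, σ g = xW S a v ∨ σ g = qW S a v}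

/-- The lifted rank one subgroup. -/
noncomputable def RB : Subgroup Γ := Subgroup.closure (genB S σ)

theorem RB_map {g : Γ} (hg : g ∈ RB S σ) : σ g ∈ Msub S := by
  have h : RB S σ ≤ (Msub S).comap σ := (Subgroup.closure_le _).2 fun x ⟨_, a, v, h⟩ =>
    Subgroup.subset_closure ⟨a, v, h⟩
  exact h hg

theorem isP_xW (a v : K) : IsP 2 (xW S a v) ∧ IsP 2 (qW S a v) := by
  have h : IsP 2 (xW S a v) := ⟨2, by
    rw [show xW S a v ^ 2 ^ 2 = (xW S a v * xW S a v) * (xW S a v * xW S a v) by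
      simp only [show (2 : ℕ) ^ 2 = 4 by norm_num, pow_succ, pow_zero, one_mul, mul_assoc], xW_mul, xW_mul]
    simp [CharTwo.add_self_eq_zero, zero_pow, xW_zero]⟩
  exact ⟨h, qW_eq S a v ▸ h.conj _⟩

variable (hs : Function.Surjective σ) (hc : σ.ker ≤ Subgroup.center Γ) (hp' : ¬ 2 ∣ Nat.card σ.ker)

include hc hp' in
/-- An element permuting the two root groups normalises the lifted subgroup. -/
theorem RB_norm {g : Γ}
    (hg : ∀ a v, (∃ a' v', σ g * xW S a v * (σ g)⁻¹ = xW S a' v' ∨ σ g * xW S a v * (σ g)⁻¹ = qW S a' v') ∧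
      ∃ a' v', σ g * qW S a v * (σ g)⁻¹ = xW S a' v' ∨ σ g * qW S a v * (σ g)⁻¹ = qW S a' v') :
    ∀ x ∈ RB S σ, g * x * g⁻¹ ∈ RB S σ := by
  have hle : RB S σ ≤ (RB S σ).comap (MulAut.conj g).toMonoidHom := (Subgroup.closure_le _).2 fun x ⟨hx, a, v, e⟩ => by
    refine Subgroup.subset_closure ⟨hx.conj g, ?_⟩
    rcases e with e | e
    · obtain ⟨a', v', e'⟩ := (hg a v).1
      exact ⟨a', v', by simpa [e] using e'⟩
    · obtain ⟨a', v', e'⟩ := (hg a v).2
      exact ⟨a', v', by simpa [e] using e'⟩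
  exact fun x hx => hle hx

include hs hc hp' in
theorem RB_lift (a v : K) :
    (∃ g ∈ RB S σ, σ g = xW S a v ∧ IsP 2 g) ∧ ∃ g ∈ RB S σ, σ g = qW S a v ∧ IsP 2 g := by
  haveI : Fact (Nat.Prime 2) := ⟨Nat.prime_two⟩
  obtain ⟨g, hg, hgp⟩ := lift_exists σ hs hc hp' (isP_xW S a v).1
  obtain ⟨g', hg', hgp'⟩ := lift_exists σ hs hc hp' (isP_xW S a v).2
  exact ⟨⟨g, Subgroup.subset_closure ⟨hgp, a, v, Or.inl hg⟩, hg, hgp⟩,
    g', Subgroup.subset_closure ⟨hgp', a, v, Or.inr hg'⟩, hg', hgp'⟩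

open Cfsg.Agent.Lie.Suzuki in
include S hs hc hp' in
theorem RB_inj (hm : 1 ≤ m) {g : Γ} (hg : g ∈ RB S σ) (h1 : σ g = 1) : g = 1 := by
  haveI : Fact (Nat.Prime 2) := ⟨Nat.prime_two⟩
  have hF : Fintype.card K = 2 ^ (2 * m + 1) := by rw [← Nat.card_eq_fintype_card, S.hK]
  obtain ⟨ι, hι⟩ : ∃ ι : Cfsg.Sz K m →* GL (Fin 4) K,
      ι = Matrix.SpecialLinearGroup.toGL.comp (Cfsg.Sz K m).subtype := ⟨_, rfl⟩
  have hιi : Function.Injective ι := fun x y h => by
    rw [hι] at h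
    exact Subtype.ext (Subtype.ext (congrArg Units.val h))
  obtain ⟨Φ, hΦ⟩ : ∃ Φ : ↥(RB S σ) →* GL (Fin 4) K,
      Φ = (blkHom S).comp (MonoidHom.codRestrict (σ.comp (RB S σ).subtype) (Msub S) fun x => RB_map S σ x.2) :=
    ⟨_, rfl⟩
  have eX : ∀ a v, blkHom S (mX S a v) = ι (tS hF (a ^ 2 ^ m) (a ^ (2 ^ m + 1) + v)) := fun a v =>
    Units.ext (by rw [hι, coe_blkHom]; exact (blk_xW S a v).2.1)
  have eQ : ∀ a v, blkHom S (mQ S a v) = ι (wS hF * tS hF (a ^ 2 ^ m) (a ^ (2 ^ m + 1) + v) * wS hF) := fun a v =>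
    Units.ext (by rw [hι, coe_blkHom]; exact (blk_xW S a v).2.2.2)
  have hgenr : ∀ x : ↥(RB S σ), (x : Γ) ∈ genB S σ → Φ x ∈ ι.range := by
    rintro ⟨x, hx⟩ ⟨-, a, v, e | e⟩
    · refine ⟨_, (eX a v).symm.trans ?_⟩
      rw [hΦ]
      exact congrArg (blkHom S) (Subtype.ext e.symm)
    · refine ⟨_, (eQ a v).symm.trans ?_⟩
      rw [hΦ]
      exact congrArg (blkHom S) (Subtype.ext e.symm)
  have hrange : ∀ x, Φ x ∈ ι.range := by
    intro x
    obtain ⟨x, hx⟩ := x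
    induction hx using Subgroup.closure_induction with
    | mem y hy => exact hgenr ⟨y, _⟩ hy
    | one => exact map_one Φ ▸ one_mem _
    | mul y z hy hz ihy ihz =>
      have := mul_mem ihy ihz
      rwa [← map_mul] at this
    | inv y hy ih =>
      have := inv_mem ih
      rwa [← map_inv] at this
  let e := MonoidHom.ofInjective hιi
  let π : ↥(RB S σ) →* Cfsg.Sz K m := e.symm.toMonoidHom.comp (Φ.codRestrict ι.range hrange)
  have hπ : ∀ x, ι (π x) = Φ x := fun x => congrArg Subtype.val (e.apply_symm_apply ⟨Φ x, hrange x⟩)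
  have hker : ∀ x, π x = 1 → Φ x = 1 := fun x hx => by rw [← hπ, hx, map_one]
  have hcent : ∀ x : ↥(RB S σ), π x = 1 → x ∈ Subgroup.center ↥(RB S σ) ∧ σ (x : Γ) ∈ Hsub K m := by
    intro x hx
    have hb := hker x hx
    rw [hΦ] at hb
    obtain ⟨hH, hX, hQ⟩ := blk_ker S hb
    refine ⟨Subgroup.mem_center_iff.2 fun y => Subtype.ext ?_, hH⟩
    show (y : Γ) * x = x * y
    have hle : RB S σ ≤ Subgroup.centralizer {(x : Γ)} := (Subgroup.closure_le _).2 fun z ⟨hz, a, v, hv⟩ =>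
      Subgroup.mem_centralizer_singleton_iff.2 (by
        have he : σ ((x : Γ) * z * (x : Γ)⁻¹) = σ z := by
          rw [map_mul, map_mul, map_inv]
          rcases hv with hv | hv <;> rw [hv]
          · exact mul_inv_eq_iff_eq_mul.2 (hX a v)
          · exact mul_inv_eq_iff_eq_mul.2 (hQ a v)
        exact (mul_inv_eq_iff_eq_mul.1 (lift_unique σ hc hp' he (hz.conj _) hz)).symm)
    exact Subgroup.mem_centralizer_singleton_iff.1 (hle y.2)
  have hodd : ¬ 2 ∣ Nat.card π.ker := by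
    intro hd
    obtain ⟨z, hz⟩ := exists_prime_orderOf_dvd_card' 2 hd
    have hz2 : ((z : ↥(RB S σ)) : Γ) ^ 2 = 1 := by
      have := pow_orderOf_eq_one z
      rw [hz] at this
      exact congrArg (fun y : π.ker => ((y : ↥(RB S σ)) : Γ)) this
    have hs1 : σ ((z : ↥(RB S σ)) : Γ) = 1 := by
      refine orderOf_eq_one_iff.1 (Nat.eq_one_of_dvd_coprimes ?_
        (orderOf_dvd_of_pow_eq_one (show σ ((z : ↥(RB S σ)) : Γ) ^ 2 = 1 by rw [← map_pow, hz2, map_one]))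
        (orderOf_dvd_of_pow_eq_one (H_pow S (hcent _ z.2).2)))
      refine Nat.prime_two.coprime_iff_not_dvd.2 fun hd => ?_
      have h1 : 1 ≤ 2 ^ (2 * m + 1) := Nat.one_le_two_pow
      have h2 : 2 ∣ 2 ^ (2 * m + 1) := dvd_pow_self 2 (by omega)
      omega
    have := lift_unique σ hc hp' (hs1.trans (map_one σ).symm) ⟨1, by simpa using hz2⟩ ⟨0, by simp⟩
    have hz1 : z = 1 := Subtype.ext (Subtype.ext this)
    rw [hz1, orderOf_one] at hz
    exact absurd hz (by norm_num)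
  have hsurj : Function.Surjective π := by
    rw [← MonoidHom.range_eq_top, eq_top_iff, ← sz_closure hF hm, Subgroup.closure_le]
    have key : ∀ c d : K, ∃ a v : K, a ^ 2 ^ m = c ∧ a ^ (2 ^ m + 1) + v = d := fun c d =>
      ⟨c ^ (2 * 2 ^ m), d + (c ^ (2 * 2 ^ m)) ^ (2 ^ m + 1), (S.pow_twist c).2, by
        rw [add_comm d, ← add_assoc, CharTwo.add_self_eq_zero, zero_add]⟩
    rintro _ (⟨c, d, rfl⟩ | ⟨_, ⟨c, d, rfl⟩, rfl⟩) <;> obtain ⟨a, v, rfl, rfl⟩ := key c d <;>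
      obtain ⟨⟨x, hx, ex, -⟩, ⟨y, hy, ey, -⟩⟩ := RB_lift S σ hs hc hp' a v
    · refine ⟨⟨x, hx⟩, hιi ?_⟩
      rw [hπ, ← eX, hΦ]
      exact congrArg (blkHom S) (Subtype.ext ex)
    · refine ⟨⟨y, hy⟩, hιi ?_⟩
      rw [hπ, ← eQ, hΦ]
      exact congrArg (blkHom S) (Subtype.ext ey)
  have hd : π.ker ≤ commutator ↥(RB S σ) := by
    haveI := sz_simple hF hm
    intro z hz
    let q : ↥(RB S σ) →* Abelianization ↥(RB S σ) := Abelianization.of
    have hP : ∀ x : ↥(RB S σ), IsP 2 (q x) := by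
      rintro ⟨x, hx⟩
      induction hx using Subgroup.closure_induction with
      | mem y hy =>
        obtain ⟨k, hk⟩ := hy.1
        refine ⟨k, ?_⟩
        rw [← map_pow]
        exact (congrArg q (Subtype.ext hk)).trans (map_one q)
      | one => exact ⟨0, by rw [show (⟨1, _⟩ : ↥(RB S σ)) = 1 from rfl, map_one, one_pow]⟩
      | mul a b ha hb iha ihb =>
        obtain ⟨i, hi⟩ := iha
        obtain ⟨j, hj⟩ := ihb
        refine ⟨i + j, ?_⟩
        rw [show (⟨a * b, _⟩ : ↥(RB S σ)) = ⟨a, ha⟩ * ⟨b, hb⟩ from rfl, map_mul, mul_pow, pow_add, pow_mul, hi,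
          one_pow, one_mul, mul_comm, pow_mul, hj, one_pow]
      | inv a ha ih =>
        obtain ⟨i, hi⟩ := ih
        exact ⟨i, by rw [show (⟨a⁻¹, _⟩ : ↥(RB S σ)) = (⟨a, ha⟩)⁻¹ from rfl, map_inv, inv_pow, hi, inv_one]⟩
    obtain ⟨k, hk⟩ := hP z
    have h2 : q z ^ Nat.card π.ker = 1 := by
      rw [← map_pow]
      have h3 : (⟨z, hz⟩ : π.ker) ^ Nat.card π.ker = 1 := pow_card_eq_one'
      rw [show z ^ Nat.card π.ker = 1 from congrArg Subtype.val h3, map_one]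
    have h4 : q z = 1 := orderOf_eq_one_iff.1 (Nat.eq_one_of_dvd_coprimes
      ((Nat.prime_two.coprime_iff_not_dvd.2 hodd).pow_left k) (orderOf_dvd_of_pow_eq_one hk)
      (orderOf_dvd_of_pow_eq_one h2))
    exact (QuotientGroup.eq_one_iff z).1 h4
  have hbot := sz_stem_odd hm π ⟨hsurj, fun x hx => (hcent x hx).1, hd⟩ hodd hF
  have hx : π ⟨g, hg⟩ = 1 := hιi (by
    rw [hπ, map_one, hΦ]
    show blkHom S ⟨σ g, _⟩ = 1
    exact (congrArg (blkHom S) (Subtype.ext h1)).trans (map_one _))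
  have := MonoidHom.mem_ker.2 hx
  rw [hbot, Subgroup.mem_bot] at this
  exact congrArg Subtype.val this

end Lift

end Cfsg.Agent.Lie.TwistMult.F4
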