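import Cfsg.Agent.Lib.Lie.TwistMult.F4Coord

/-!
The characters of the torus on the weight spaces of ²F₄(q).
-/

set_option autoImplicit false
set_option maxRecDepth 4000
set_option linter.unusedSectionVars false

namespace Cfsg.Agent.Lie.TwistMult.F4

open Cfsg.Lie Cfsg.Agent.Lie Matrix
open Cfsg.Agent.Lie.F4 (Setup torChar_eval)
open Cfsg.Agent.Small.C2Inv.F4
open scoped MatrixGroups

theorem cart_sum : ∀ p ∈ [((34 : ℕ), (26 : ℕ), (36 : ℕ), (42 : ℕ)), (29, 41, 44, 47), (35, 31, 40, 46), (27, 25, 28, 30)],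
    ∀ j : Fin chevF4.rank, chevF4.cartan j.val p.2.2.1 = chevF4.cartan j.val p.1 + chevF4.cartan j.val p.2.1 := by
  decide +kernel

theorem wList_len : ∀ k < 12, wList chevF4 (cRoot k) =
    [(cw k).getD 0 0, (cw k).getD 1 0, (cw k).getD 2 0, (cw k).getD 3 0] := by decide +kernel

variable {K : Type*} [Field K] [Fintype K] [CharP K 2] {m : ℕ} (S : Setup K m)

/-- The torus. -/
noncomputable def tor (p : Kˣ × Kˣ) : GF K m := ⟨torus chevF4 K (S.crd p.1 p.2), S.torus_mem p.1 p.2⟩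

theorem tor_comm (p p' : Kˣ × Kˣ) : tor S p * tor S p' = tor S p' * tor S p := by
  refine Subtype.ext ?_
  show torus chevF4 K _ * torus chevF4 K _ = torus chevF4 K _ * torus chevF4 K _
  rw [← map_mul, ← map_mul, mul_comm]

theorem chr_twist (p : Kˣ × Kˣ) {r r' : ℕ} (hr : 24 ≤ r ∧ r < 48) (hr' : 24 ≤ r' ∧ r' < 48)
    (h1 : graphF4.img r = r' ∧ graphF4.expo r = 2) :
    (torChar chevF4 (S.crd p.1 p.2) r' : K) = ph m (torChar chevF4 (S.crd p.1 p.2) r : K) := by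
  have hf : torus chevF4 K (S.crd p.1 p.2) ∈ S.T.fix := S.le_fix (tor S p).2
  have hs : S.T.sig (torus chevF4 K (S.crd p.1 p.2)) = torus chevF4 K (S.crd p.1 p.2) := hf.2
  have hg : ∀ r (t : K), X r t ∈ chevF4.group K := fun r t => factsF4.xg_mem_group r t
  have e : torus chevF4 K (S.crd p.1 p.2) * X r (1 : K) =
      X r (torChar chevF4 (S.crd p.1 p.2) r : K) * torus chevF4 K (S.crd p.1 p.2) := by
    have := factsF4.torus_conj (S.crd p.1 p.2) (show r < chevF4.nroots from hr.2) (1 : K)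
    rw [mul_one] at this
    exact mul_inv_eq_iff_eq_mul.1 this
  have e2 := congrArg S.T.sig e
  rw [S.T.sig_mul _ hf.1 _ (hg _ _), S.T.sig_mul _ (hg _ _) _ hf.1, hs, sig_short S hr.2 h1,
    sig_short S hr.2 h1, ph_one] at e2
  have e3 := factsF4.torus_conj (S.crd p.1 p.2) (show r' < chevF4.nroots from hr'.2) (1 : K)
  rw [mul_one] at e3
  rw [show torus chevF4 K (S.crd p.1 p.2) * factsF4.xg r' (1 : K) = _ from e2, mul_inv_cancel_right] at e3
  exact (factsF4.xg_inj (show r' < chevF4.nroots from hr'.2) e3).symm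

/-- The character of a coordinate. -/
noncomputable def chr (k : ℕ) (p : Kˣ × Kˣ) : Kˣ := torChar chevF4 (S.crd p.1 p.2) (cRoot k)

theorem conj_E (d : ℕ) (p : Kˣ × Kˣ) (s : K) :
    MulAut.conj (torus chevF4 K (S.crd p.1 p.2)) (E m d s) =
      E m d ((torChar chevF4 (S.crd p.1 p.2) (sE d).1 : K) * s) := by
  obtain ⟨h1, -, h3, h4, -⟩ := tabE (sE d) (sE_tab d)
  rw [E, E, map_mul, MulAut.conj_apply, MulAut.conj_apply,
    factsF4.torus_conj _ (show (sE d).1 < chevF4.nroots from h3.2),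
    factsF4.torus_conj _ (show (sE d).2 < chevF4.nroots from h4.2), chr_twist S p h3 h4 h1, ph_mul]

theorem conj_O (d : ℕ) (p : Kˣ × Kˣ) (s u : K) :
    MulAut.conj (torus chevF4 K (S.crd p.1 p.2)) (O m d s u) =
      O m d ((torChar chevF4 (S.crd p.1 p.2) (sO d).1 : K) * s)
        ((torChar chevF4 (S.crd p.1 p.2) (sO d).2.2.1 : K) * u) := by
  obtain ⟨h1, -, h3, -, b1, b2, b3, b4, -⟩ := tabO (sO d) (sO_tab d)
  have hsum : torChar chevF4 (S.crd p.1 p.2) (sO d).2.2.1 =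
      torChar chevF4 (S.crd p.1 p.2) (sO d).1 * torChar chevF4 (S.crd p.1 p.2) (sO d).2.1 := by
    simp only [torChar, ← Finset.prod_mul_distrib, ← _root_.zpow_add]
    exact Finset.prod_congr rfl fun j _ => by rw [cart_sum _ (sO_tab d) j]
  have e2 := chr_twist S p b1 b2 h1
  have e4 := chr_twist S p b3 b4 h3
  rw [O, O, map_mul, map_mul, map_mul, MulAut.conj_apply, MulAut.conj_apply, MulAut.conj_apply, MulAut.conj_apply,
    factsF4.torus_conj _ (show (sO d).1 < chevF4.nroots from b1.2),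
    factsF4.torus_conj _ (show (sO d).2.1 < chevF4.nroots from b2.2),
    factsF4.torus_conj _ (show (sO d).2.2.1 < chevF4.nroots from b3.2),
    factsF4.torus_conj _ (show (sO d).2.2.2 < chevF4.nroots from b4.2), e4, e2, ph_mul, ph_mul, hsum,
    Units.val_mul, e2]
  congr 3
  ring

theorem cRoot_eq : [cRoot 0, cRoot 1, cRoot 2, cRoot 3, cRoot 4, cRoot 5, cRoot 6, cRoot 7, cRoot 8, cRoot 9,
      cRoot 10, cRoot 11] =
    [(sE 0).1, (sO 1).1, (sO 1).2.2.1, (sE 2).1, (sO 3).1, (sO 3).2.2.1, (sE 4).1, (sO 5).1, (sO 5).2.2.1,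
      (sE 6).1, (sO 7).1, (sO 7).2.2.1] := by decide +kernel

theorem conj_gc {k : ℕ} (hk : k < 12) (p : Kˣ × Kˣ) (x : K) :
    tor S p * gc S k x * (tor S p)⁻¹ = gc S k ((chr S k p : K) * x) := by
  refine Subtype.ext ?_
  show MulAut.conj (torus chevF4 K (S.crd p.1 p.2)) (El m (sgl 0 k x)) = El m (sgl 0 k _)
  have hc := cRoot_eq
  simp only [List.cons.injEq, and_true] at hc
  obtain ⟨c0, c1, c2, c3, c4, c5, c6, c7, c8, c9, c10, c11⟩ := hc
  simp only [El, map_mul, conj_E S, conj_O S, ← c0, ← c1, ← c2, ← c3, ← c4, ← c5, ← c6, ← c7, ← c8, ← c9,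
    ← c10, ← c11]
  interval_cases k <;> simp [sgl, chr, List.range_succ]

/-- The characters on a one-parameter subgroup. -/
theorem chr_line {k : ℕ} (hk : k < 12) (x : Kˣ) (P Q : ℤ) :
    chr S k (x ^ P, x ^ Q) = x ^ (((cw k).getD 0 0 * 2 ^ m + (cw k).getD 3 0) * P +
      ((cw k).getD 1 0 * 2 ^ m + (cw k).getD 2 0) * Q) := by
  rw [chr, torChar_eval _ (cRoot_lt k hk) (wList_len k hk)]
  simp only [Lie.F4.Setup.crd, List.zipWith_cons_cons, List.zipWith_nil_left, List.prod_cons, List.prod_nil, mul_one,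
    Matrix.cons_val_zero, Matrix.cons_val_one]
  show ((x ^ P) ^ 2 ^ m) ^ _ * (((x ^ Q) ^ 2 ^ m) ^ _ * ((x ^ Q) ^ _ * (x ^ P) ^ _)) = _
  simp only [← zpow_natCast, ← _root_.zpow_mul, ← _root_.zpow_add]
  congr 1
  push_cast
  ring

include S in
theorem pow_card' (x : Kˣ) : x ^ (2 * (2 : ℤ) ^ m * 2 ^ m - 1) = 1 := by
  have h : x ^ (2 ^ (2 * m + 1) - 1) = 1 := by
    rw [← S.hK, ← Nat.card_units]; exact pow_card_eq_one'
  rw [← zpow_natCast, Nat.cast_sub Nat.one_le_two_pow] at h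
  push_cast at h
  rw [show (2 : ℤ) * 2 ^ m * 2 ^ m = 2 ^ (2 * m + 1) by ring]
  exact h

/-- Characters with kernels in general position. -/
theorem sep {i j : ℕ} (hi : i < 12) (hj : j < 12) (h : sepOK i j = true) (c : Kˣ) :
    ∃ p, chr S i p = 1 ∧ chr S j p = c := by
  simp only [sepOK, decide_eq_true_eq] at h
  obtain ⟨θ, hθ⟩ : ∃ θ : ℤ, θ = 2 ^ m := ⟨_, rfl⟩
  obtain ⟨a, ha⟩ : ∃ a, a = (cw i).getD 0 0 := ⟨_, rfl⟩
  obtain ⟨b, hb⟩ : ∃ b, b = (cw i).getD 1 0 := ⟨_, rfl⟩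
  obtain ⟨c', hc'⟩ : ∃ c', c' = (cw i).getD 2 0 := ⟨_, rfl⟩
  obtain ⟨e, he⟩ : ∃ e, e = (cw i).getD 3 0 := ⟨_, rfl⟩
  obtain ⟨a', ha'⟩ : ∃ a', a' = (cw j).getD 0 0 := ⟨_, rfl⟩
  obtain ⟨b', hb'⟩ : ∃ b', b' = (cw j).getD 1 0 := ⟨_, rfl⟩
  obtain ⟨f, hf⟩ : ∃ f, f = (cw j).getD 2 0 := ⟨_, rfl⟩
  obtain ⟨g, hg⟩ : ∃ g, g = (cw j).getD 3 0 := ⟨_, rfl⟩
  rw [← ha, ← hb, ← hc', ← he, ← ha', ← hb', ← hf, ← hg] at h
  obtain ⟨D, hD⟩ : ∃ D : ℤ, D = (a' * θ + g) * (b * θ + c') - (b' * θ + f) * (a * θ + e) := ⟨_, rfl⟩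
  obtain ⟨Nn, hN⟩ : ∃ Nn : ℤ, Nn = 2 * θ * θ - 1 := ⟨_, rfl⟩
  have hcop : IsCoprime D Nn := by
    have h2 : IsCoprime Nn ((2 : ℤ) ^ 20) := IsCoprime.pow_right ⟨-1, θ * θ, by rw [hN]; ring⟩
    have h3 : IsCoprime Nn (((a' * b - b' * a) + 2 * (g * c' - f * e)) ^ 2 -
        2 * (a' * c' + g * b - b' * e - f * a) ^ 2) :=
      IsCoprime.of_isCoprime_of_dvd_right h2 (Int.natAbs_dvd.1 (by exact_mod_cast h))
    rw [show ((a' * b - b' * a) + 2 * (g * c' - f * e)) ^ 2 - 2 * (a' * c' + g * b - b' * e - f * a) ^ 2 =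
      D * (4 * D - 4 * (a' * b - b' * a) * Nn - 8 * θ * (a' * c' + g * b - b' * e - f * a)) +
        Nn * ((a' * b - b' * a) * ((a' * b - b' * a) * Nn + 4 * θ * (a' * c' + g * b - b' * e - f * a)) +
          2 * (a' * c' + g * b - b' * e - f * a) ^ 2) by rw [hD, hN]; ring] at h3
    exact (h3.of_add_mul_left_right.of_mul_right_left).symm
  obtain ⟨u, v, huv⟩ := hcop
  refine ⟨((c ^ u) ^ (b * θ + c'), (c ^ u) ^ (-(a * θ + e))), ?_, ?_⟩
  · rw [chr_line S hi, ← ha, ← hb, ← hc', ← he, ← hθ]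
    convert _root_.zpow_zero (c ^ u) using 2
    ring
  · rw [chr_line S hj, ← ha', ← hb', ← hf, ← hg, ← hθ, ← _root_.zpow_mul]
    have : u * ((a' * θ + g) * (b * θ + c') + (b' * θ + f) * (-(a * θ + e))) = 1 + (-v) * Nn := by
      rw [← huv, hD]; ring
    rw [this, _root_.zpow_add, _root_.zpow_one, mul_comm (-v), _root_.zpow_mul, hN, hθ, pow_card' S,
      _root_.one_zpow, mul_one]

end Cfsg.Agent.Lie.TwistMult.F4
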