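import Mathlib

/-!
Biadditive pairings on a cubic extension invariant under the elements of norm one, and additive Hilbert 90.
-/

set_option autoImplicit false
set_option linter.unusedSectionVars false

namespace Cfsg.Agent.Lie.TwistMult

variable {K : Type*} [Field K] {M : Type*} [Group M]

/-- An additive map fixed by a multiplication other than one is trivial. -/
theorem eq_one_of_moved (g : K → M) (hadd : ∀ a b, g (a + b) = g a * g b) {ξ : K} (hξ : ξ ≠ 1)
    (hinv : ∀ t, g (ξ * t) = g t) (t : K) : g t = 1 := by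
  have h := hadd (ξ * (t / (ξ - 1)) - t / (ξ - 1)) (t / (ξ - 1))
  rw [sub_add_cancel, hinv, right_eq_mul] at h
  rwa [← sub_one_mul, mul_div_cancel₀ t (sub_ne_zero.2 hξ)] at h

variable [Fintype K] {q : ℕ}

/-- The elements of norm one. -/
def Norm1 (q : ℕ) (K : Type*) [Field K] : Set K := {x | x * x ^ q * (x ^ q) ^ q = 1}

variable (hq : 2 ≤ q) (hK : Nat.card K = q ^ 3) {μ : Subgroup Kˣ} (hμ : Nat.card μ = q ^ 2 + q + 1)

include hq hK hμ

theorem subring_eq_top (S : Subring K) (hS : ∀ x ∈ μ, (x : K) ∈ S) : S = ⊤ := by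
  classical
  by_contra h
  haveI : Fintype S := Fintype.ofFinite S
  letI : Field S := Fintype.fieldOfDomain S
  letI : Algebra S K := S.subtype.toAlgebra
  have hc := Module.card_eq_pow_finrank (K := S) (V := K)
  have hd : 2 ≤ Module.finrank S K := by
    rcases Nat.lt_or_ge (Module.finrank S K) 2 with h2 | h2
    · exfalso
      apply h
      have : Fintype.card S = Fintype.card K := by
        have h0 : 0 < Module.finrank S K := Module.finrank_pos
        rw [hc, show Module.finrank S K = 1 by omega, pow_one]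
      refine SetLike.coe_injective (Set.eq_of_subset_of_ncard_le (Set.subset_univ _) ?_)
      rw [← Nat.card_coe_set_eq, ← Nat.card_coe_set_eq, Nat.card_eq_fintype_card, Nat.card_eq_fintype_card]
      simpa using this.ge
    · exact h2
  have hS' : q ^ 2 + q + 1 ≤ Fintype.card S := by
    rw [← hμ, ← Nat.card_eq_fintype_card]
    exact Nat.card_le_card_of_injective (fun x : μ => (⟨((x : Kˣ) : K), hS x x.2⟩ : S))
      fun a b e => Subtype.ext (Units.ext (congrArg (fun y : S => (y : K)) e))
  have h2 : Fintype.card S ^ 2 ≤ q ^ 3 := by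
    rw [← hK, Nat.card_eq_fintype_card, hc]
    exact Nat.pow_le_pow_right (by omega) hd
  have h3 : (q ^ 2 + q + 1) ^ 2 ≤ q ^ 3 := (Nat.pow_le_pow_left hS' 2).trans h2
  nlinarith [Nat.pow_le_pow_left hq 3]

/-- A pairing invariant under (ξ, ξ⁻¹) factors through the product. -/
theorem pair_product (z : K → K → M) (hl : ∀ a b u, z (a + b) u = z a u * z b u)
    (hr : ∀ t a b, z t (a + b) = z t a * z t b)
    (hinv : ∀ x ∈ μ, ∀ t u, z ((x : K) * t) u = z t ((x : K) * u)) (t u : K) : z t u = z 1 (t * u) := by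
  have h0 : ∀ u, z 0 u = 1 := fun u => by
    have := hl 0 0 u; rwa [add_zero, left_eq_mul] at this
  have h0' : ∀ t, z t 0 = 1 := fun t => by
    have := hr t 0 0; rwa [add_zero, left_eq_mul] at this
  let S : Subring K :=
    { carrier := {a | ∀ t u, z (a * t) u = z t (a * u)}
      mul_mem' := fun {a b} ha hb t u => by rw [mul_assoc, ha, hb]; congr 1; ring
      one_mem' := fun t u => by rw [one_mul, one_mul]
      add_mem' := fun {a b} ha hb t u => by rw [add_mul, add_mul, hl, hr, ha, hb]
      zero_mem' := fun t u => by rw [zero_mul, zero_mul, h0, h0']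
      neg_mem' := fun {a} ha t u => by
        rw [show -a * t = a * -t by ring, ha, show -a * u = -(a * u) by ring]
        refine mul_right_cancel (b := z t (a * u)) ?_
        rw [← hr, neg_add_cancel, h0']
        have := hl (-t) t (a * u)
        rw [neg_add_cancel, h0] at this
        exact this.symm }
  have hS : t ∈ S := by rw [subring_eq_top hq hK hμ S fun x hx => hinv x hx]; trivial
  have := hS 1 u
  rwa [mul_one] at this

/-- A pairing invariant under (ξ, ξ) is trivial. -/
theorem pair_trivial (z : K → K → M) (hl : ∀ a b u, z (a + b) u = z a u * z b u)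
    (hr : ∀ t a b, z t (a + b) = z t a * z t b)
    (hinv : ∀ x ∈ μ, ∀ t u, z ((x : K) * t) ((x : K) * u) = z t u) (t u : K) : z t u = 1 := by
  classical
  by_contra hne
  have h0 : ∀ u, z 0 u = 1 := fun u => by
    have := hl 0 0 u; rwa [add_zero, left_eq_mul] at this
  have h0' : ∀ t, z t 0 = 1 := fun t => by
    have := hr t 0 0; rwa [add_zero, left_eq_mul] at this
  have hn : ∀ t u, z (-t) u = z t (-u) := fun t u => by
    refine mul_right_cancel (b := z t u) ?_
    rw [← hl, neg_add_cancel, h0, ← hr, neg_add_cancel, h0']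
  let W : Subring (K × K) :=
    { carrier := {a | ∀ t u, z (a.1 * t) u = z t (a.2 * u)}
      mul_mem' := fun {a b} ha hb t u => by
        show z (a.1 * b.1 * t) u = z t (a.2 * b.2 * u)
        rw [mul_assoc, ha, hb]; congr 1; ring
      one_mem' := fun t u => by show z (1 * t) u = z t (1 * u); rw [one_mul, one_mul]
      add_mem' := fun {a b} ha hb t u => by
        show z ((a.1 + b.1) * t) u = z t ((a.2 + b.2) * u)
        rw [add_mul, add_mul, hl, hr, ha, hb]
      zero_mem' := fun t u => by show z (0 * t) u = z t (0 * u); rw [zero_mul, zero_mul, h0, h0']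
      neg_mem' := fun {a} ha t u => by
        show z (-a.1 * t) u = z t (-a.2 * u)
        rw [show -a.1 * t = a.1 * -t by ring, ha, hn, neg_mul] }
  have huniq : ∀ b, (0, b) ∈ W → b = 0 := by
    intro b hb
    by_contra hb0
    apply hne
    have := hb t (b⁻¹ * u)
    simp only at this
    rw [zero_mul, h0, ← mul_assoc, mul_inv_cancel₀ hb0, one_mul] at this
    exact this.symm
  have hall : ∀ a : K, ∃ b, (a, b) ∈ W := fun a => by
    have hmem : a ∈ W.map (RingHom.fst K K) := by
      rw [subring_eq_top hq hK hμ (W.map (RingHom.fst K K)) fun x hx => ?_]; · trivial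
      refine ⟨((x : K), ((x⁻¹ : Kˣ) : K)), fun t u => ?_, rfl⟩
      show z ((x : K) * t) u = z t (((x⁻¹ : Kˣ) : K) * u)
      conv_lhs => rw [← Units.mul_inv_cancel_left x u]
      exact hinv x hx _ _
    obtain ⟨⟨a', b⟩, hb, rfl⟩ := hmem
    exact ⟨b, hb⟩
  choose f hf using hall
  have huq : ∀ a b, (a, b) ∈ W → f a = b := fun a b hb => by
    have := W.sub_mem (hf a) hb
    rw [Prod.mk_sub_mk, sub_self] at this
    exact sub_eq_zero.1 (huniq _ this)
  let φ : K →+* K :=
    { toFun := f
      map_one' := huq _ _ W.one_mem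
      map_mul' := fun a b => huq _ _ (W.mul_mem (hf a) (hf b))
      map_zero' := huq _ _ W.zero_mem
      map_add' := fun a b => huq _ _ (W.add_mem (hf a) (hf b)) }
  have hφμ : ∀ x ∈ μ, φ (x : K) = ((x⁻¹ : Kˣ) : K) := fun x hx => huq _ _ fun t u => by
    show z ((x : K) * t) u = z t (((x⁻¹ : Kˣ) : K) * u)
    conv_lhs => rw [← Units.mul_inv_cancel_left x u]
    exact hinv x hx _ _
  have hφ2 : ∀ a, φ (φ a) = a := by
    have := subring_eq_top hq hK hμ ((φ.comp φ).eqLocus (RingHom.id K)) fun x hx => by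
      show φ (φ (x : K)) = x
      rw [hφμ x hx, hφμ _ (inv_mem hx), inv_inv]
    exact fun a => show a ∈ (φ.comp φ).eqLocus (RingHom.id K) by rw [this]; trivial
  let k : Subring K := φ.eqLocus (RingHom.id K)
  let tr : K →+ K :=
    { toFun := fun x => x + φ x
      map_zero' := by simp
      map_add' := fun a b => by rw [map_add]; ring }
  have hkbig : Nat.card K ≤ Nat.card k * Nat.card k := by
    have h1 : Nat.card tr.range ≤ Nat.card k :=
      Nat.card_le_card_of_injective (fun y : tr.range => (⟨(y : K), by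
        obtain ⟨x, hx⟩ := y.2
        show φ (y : K) = y
        rw [← hx]
        show φ (x + φ x) = x + φ x
        rw [map_add, hφ2, add_comm]⟩ : k)) fun a b e => Subtype.ext (congrArg (fun y : k => (y : K)) e)
    have h2 : Nat.card tr.ker ≤ Nat.card k := by
      by_cases hd : ∃ δ : K, δ ≠ 0 ∧ φ δ = -δ
      · obtain ⟨δ, hδ0, hδ⟩ := hd
        refine Nat.card_le_card_of_injective (fun y : tr.ker => (⟨(y : K) / δ, ?_⟩ : k)) fun a b e =>
          Subtype.ext ((div_left_inj' hδ0).1 (congrArg (fun y : k => (y : K)) e))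
        show φ ((y : K) / δ) = (y : K) / δ
        have hy : (y : K) + φ y = 0 := y.2
        rw [map_div₀, hδ, eq_neg_of_add_eq_zero_right hy, neg_div_neg_eq]
      · simp only [not_exists, not_and] at hd
        have hker : tr.ker = ⊥ := by
          rw [AddSubgroup.eq_bot_iff_forall]
          intro y hy
          by_contra hy0
          exact hd y hy0 (eq_neg_of_add_eq_zero_right hy)
        rw [hker, AddSubgroup.card_bot]
        exact Nat.card_pos
    have e := AddSubgroup.card_eq_card_quotient_mul_card_addSubgroup tr.ker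
    rw [Nat.card_congr (QuotientAddGroup.quotientKerEquivRange tr).toEquiv] at e
    rw [e]
    exact Nat.mul_le_mul h1 h2
  let T : Set Kˣ := {x | φ (x : K) = x}
  have hTk : Nat.card k ≤ Nat.card T + 1 := by
    classical
    have : Nat.card k ≤ Nat.card (Option T) := Nat.card_le_card_of_injective
      (fun y : k => if h : (y : K) = 0 then none else some (⟨Units.mk0 (y : K) h, y.2⟩ : T)) fun a b e => by
        dsimp only at e
        split_ifs at e with ha hb hb
        · exact Subtype.ext (ha.trans hb.symm)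
        · exact Subtype.ext (congrArg (fun z : T => ((z : Kˣ) : K)) (Option.some.inj e))
    rwa [Finite.card_option] at this
  have hμT : Nat.card T * (q ^ 2 + q + 1) ≤ q ^ 3 - 1 := by
    rw [← hμ, ← Nat.card_prod, ← hK, ← Nat.card_units]
    refine Nat.card_le_card_of_injective (fun y : T × μ => (y.1 : Kˣ) * (y.2 : Kˣ)) fun a b e => ?_
    obtain ⟨⟨a1, ha1⟩, ⟨a2, ha2⟩⟩ := a
    obtain ⟨⟨b1, hb1⟩, ⟨b2, hb2⟩⟩ := b
    simp only at e
    obtain ⟨d, hd⟩ : ∃ d, d = b2 * a2⁻¹ := ⟨_, rfl⟩
    have hdμ : d ∈ μ := hd ▸ mul_mem hb2 (inv_mem ha2)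
    have hd' : d = a1 * b1⁻¹ := by
      rw [hd, eq_mul_inv_iff_mul_eq, mul_right_comm, mul_inv_eq_iff_eq_mul, mul_comm b2 b1]
      exact e.symm
    have hdφ : φ (d : K) = d := by
      rw [hd', Units.val_mul, map_mul, Units.val_inv_eq_inv_val, map_inv₀,
        show φ (a1 : K) = a1 from ha1, show φ (b1 : K) = b1 from hb1]
    have hdd : d⁻¹ = d := Units.ext ((hφμ d hdμ).symm.trans hdφ)
    have hd2 : d ^ 2 = 1 := by rw [pow_two]; nth_rewrite 1 [← hdd]; rw [inv_mul_cancel]
    have hodd : Nat.Coprime (Nat.card μ) 2 := by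
      rw [hμ, Nat.coprime_two_right]
      obtain ⟨c, hc⟩ := Nat.even_mul_succ_self q
      exact ⟨c, by linarith [show q * (q + 1) = q ^ 2 + q by ring]⟩
    have hd1 : d = 1 := orderOf_eq_one_iff.1 (Nat.eq_one_of_dvd_coprimes hodd
      (Subgroup.orderOf_coe (⟨d, hdμ⟩ : μ) ▸ orderOf_dvd_natCard _) (orderOf_dvd_of_pow_eq_one hd2))
    rw [hd1] at hd'
    have e1 : a1 = b1 := mul_inv_eq_one.1 hd'.symm
    subst e1
    exact Prod.ext rfl (Subtype.ext (mul_left_cancel e))
  have h3 : q ^ 3 ≤ Nat.card k * Nat.card k := hK ▸ hkbig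
  have hTq : Nat.card T + 1 ≤ q := by
    by_contra hc
    have h5 := Nat.mul_le_mul_right (q ^ 2 + q + 1) (show q ≤ Nat.card T by omega)
    have h6 : q * (q ^ 2 + q + 1) ≤ q ^ 3 - 1 := h5.trans hμT
    have h7 : q ^ 3 - 1 ≤ q ^ 3 := Nat.sub_le _ _
    nlinarith
  have h4 : Nat.card k * Nat.card k ≤ q * q := Nat.mul_le_mul (hTk.trans hTq) (hTk.trans hTq)
  nlinarith

end Cfsg.Agent.Lie.TwistMult
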