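import Cfsg.Agent.Lib.Lie.TwistMult.D4Rank
import Cfsg.Agent.Lib.Lie.TwistPair
import Cfsg.Agent.Lib.Solv.SplitBNRank

/-!
Twisted groups of any rank whose orbit subgroups are images of SL₂ over subfields: the kernel of a stem extension
of order prime to the characteristic is bounded by the tori of these subgroups.
-/

set_option autoImplicit false
set_option maxRecDepth 4000
set_option linter.unusedSectionVars false

namespace Cfsg.Agent.Lie.TwistMult.RankOrbit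

open Cfsg.Lie Cfsg.Agent.Lie Matrix
open Cfsg.Agent.Lie.TwistMult.D4 (dgS ant_up_eq lo_eq sl_cases)
open Cfsg.Agent.Solv.SplitBNStem (IsP lift_unique exists_section exists_sl2Lift closure_up_lo)
open Cfsg.Agent.Solv.SplitBNRank
open scoped MatrixGroups

variable {D : ChevalleyDatum} {F : Type*} [Field F] [Finite F] {hF : Facts D} {T : Twist hF F}
  {Os : List (List (Fin D.rank))} (X : TwData T Os) {ι : Type*}

/-- The torus of the twisted group. -/
noncomputable def Hsub : Subgroup ↥X.G1 := ((hF.tsys F).H).subgroupOf X.G1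

/-- The unipotent radical of the Borel subgroup. -/
noncomputable def Usub : Subgroup ↥X.G1 := ((hF.tsys F).U).subgroupOf X.G1

/-- An element lies over a Weyl group element. -/
def Over (g : ↥X.G1) (w : hF.weyl) : Prop :=
  ∃ a ∈ (hF.tsys F).H, (g : GL D.Idx F) = a * (hF.tsys F).nW w

/-- The roots of one orbit go to the roots of another. -/
def Maps (ω ω' : List (Fin D.rank)) (z : hF.weyl) : Prop :=
  ∀ r, (h : r < D.nroots) → r ∈ orbL D (ω.map Fin.val) →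
    (z • (⟨r, h⟩ : Fin D.nroots) : Fin D.nroots).val ∈ orbL D (ω'.map Fin.val)

/-- Subgroups SL₂ over subfields, one for each orbit. -/
structure Ranks (O : ι → List (Fin D.rank)) (k : ι → Subfield F)
    (φ : ∀ e, Matrix.SpecialLinearGroup (Fin 2) (k e) →* ↥X.G1) (M : CoxeterMatrix ι) : Prop where
  mem : ∀ e, O e ∈ Os
  cover : ∀ ω ∈ Os, ∃ e, O e = ω
  ne : ∀ e, O e ≠ []
  up_mem : ∀ e t, (φ e (upS t) : GL D.Idx F) ∈ (hF.tsys F).US (orbL D ((O e).map Fin.val))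
  up_surj : ∀ e (x : ↥X.G1), (x : GL D.Idx F) ∈ (hF.tsys F).US (orbL D ((O e).map Fin.val)) →
    ∃ t, φ e (upS t) = x
  up_inj : ∀ e t, φ e (upS t) = 1 → t = 0
  dg : ∀ e u, φ e (dgS u) ∈ Hsub X
  dg_inj : ∀ e u, φ e (dgS u) = 1 → u = 1
  ant : ∀ e, Over X (φ e antS) (T.wO (O e))
  H_gen : Hsub X ≤ Subgroup.closure {y | ∃ e u, y = φ e (dgS u)}
  cox : ∀ i j, (T.wO (O i) * T.wO (O j)) ^ M i j = 1
  braid : ∀ i j, (i = j ∧ M i j = 1) ∨ (M i j = 2 ∧ Maps (O j) (O j) (T.wO (O i))) ∨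
    (M i j = 3 ∧ Maps (O i) (O j) (T.wO (O i) * T.wO (O j))) ∨
    (M i j = 4 ∧ Maps (O j) (O j) (T.wO (O i) * T.wO (O j) * T.wO (O i)))

variable {X}

theorem upS_zero {E : Type*} [Field E] : (upS (0 : E) : Matrix.SpecialLinearGroup (Fin 2) E) = 1 := by
  ext i j; fin_cases i <;> fin_cases j <;> simp [upS]

theorem upS_add {E : Type*} [Field E] (a b : E) :
    (upS a * upS b : Matrix.SpecialLinearGroup (Fin 2) E) = upS (a + b) := by
  ext i j; simp only [Matrix.SpecialLinearGroup.coe_mul]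
  fin_cases i <;> fin_cases j <;> simp [upS, Matrix.mul_apply, Fin.sum_univ_two, add_comm]

theorem dgS_one {E : Type*} [Field E] : (dgS 1 : Matrix.SpecialLinearGroup (Fin 2) E) = 1 := by
  ext i j; fin_cases i <;> fin_cases j <;> simp [dgS]

theorem over_one {h : ↥X.G1} (hh : h ∈ Hsub X) : Over X h 1 :=
  ⟨h * ((hF.tsys F).nW 1)⁻¹, mul_mem hh (inv_mem (hF.tsys F).nW_one), (inv_mul_cancel_right _ _).symm⟩

theorem over_mul {g g' : ↥X.G1} {w w' : hF.weyl} (h : Over X g w) (h' : Over X g' w') :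
    Over X (g * g') (w * w') := by
  obtain ⟨a, ha, hg⟩ := h
  obtain ⟨b, hb, hg'⟩ := h'
  obtain ⟨c, hc, hce⟩ := hF.nW_mul (F := F) w w'
  refine ⟨a * ((hF.tsys F).nW w * b * ((hF.tsys F).nW w)⁻¹) * c,
    mul_mem (mul_mem ha ((hF.tsys F).nW_H hb)) hc, ?_⟩
  rw [Subgroup.coe_mul, hg, hg', mul_assoc (a * _) c, ← hce]
  group

theorem over_mem {g : ↥X.G1} {w : hF.weyl} (h : Over X g w) : (g : GL D.Idx F) ∈ D.monomialSubgroup F := by
  obtain ⟨a, ha, hg⟩ := h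
  exact (hF.mem_monomial (F := F)).2 ⟨a, ha, w, hg⟩

theorem over_unique {g : ↥X.G1} {w w' : hF.weyl} (h : Over X g w) (h' : Over X g w') : w = w' := by
  obtain ⟨a, ha, hg⟩ := h
  obtain ⟨b, hb, hg'⟩ := h'
  exact hF.nW_eq_of_mul ha hb (hg.symm.trans hg')

theorem mem_H_iff {g : ↥X.G1} {w : hF.weyl} (h : Over X g w) : g ∈ Hsub X ↔ w = 1 := by
  refine ⟨fun hg => over_unique h (over_one hg), ?_⟩
  rintro rfl
  obtain ⟨a, ha, hg⟩ := h
  show (g : GL D.Idx F) ∈ (hF.tsys F).H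
  rw [hg]
  exact mul_mem ha (hF.tsys F).nW_one

theorem over_inv {g : ↥X.G1} {w : hF.weyl} (h : Over X g w) : Over X g⁻¹ w⁻¹ := by
  have hm : ((g⁻¹ : ↥X.G1) : GL D.Idx F) ∈ D.monomialSubgroup F := inv_mem (over_mem h)
  obtain ⟨a, ha, v, hv⟩ := (hF.mem_monomial (F := F)).1 hm
  have h1 : Over X (g * g⁻¹) (w * v) := over_mul h ⟨a, ha, hv⟩
  rw [mul_inv_cancel] at h1
  rw [← eq_inv_of_mul_eq_one_right (over_unique h1 (over_one (one_mem _)))]
  exact ⟨a, ha, hv⟩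

/-- Conjugation of root subgroups by an element over a Weyl group element. -/
theorem conj_over {g : ↥X.G1} {w : hF.weyl} (hg : Over X g w) {L L' : List ℕ}
    (h : ∀ s ∈ L, ∃ h : s < D.nroots, (w • (⟨s, h⟩ : Fin D.nroots) : Fin D.nroots).val ∈ L')
    {y : GL D.Idx F} (hy : y ∈ (hF.tsys F).US L) :
    (g : GL D.Idx F) * y * (g : GL D.Idx F)⁻¹ ∈ (hF.tsys F).US L' := by
  obtain ⟨a, ha, he⟩ := over_inv hg
  have := hF.conj_nW_US ha w⁻¹ (L := L) (L' := L') (fun s hs => by rw [inv_inv]; exact h s hs) hy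
  rwa [← he, Subgroup.coe_inv, inv_inv] at this

theorem H_comm {a b : ↥X.G1} (ha : a ∈ Hsub X) (hb : b ∈ Hsub X) : a * b = b * a := by
  have ha' : (a : GL D.Idx F) ∈ (torus D F).range := by rw [← hF.diagonalSubgroup_eq, ← hF.tsys_H]; exact ha
  have hb' : (b : GL D.Idx F) ∈ (torus D F).range := by rw [← hF.diagonalSubgroup_eq, ← hF.tsys_H]; exact hb
  obtain ⟨c, hc⟩ := ha'
  obtain ⟨d, hd⟩ := hb'
  refine Subtype.ext ?_
  rw [Subgroup.coe_mul, Subgroup.coe_mul, ← hc, ← hd, ← map_mul, ← map_mul, mul_comm]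

variable {O : ι → List (Fin D.rank)} {k : ι → Subfield F}
  {φ : ∀ e, Matrix.SpecialLinearGroup (Fin 2) (k e) →* ↥X.G1} {M : CoxeterMatrix ι} (P : Ranks X O k φ M)

include P

theorem orb_U (e : ι) {x : GL D.Idx F} (hx : x ∈ (hF.tsys F).US (orbL D ((O e).map Fin.val))) :
    x ∈ (hF.tsys F).U :=
  CommSys.US_mono _ (fun r hr => Facts.mem_posL.2 (T.mem_orbL hr)) hx

theorem nH (e : ι) {h : ↥X.G1} (hh : h ∈ Hsub X) :
    φ e antS * h * (φ e antS)⁻¹ ∈ Hsub X ∧ (φ e antS)⁻¹ * h * φ e antS ∈ Hsub X := by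
  refine ⟨(mem_H_iff (over_mul (over_mul (P.ant e) (over_one hh)) (over_inv (P.ant e)))).2 ?_,
    (mem_H_iff (over_mul (over_mul (over_inv (P.ant e)) (over_one hh)) (P.ant e))).2 ?_⟩ <;> simp

theorem lo_mem (e : ι) (t : k e) :
    (φ e (loS t) : GL D.Idx F) ∈ (hF.tsys F).US (Twist.negL D (O e)) := by
  rw [lo_eq, map_mul, map_mul, map_inv, Subgroup.coe_mul, Subgroup.coe_mul, Subgroup.coe_inv]
  refine conj_over (P.ant e) (fun s hs => ⟨(T.mem_orbL hs).2, ?_⟩) (P.up_mem e _)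
  obtain ⟨-, h2⟩ := T.wO_L X.hOs (P.mem e) (r := ⟨s, (T.mem_orbL hs).2⟩) hs
  exact List.mem_map.2 ⟨_, h2, hF.neg_neg (Fin.isLt _)⟩

theorem lo_surj (e : ι) (x : ↥X.G1) (hx : (x : GL D.Idx F) ∈ (hF.tsys F).US (Twist.negL D (O e))) :
    ∃ t, φ e (loS t) = x := by
  obtain ⟨t, ht⟩ := P.up_surj e ((φ e antS)⁻¹ * x * φ e antS) (by
    rw [Subgroup.coe_mul, Subgroup.coe_mul, Subgroup.coe_inv, ← inv_inv (φ e antS : GL D.Idx F)]
    rw [show ((φ e antS : ↥X.G1) : GL D.Idx F)⁻¹⁻¹⁻¹ * (x : GL D.Idx F) *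
      ((φ e antS : ↥X.G1) : GL D.Idx F)⁻¹⁻¹ = (((φ e antS)⁻¹ : ↥X.G1) : GL D.Idx F) * x *
        (((φ e antS)⁻¹ : ↥X.G1) : GL D.Idx F)⁻¹ by simp]
    refine conj_over (over_inv (P.ant e)) (fun s hs => ?_) hx
    obtain ⟨r, hr, rfl⟩ := List.mem_map.1 hs
    have hr2 := (T.mem_orbL hr).2
    refine ⟨hF.neg_lt hr2, ?_⟩
    rw [inv_eq_of_mul_eq_one_right (T.wO_sq X.hOs (P.mem e))]
    obtain ⟨-, h2⟩ := T.wO_L X.hOs (P.mem e) (r := ⟨r, hr2⟩) hr
    show (T.wO (O e) • hF.refSys.neg ⟨r, hr2⟩ : Fin D.nroots).val ∈ _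
    rw [RefSystem.smul_neg]
    exact h2)
  refine ⟨-t, ?_⟩
  rw [lo_eq, neg_neg, map_mul, map_mul, map_inv, ht]
  group

theorem mem_H_dg (e : ι) {g : Matrix.SpecialLinearGroup (Fin 2) (k e)} (h : φ e g ∈ Hsub X) :
    ∃ u, g = dgS u := by
  have hU : ∀ t, (φ e (upS t) : GL D.Idx F) ∈ (hF.tsys F).U := fun t => orb_U P e (P.up_mem e t)
  rcases sl_cases g with ⟨u, x, rfl⟩ | ⟨a, u, b, rfl⟩
  · refine ⟨u, ?_⟩
    rw [map_mul] at h
    have hx : φ e (upS x) = 1 :=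
      Subtype.ext (hF.U_inter_H (hU x) ((Subgroup.mul_mem_cancel_left _ (P.dg e u)).1 h))
    rw [P.up_inj e x hx, upS_zero, mul_one]
  · exfalso
    rw [map_mul, map_mul, map_mul] at h
    have hn : (φ e antS : GL D.Idx F) ∈ (hF.tsys F).B := by
      have h' : ((φ e (upS a) * φ e (dgS u) * φ e antS * φ e (upS b) : ↥X.G1) : GL D.Idx F) ∈ (hF.tsys F).B :=
        (hF.tsys F).H_le_B h
      rw [Subgroup.coe_mul, Subgroup.coe_mul, Subgroup.coe_mul] at h'
      refine (Subgroup.mul_mem_cancel_left _ (mul_mem ((hF.tsys F).U_le_B (hU a))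
        ((hF.tsys F).H_le_B (P.dg e u)))).1 ?_
      exact (Subgroup.mul_mem_cancel_right _ ((hF.tsys F).U_le_B (hU b))).1 h'
    obtain ⟨c, hc, he⟩ := P.ant e
    obtain ⟨hw, -, -⟩ := hF.bruhat_unique (F := F) (w := T.wO (O e)) (v := 1) (b := c) (u := 1)
      (b' := (φ e antS : GL D.Idx F) * ((hF.tsys F).nW 1)⁻¹) (u' := 1) ((hF.tsys F).H_le_B hc)
      (mul_mem hn ((hF.tsys F).H_le_B (inv_mem (hF.tsys F).nW_one))) (one_mem _) (one_mem _)
      (by rw [inv_mul_cancel_right, he])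
    obtain ⟨i, hi⟩ := List.exists_mem_of_ne_nil _ (P.ne e)
    have hpos : hF.refSys.α i ∈ hF.refSys.P := by
      simpa [Facts.refSys] using hF.simple_ge i.val i.isLt
    have hm : (hF.refSys.α i : Fin D.nroots).val ∈ orbL D ((O e).map Fin.val) := by
      refine (T.orbL_iff X.hOs (P.mem e) (hF.refSys.α i).isLt (hF.simple_ge i.val i.isLt)).2 ?_
      exact (hF.inRootSub_simple (nodeSet (O e)) i.isLt).2 (List.mem_map.2 ⟨i, hi, rfl⟩)
    exact (T.wO_neg X.hOs (P.mem e) hpos).2 hm (by rw [hw, one_smul]; exact hpos)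

theorem inj (e : ι) : Function.Injective (φ e) := by
  rw [injective_iff_map_eq_one]
  intro g hg
  obtain ⟨u, rfl⟩ := mem_H_dg P e (g := g) (by rw [hg]; exact one_mem _)
  rw [P.dg_inj e u hg, dgS_one]

section Lift

variable {Γ : Type*} [Group Γ] [Finite Γ] (σ : Γ →* ↥X.G1) {p : ℕ} [Fact p.Prime]

variable (hc : σ.ker ≤ Subgroup.center Γ) (hp' : ¬ p ∣ Nat.card σ.ker)
  {ψ : ∀ e, Matrix.SpecialLinearGroup (Fin 2) (k e) →* Γ}
  (hψ : ∀ e, (∀ g, σ (ψ e g) = φ e g) ∧ (∀ t, IsP p (ψ e (upS t))) ∧ ∀ t, IsP p (ψ e (loS t)))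

include hc hp' hψ in
theorem conj_range {i j : ι} {g : Γ} {z : hF.weyl} (hg : Over X (σ g) z) (hz : Maps (O i) (O j) z) :
    ∀ a ∈ (ψ i).range, g * a * g⁻¹ ∈ (ψ j).range := by
  have hle : (⊤ : Subgroup (Matrix.SpecialLinearGroup (Fin 2) (k i))) ≤
      ((ψ j).range.comap ((MulAut.conj g).toMonoidHom.comp (ψ i))) := by
    rw [← closure_up_lo, Subgroup.closure_le]
    rintro _ (⟨t, rfl⟩ | ⟨t, rfl⟩)
    · obtain ⟨t', h⟩ := P.up_surj j (σ g * φ i (upS t) * (σ g)⁻¹) (by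
        rw [Subgroup.coe_mul, Subgroup.coe_mul, Subgroup.coe_inv]
        exact conj_over hg (fun s hs => ⟨(T.mem_orbL hs).2, hz s _ hs⟩) (P.up_mem i t))
      exact ⟨upS t', lift_unique σ hc hp' (by simp [(hψ i).1, (hψ j).1, h]) ((hψ j).2.1 t')
        (((hψ i).2.1 t).conj g)⟩
    · obtain ⟨t', h⟩ := lo_surj P j (σ g * φ i (loS t) * (σ g)⁻¹) (by
        rw [Subgroup.coe_mul, Subgroup.coe_mul, Subgroup.coe_inv]
        refine conj_over hg (fun s hs => ?_) (lo_mem P i t)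
        obtain ⟨r, hr, rfl⟩ := List.mem_map.1 hs
        have hr2 := (T.mem_orbL hr).2
        refine ⟨hF.neg_lt hr2, ?_⟩
        show (z • hF.refSys.neg ⟨r, hr2⟩ : Fin D.nroots).val ∈ _
        rw [RefSystem.smul_neg]
        exact List.mem_map.2 ⟨_, hz r hr2 hr, rfl⟩)
      exact ⟨loS t', lift_unique σ hc hp' (by simp [(hψ i).1, (hψ j).1, h]) ((hψ j).2.2 t')
        (((hψ i).2.2 t).conj g)⟩
  rintro a ⟨x, rfl⟩
  exact hle (Subgroup.mem_top x)

include hc hp' hψ in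
theorem tori : Tori σ (Hsub X) (fun e => (ψ e).range) (fun e => ψ e antS) where
  n_mem e := ⟨antS, rfl⟩
  sq e := by
    rw [map_mul, (hψ e).1, mem_H_iff (over_mul (P.ant e) (P.ant e)), T.wO_sq X.hOs (P.mem e)]
  H_comm a ha b hb := H_comm ha hb
  inj e g hg h1 := by
    obtain ⟨x, rfl⟩ := hg
    rw [(hψ e).1] at h1
    rw [(injective_iff_map_eq_one _).1 (inj P e) x h1, map_one]
  norm e g hg a ha :=
    conj_range P σ hc hp' hψ (over_one hg) (fun r h hr => by rw [one_smul]; exact hr) a ha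
  nH e a ha := by rw [(hψ e).1]; exact (nH P e ha).1

theorem card_part (e : ι) {ψe : Matrix.SpecialLinearGroup (Fin 2) (k e) →* Γ}
    (h : ∀ g, σ (ψe g) = φ e g) :
    Nat.card ↥(ψe.range ⊓ (Hsub X).comap σ) = Nat.card (k e)ˣ := by
  have hm : ∀ u, ψe (dgS u) ∈ ψe.range ⊓ (Hsub X).comap σ := fun u =>
    Subgroup.mem_inf.2 ⟨⟨_, rfl⟩, by rw [Subgroup.mem_comap, h]; exact P.dg e u⟩
  refine (Nat.card_eq_of_bijective (fun u => (⟨_, hm u⟩ : ↥(ψe.range ⊓ (Hsub X).comap σ))) ⟨?_, ?_⟩).symm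
  · intro u v huv
    have h' : φ e (dgS u) = φ e (dgS v) := by rw [← h, ← h]; exact congrArg σ (congrArg Subtype.val huv)
    have := inj P e h'
    exact Units.ext (by simpa [dgS] using congrFun (congrFun (congrArg Subtype.val this) 0) 0)
  · rintro ⟨_, ⟨x, rfl⟩, hx⟩
    change σ (ψe x) ∈ Hsub X at hx
    rw [h] at hx
    obtain ⟨u, rfl⟩ := mem_H_dg P e hx
    exact ⟨u, rfl⟩

end Lift

/-- The kernel of a stem extension of order prime to the characteristic. -/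
theorem card_ker_mul_dvd [Fintype ι] [Finite M.Group] (hM : Nat.card M.Group ≤ Nat.card ↥X.piW)
    {Γ : Type*} [Group Γ] [Finite Γ] (σ : Γ →* ↥X.G1) (hσ : Cfsg.IsStemExtension σ) {p : ℕ} [Fact p.Prime]
    (hpF : (p : F) = 0) (hU : IsPGroup p ↥(Usub X)) (hp' : ¬ p ∣ Nat.card σ.ker) :
    Nat.card σ.ker * Nat.card ↥(Hsub X) ∣ ∏ e, Nat.card (k e)ˣ := by
  obtain ⟨hs, hc, hd⟩ := hσ
  obtain ⟨s, hsec⟩ := exists_section σ hs hc hp' (Usub X) hU
  choose ψ hψ using fun e => exists_sl2Lift hs hc hp' (Subtype.ext (by simpa using hpF) : ((p : k e)) = 0) (φ e)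
  obtain ⟨R, hR⟩ : ∃ R : ι → Subgroup Γ, R = fun e => (ψ e).range := ⟨_, rfl⟩
  obtain ⟨n, hn⟩ : ∃ n : ι → Γ, n = fun e => ψ e antS := ⟨_, rfl⟩
  have T0 : Tori σ (Hsub X) R n := hR ▸ hn ▸ tori P σ hc hp' hψ
  have hne : ∀ e, σ (n e) = φ e antS := fun e => by rw [hn]; exact (hψ e).1 _
  have hnO : ∀ e, Over X (σ (n e)) (T.wO (O e)) := fun e => by rw [hne]; exact P.ant e
  obtain ⟨N, hN⟩ : ∃ N, N = Mon σ (Hsub X) R n := ⟨_, rfl⟩
  have hov : ∀ g : N, ∃ w : ↥X.piW, Over X (σ g) w.1 := by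
    suffices h : ∀ g ∈ N, ∃ w : ↥X.piW, Over X (σ g) w.1 from fun g => h g g.2
    intro g hg
    rw [hN] at hg
    induction hg using Subgroup.closure_induction with
    | mem x hx =>
      rcases hx with ⟨e, rfl⟩ | hx
      · exact ⟨⟨_, T.piFix_wO X.hOs (P.mem e)⟩, hnO e⟩
      · exact ⟨1, over_one (Tor_le_comap (σ := σ) hx)⟩
    | one => exact ⟨1, by rw [map_one]; exact over_one (one_mem _)⟩
    | mul a b _ _ iha ihb =>
      obtain ⟨w, hw⟩ := iha
      obtain ⟨v, hv⟩ := ihb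
      exact ⟨w * v, by rw [map_mul]; exact over_mul hw hv⟩
    | inv a _ iha =>
      obtain ⟨w, hw⟩ := iha
      exact ⟨w⁻¹, by rw [map_inv]; exact over_inv hw⟩
  choose w hw using hov
  let χ : N →* ↥X.piW := MonoidHom.mk' w fun a b => Subtype.ext (over_unique (hw (a * b))
    (by rw [Subgroup.coe_mul, map_mul]; exact over_mul (hw a) (hw b)))
  have hnN : ∀ e, n e ∈ N := fun e => hN ▸ n_mem_Mon e
  have hχ : Function.Surjective χ := by
    suffices h : ∀ v : hF.weyl, T.PiFix v → ∃ g : N, (χ g).1 = v from fun v =>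
      (h v.1 v.2).imp fun _ hg => Subtype.ext hg
    refine T.piFix_induction X.hOs ⟨1, by rw [map_one]; rfl⟩ ?_
    rintro ω hω v - - - - ⟨g, rfl⟩
    obtain ⟨e, rfl⟩ := P.cover ω hω
    refine ⟨g * ⟨n e, hnN e⟩, ?_⟩
    rw [map_mul]
    exact congrArg ((χ g).1 * ·) (over_unique (hw _) (hnO e))
  have hker : ∀ g : N, χ g = 1 ↔ σ g ∈ Hsub X := fun g => by
    rw [mem_H_iff (hw g)]; exact Subtype.ext_iff
  have hiff : ∀ {g : Γ} {z : hF.weyl}, Over X (σ g) z → z = 1 → σ g ∈ Hsub X := fun h hz => (mem_H_iff h).2 hz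
  have hrel : ∀ i j, (n i * n j) ^ M i j ∈ Tor σ (Hsub X) R := by
    intro i j
    have hconj : ∀ {a b : ι} {g : Γ} {z : hF.weyl}, Over X (σ g) z → Maps (O a) (O b) z →
        ∀ x ∈ R a, g * x * g⁻¹ ∈ R b := by
      subst hR
      exact fun h1 h2 => conj_range P σ hc hp' hψ h1 h2
    have hoi := hnO i
    have hoj := hnO j
    have ei := inv_eq_of_mul_eq_one_right (T.wO_sq X.hOs (P.mem i))
    have ej := inv_eq_of_mul_eq_one_right (T.wO_sq X.hOs (P.mem j))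
    have hcox := P.cox i j
    rcases P.braid i j with ⟨rfl, h1⟩ | ⟨hm, hz⟩ | ⟨hm, hz⟩ | ⟨hm, hz⟩
    · rw [h1, pow_one]
      exact part_le_Tor i (Subgroup.mem_inf.2 ⟨mul_mem (T0.n_mem i) (T0.n_mem i), T0.sq i⟩)
    · rw [hm] at hcox ⊢
      refine T0.rel_two (conj_part (hconj hoi hz) (T0.n_mem j) (T0.n_mem j)
        (hiff (z := T.wO (O i) * T.wO (O j) * (T.wO (O i))⁻¹ * (T.wO (O j))⁻¹) ?_ ?_))
      · simp only [map_mul, map_inv]
        exact over_mul (over_mul (over_mul hoi hoj) (over_inv hoi)) (over_inv hoj)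
      · rw [ei, ej, ← hcox, pow_two]; group
    · rw [hm] at hcox ⊢
      refine T0.rel_three (conj_part (hconj (g := n i * n j) (by rw [map_mul]; exact over_mul hoi hoj) hz)
        (T0.n_mem i) (T0.n_mem j) (hiff (z := T.wO (O i) * T.wO (O j) * T.wO (O i) *
          (T.wO (O i) * T.wO (O j))⁻¹ * (T.wO (O j))⁻¹) ?_ ?_))
      · simp only [map_mul, map_inv]
        exact over_mul (over_mul (over_mul (over_mul hoi hoj) hoi) (over_inv (over_mul hoi hoj))) (over_inv hoj)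
      · rw [_root_.mul_inv_rev, ei, ej, ← hcox]
        simp only [pow_succ, pow_zero, one_mul, mul_assoc]
    · rw [hm] at hcox ⊢
      refine T0.rel_four (conj_part (hconj (g := n i * n j * n i)
        (by rw [map_mul, map_mul]; exact over_mul (over_mul hoi hoj) hoi) hz)
        (T0.n_mem j) (T0.n_mem j) (hiff (z := T.wO (O i) * T.wO (O j) * T.wO (O i) * T.wO (O j) *
          (T.wO (O i) * T.wO (O j) * T.wO (O i))⁻¹ * (T.wO (O j))⁻¹) ?_ ?_))
      · simp only [map_mul, map_inv]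
        exact over_mul (over_mul (over_mul (over_mul (over_mul hoi hoj) hoi) hoj)
          (over_inv (over_mul (over_mul hoi hoj) hoi))) (over_inv hoj)
      · rw [_root_.mul_inv_rev, _root_.mul_inv_rev, ei, ej, ← hcox]
        simp only [pow_succ, pow_zero, one_mul, mul_assoc]
  have hTor : ∀ g ∈ N, σ g ∈ Hsub X → g ∈ Tor σ (Hsub X) R := by
    subst hN
    exact fun g hg hH => T0.mem_Tor hrel hM χ hχ hker hg hH
  have hHT : Hsub X ≤ (Tor σ (Hsub X) R).map σ := by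
    refine P.H_gen.trans ((Subgroup.closure_le _).2 ?_)
    rintro y ⟨e, u, rfl⟩
    refine ⟨ψ e (dgS u), part_le_Tor e (Subgroup.mem_inf.2 ⟨?_, ?_⟩), (hψ e).1 _⟩
    · rw [hR]; exact ⟨_, rfl⟩
    · rw [Subgroup.mem_comap, (hψ e).1]; exact P.dg e u
  have hUm : ∀ {x : ↥X.G1}, (x : GL D.Idx F) ∈ (hF.tsys F).U → x ∈ Usub X := fun h => h
  have hUconj : ∀ {g : Γ}, σ g ∈ Hsub X → ∀ u ∈ Usub X, σ g * u * (σ g)⁻¹ ∈ Usub X := fun {g} hg u hu => by
    refine hUm ?_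
    rw [Subgroup.coe_mul, Subgroup.coe_mul, Subgroup.coe_inv]
    exact conj_over (over_one hg) (fun r hr => ⟨(Facts.mem_posL.1 hr).2, by rw [one_smul]; exact hr⟩) hu
  let Xe : ι → Subgroup ↥X.G1 := fun e => ((hF.tsys F).US (orbL D ((O e).map Fin.val))).subgroupOf X.G1
  have hXU : ∀ e, Xe e ≤ Usub X := fun e x hx => orb_U P e hx
  have hle : σ.ker ≤ Tor σ (Hsub X) R := by
    refine Data.ker_le (s := s) (Nt := N) (n := n) (X := Xe)
      { σs := fun u => (hsec u).1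
        conj_s := fun g u v h =>
          lift_unique σ hc hp' (by simp [(hsec u).1, (hsec v).1, h]) ((hsec u).2.conj g) (hsec v).2
        X_le := hXU
        n_mem := hnN
        H_le := hN ▸ Tor_le_Mon
        H_norm := fun g hg => hUconj (Tor_le_comap (σ := σ) hg)
        split := ?_
        side := ?_
        rank_one := ?_
        disj := ?_
        gen := ?_
        Nt_gen := hN ▸ le_rfl } hc hd
    · intro e u hu
      obtain ⟨w0, hw0, hL⟩ := T.exists_longest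
      obtain ⟨i, hi⟩ := List.exists_mem_of_ne_nil _ (P.ne e)
      have hneg : w0 • hF.refSys.α i ∉ hF.refSys.P := by
        have hm : (hF.refSys.α i : Fin D.nroots).val ∈ TorusSys.invList w0 := by
          rw [hL]; exact Facts.mem_posL.2 ⟨hF.simple_ge i.val i.isLt, (hF.refSys.α i).isLt⟩
        obtain ⟨_, hinv⟩ := TorusSys.mem_invList.1 hm
        exact ((RefSystem.mem_inv _).1 hinv).2
      obtain ⟨hv, hlen, hpos⟩ := T.split X.hOs (P.mem e) hw0 hi hneg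
      have hww : w0 * T.wO (O e) * T.wO (O e) = w0 := by rw [mul_assoc, T.wO_sq X.hOs (P.mem e), mul_one]
      have hS : T.SplitHyp (O e) (w0 * T.wO (O e)) :=
        ⟨hv, by rw [hww]; exact hw0, by rw [hww]; exact hlen, hpos⟩
      obtain ⟨a, ha, hae⟩ := hnO e
      have hnf : a * (hF.tsys F).nW (T.wO (O e)) ∈ T.fix := hae ▸ X.le_fix (σ (n e)).2
      obtain ⟨y, hy, hyf, x, hx, hxf, he⟩ := hS.fixed T (P.mem e) X.hOs ha hnf
        (g := (u : GL D.Idx F)) (by rw [hww, hL]; exact hu) (X.le_fix u.2)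
      have hxG : x ∈ X.G1 := X.orb_le _ (P.mem e) ⟨hx, hxf⟩
      have hyU : y ∈ (hF.tsys F).U := CommSys.US_mono _
        (fun r hr => Facts.mem_posL.2 ((TorusSys.closed_invList _).mem_pos r hr)) hy
      have hyG : y ∈ X.G1 := X.U_fix_le ⟨hyU, hyf⟩
      refine ⟨(σ (n e))⁻¹ * ⟨y, hyG⟩ * σ (n e), hUm ?_, ⟨x, hxG⟩, hx, Subtype.ext ?_, hUm ?_⟩
      · rw [Subgroup.coe_mul, Subgroup.coe_mul, Subgroup.coe_inv, hae]
        refine CommSys.US_mono _ (fun r hr => ?_) (T.conj_US X.hOs (P.mem e) ha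
          (fun r hr => (hS.wO_inv T (P.mem e) X.hOs r hr).imp fun _ h => h.1) hy).1
        exact Facts.mem_posL.2 ((TorusSys.closed_invList _).mem_pos r hr)
      · simp only [Subgroup.coe_mul, Subgroup.coe_inv, hae]
        exact he
      · simp only [Subgroup.coe_mul, Subgroup.coe_inv, mul_assoc, mul_inv_cancel_left, mul_inv_cancel, mul_one]
        exact hyU
    · intro e g hg
      obtain ⟨⟨z, hz⟩, hgz⟩ := hw ⟨g, hg⟩ |> fun h => (⟨w ⟨g, hg⟩, h⟩ : ∃ v : ↥X.piW, Over X (σ g) v.1)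
      rcases X.orbit_sign (P.mem e) (T.piFix_inv hz) with hneg | hpos
      · refine Or.inr fun x hx => hUm ?_
        rw [Subgroup.coe_mul, Subgroup.coe_mul, Subgroup.coe_inv, ← Subgroup.coe_inv]
        have h := conj_over (over_inv (over_mul (hnO e) hgz))
          (L' := Facts.posL D) (fun r hr => ⟨(T.mem_orbL hr).2, ?_⟩) hx
        · change _ ∈ (hF.tsys F).US (Facts.posL D)
          simpa using h
        · refine Facts.mem_posL.2 ⟨?_, Fin.isLt _⟩
          obtain ⟨h1, h2⟩ := T.wO_L X.hOs (P.mem e) (r := ⟨r, (T.mem_orbL hr).2⟩) hr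
          rw [_root_.mul_inv_rev, inv_eq_of_mul_eq_one_right (T.wO_sq X.hOs (P.mem e)), mul_smul]
          have h3 := hneg _ (hF.neg_lt (Fin.isLt _)) h2
          change z⁻¹ • hF.refSys.neg _ ∉ hF.refSys.P at h3
          rw [RefSystem.smul_neg, hF.refSys.neg_mem, not_not] at h3
          simpa [Facts.refSys] using h3
      · refine Or.inl fun x hx => hUm ?_
        rw [Subgroup.coe_mul, Subgroup.coe_mul, Subgroup.coe_inv]
        have h := conj_over (over_inv hgz) (L' := Facts.posL D)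
          (fun r hr => ⟨(T.mem_orbL hr).2, ?_⟩) hx
        · change _ ∈ (hF.tsys F).US (Facts.posL D)
          simpa using h
        · refine Facts.mem_posL.2 ⟨?_, Fin.isLt _⟩
          simpa [Facts.refSys] using hpos r (T.mem_orbL hr).2 hr
    · intro e x hx hne'
      obtain ⟨t, ht⟩ := P.up_surj e (x : ↥X.G1) hx
      have hst : s x = ψ e (upS t) :=
        lift_unique σ hc hp' (by rw [(hsec x).1, (hψ e).1, ht]) (hsec x).2 ((hψ e).2.1 t)
      have ht0 : t ≠ 0 := by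
        rintro rfl
        rw [upS_zero, map_one] at ht
        exact hne' (Subtype.ext ht.symm)
      obtain ⟨x1, hx1⟩ : ∃ x1 : Usub X, (x1 : ↥X.G1) = φ e (upS (-t⁻¹)) :=
        ⟨⟨_, hXU e (P.up_mem e _)⟩, rfl⟩
      have hs1 : s x1 = ψ e (upS (-t⁻¹)) :=
        lift_unique σ hc hp' (by rw [(hsec x1).1, (hψ e).1, hx1]) (hsec x1).2 ((hψ e).2.1 _)
      refine ⟨x1, x1, ψ e (dgS (Units.mk0 t ht0)⁻¹), part_le_Tor e (Subgroup.mem_inf.2 ⟨?_, ?_⟩), ?_, ?_⟩
      · rw [hR]; exact ⟨_, rfl⟩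
      · rw [Subgroup.mem_comap, (hψ e).1]; exact P.dg e _
      · rw [hx1]; exact P.up_mem e _
      · rw [show n e = ψ e antS from congrFun hn e, hst, hs1, ← map_inv, ← map_mul, ← map_mul, ← map_mul,
          ← map_mul, ← map_mul]
        congr 1
        have := ant_up_eq (Units.mk0 t ht0)
        simpa using this
    · intro g hg hgU
      have hgz := hw ⟨g, hg⟩
      obtain ⟨a, ha, he⟩ := hgz
      have hB : (σ g : GL D.Idx F) ∈ (hF.tsys F).B := (hF.tsys F).U_le_B hgU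
      obtain ⟨h1, -, -⟩ := hF.bruhat_unique (F := F) (w := (w ⟨g, hg⟩).1) (v := 1) (b := a) (u := 1)
        (b' := (σ g : GL D.Idx F) * ((hF.tsys F).nW 1)⁻¹) (u' := 1) ((hF.tsys F).H_le_B ha)
        (mul_mem hB ((hF.tsys F).H_le_B (inv_mem (hF.tsys F).nW_one))) (one_mem _) (one_mem _)
        (by rw [inv_mul_cancel_right, he])
      have hgH : σ g ∈ Hsub X := (mem_H_iff (hw ⟨g, hg⟩)).2 h1
      exact ⟨hTor g hg hgH, Subtype.ext (hF.U_inter_H hgU hgH)⟩
    · rw [eq_top_iff]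
      rintro g -
      obtain ⟨v, hv, u, hu, huG, a, ha, hn', x, hx, hxG, he⟩ := X.decomp g.2
      obtain ⟨g0, hg0⟩ := hχ ⟨v, hv⟩
      have ho : Over X (⟨_, hn'⟩ : ↥X.G1) v := ⟨a, ha, rfl⟩
      have hH : (σ g0)⁻¹ * ⟨_, hn'⟩ ∈ Hsub X := by
        rw [mem_H_iff (over_mul (over_inv (hw g0)) ho)]
        rw [show (w g0).1 = v from congrArg Subtype.val hg0, inv_mul_cancel]
      obtain ⟨h0, hh0, hh0e⟩ := hHT hH
      rw [show g = ⟨u, huG⟩ * ⟨_, hn'⟩ * ⟨x, hxG⟩ from Subtype.ext he]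
      have hxU : (x : GL D.Idx F) ∈ (hF.tsys F).U :=
        CommSys.US_mono _ (fun r hr => Facts.mem_posL.2 ((TorusSys.closed_invList _).mem_pos r hr)) hx
      refine mul_mem (mul_mem (Subgroup.subset_closure (Or.inl (hUm hu))) ?_)
        (Subgroup.subset_closure (Or.inl (hUm hxU)))
      refine Subgroup.subset_closure (Or.inr ⟨g0 * h0, mul_mem g0.2 (hN ▸ Tor_le_Mon hh0), ?_⟩)
      rw [map_mul, hh0e, mul_inv_cancel_left]
  have h1 := T0.card_dvd hHT
  rw [inf_eq_right.2 hle] at h1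
  refine h1.trans (dvd_of_eq (Finset.prod_congr rfl fun e _ => ?_))
  rw [hR]
  exact card_part P σ e (hψ e).1

end Cfsg.Agent.Lie.TwistMult.RankOrbit
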